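import Cfsg.Agent.H9.F3b

/-! Groups with a self-centralizing element of order three: maximal invariant `2`-subgroups. -/

set_option autoImplicit false

namespace Cfsg.Agent.H9.F3

open Subgroup H6 H7 H8 GW MS

variable {G : Type*} [Group G] [Finite G]

/-- `u` is an involution such that `u w` has order three. -/
structure Gd (w u : G) : Prop where
  sq : u * u = 1
  ne : u ≠ 1
  cube : u * w * (u * w) * (u * w) = 1

omit [Finite G] in
theorem sq_of_isConj {t u : G} (ht : t * t = 1) (h : IsConj t u) : u * u = 1 := by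
  obtain ⟨c, rfl⟩ := isConj_iff.mp h
  simp [mul_assoc, ← mul_assoc t, ht]

omit [Finite G] in
theorem ne_of_isConj {t u : G} (ht : t ≠ 1) (h : IsConj t u) : u ≠ 1 := fun e =>
  ht (isConj_one_left.mp (e ▸ h))

namespace SC

variable {w : G} (h : SC w)
include h

omit [Finite G] in
theorem sub {H : Subgroup G} (hw : w ∈ H) : SC (⟨w, hw⟩ : H) :=
  ⟨fun e => h.ne (congrArg Subtype.val e), Subtype.ext h.cube, fun g hg => by
    rcases h.cen g (congrArg Subtype.val hg) with e | e | e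
    · exact Or.inl (Subtype.ext e)
    · exact Or.inr (Or.inl (Subtype.ext e))
    · exact Or.inr (Or.inr (Subtype.ext e))⟩

theorem map {X : Type*} [Group X] [Finite X] (f : G →* X) (hf : Function.Surjective f)
    (h1 : f w ≠ 1) : SC (f w) :=
  SC.of_card h1 (by rw [← map_mul, ← map_mul, h.cube, map_one])
    ((card_Cz_map_le f hf w).trans h.card.le)

omit [Finite G] in
theorem inverter {x u : G} (hx : x * w * x⁻¹ = w⁻¹) (hu : u * w * u⁻¹ = w⁻¹) :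
    u = x ∨ u = x * w ∨ u = x * w⁻¹ := by
  rcases h.cen (x⁻¹ * u) (by
    calc x⁻¹ * u * w = x⁻¹ * (u * w * u⁻¹) * u := by group
      _ = _ := by rw [hu, ← hx]; group) with e | e | e
  · exact Or.inl (inv_mul_eq_one.mp e).symm
  · exact Or.inr (Or.inl (inv_mul_eq_iff_eq_mul.mp e))
  · exact Or.inr (Or.inr (inv_mul_eq_iff_eq_mul.mp e))

omit [Finite G] in
theorem inverter_ne {x : G} (hx : x * w * x⁻¹ = w⁻¹) : x ≠ 1 := fun e =>
  h.ne_inv (by simpa [e] using hx)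

omit [Finite G] in
theorem inverter_inv {x : G} (hx : x * w * x⁻¹ = w⁻¹) : x * w⁻¹ * x⁻¹ = w := by
  rw [show x * w⁻¹ * x⁻¹ = (x * w * x⁻¹)⁻¹ by group, hx, inv_inv]

omit [Finite G] in
theorem inverter_sq {x : G} (hx : x * w * x⁻¹ = w⁻¹) : x * x = 1 := by
  have h1 := h.inverter_inv hx
  rcases h.cen (x * x) (by
    calc x * x * w = x * (x * w * x⁻¹) * x⁻¹ * (x * x) := by group
      _ = _ := by rw [hx, h1]) with e | e | e
  · exact e
  · exact absurd (by rw [← hx, ← e]; group) h.ne_inv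
  · exact absurd (by
      calc w⁻¹ = x * (x * x) * x⁻¹ := by rw [← e]; group
        _ = w := by rw [e, h1]) h.ne_inv.symm

omit [Finite G] in
theorem inverter_conj {x u : G} (hx : x * w * x⁻¹ = w⁻¹) (hu : u * w * u⁻¹ = w⁻¹) : IsConj x u := by
  have h1 : x⁻¹ * w * x = w⁻¹ := by
    calc x⁻¹ * w * x = x⁻¹ * (x * w⁻¹ * x⁻¹) * x := by rw [h.inverter_inv hx]
      _ = _ := by group
  rcases h.inverter hx hu with rfl | rfl | rfl
  · exact IsConj.refl _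
  · refine isConj_iff.mpr ⟨w, ?_⟩
    calc w * x * w⁻¹ = x * (x⁻¹ * w * x * w⁻¹) := by group
      _ = _ := by rw [h1, h.inv.sq, inv_inv]
  · refine isConj_iff.mpr ⟨w⁻¹, ?_⟩
    calc w⁻¹ * x * w⁻¹⁻¹ = x * ((x⁻¹ * w * x)⁻¹ * w) := by group
      _ = _ := by rw [h1, inv_inv, h.sq]

omit [Finite G] h in
theorem inverts {u : G} (h1 : u * u = 1) (h2 : u * w * (u * w) = 1) : u * w * u⁻¹ = w⁻¹ := by
  rw [inv_eq_of_mul_eq_one_right h1]
  exact eq_inv_of_mul_eq_one_left (by rw [← h2, mul_assoc (u * w)])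

theorem ncard_inverter {x : G} (hx : x * w * x⁻¹ = w⁻¹) :
    {u | IsConj x u ∧ IsConj x (u * w)}.ncard = 3 := by
  have h1 : ∀ u, u = x ∨ u = x * w ∨ u = x * w⁻¹ → u * w * u⁻¹ = w⁻¹ := by
    rintro u (rfl | rfl | rfl)
    · exact hx
    · rw [← hx]; group
    · exact Eq.trans (by group) hx
  rw [show {u | IsConj x u ∧ IsConj x (u * w)} = {x, x * w, x * w⁻¹} from Set.ext fun u =>
    ⟨fun hu => h.inverter hx (inverts (sq_of_isConj (h.inverter_sq hx) hu.1)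
      (sq_of_isConj (h.inverter_sq hx) hu.2)), fun hu => ⟨h.inverter_conj hx (h1 u hu),
        h.inverter_conj hx (by rw [← h1 u hu]; group)⟩⟩]
  exact Set.ncard_eq_three.mpr ⟨_, _, _, by simpa using h.ne, by simpa using h.ne,
    by simpa using h.ne_inv, rfl⟩

theorem isConj_of_ne {d : ℤ} {a : G → ℤ} (c : CH w d a) {x t : G} (hx : x * w * x⁻¹ = w⁻¹)
    (ht : t * t = 1) (h1 : a t ≠ d) (h2 : a x ≠ d) : IsConj x t := by
  have := c.pair t x ht (h.inverter_sq hx)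
  have h0 : {u | IsConj t u ∧ IsConj x (u * w)}.ncard ≠ 0 := fun e => by
    rw [e] at this
    simp [(Nat.card_pos (α := G)).ne', sub_eq_zero, h1.symm, h2.symm] at this
  obtain ⟨u, hu⟩ := Set.nonempty_of_ncard_ne_zero h0
  exact (h.inverter_conj hx (inverts (sq_of_isConj ht hu.1)
    (sq_of_isConj (h.inverter_sq hx) hu.2))).trans hu.1.symm

omit [Finite G] in
theorem gd_of_conj {t u : G} (ht : t * t = 1) (t1 : t ≠ 1) (h1 : IsConj t u)
    (h2 : IsConj w (u * w)) : Gd w u := by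
  obtain ⟨c, hc⟩ := isConj_iff.mp h2
  exact ⟨sq_of_isConj ht h1, ne_of_isConj t1 h1, hc ▸ (h.conj c).cube⟩

theorem conj_of_gd {x u : G} (hx : x * w * x⁻¹ = w⁻¹) (hu : Gd w u) : IsConj w (u * w) := by
  haveI : Fact (Nat.Prime 3) := ⟨Nat.prime_three⟩
  have : orderOf (u * w) = 3 := orderOf_eq_prime (by rw [pow_three', hu.cube]) fun e => by
    have := hu.sq
    rw [eq_inv_of_mul_eq_one_left e] at this
    exact h.inv.ne_inv (eq_inv_of_mul_eq_one_left this)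
  obtain ⟨g, -, e | e⟩ := h.conj_of_dvd (mem_top w) (mem_top (u * w)) (by rw [this])
  · exact (isConj_iff.mpr ⟨g, e⟩).symm
  · exact (isConj_iff.mpr ⟨x, hx⟩).trans (isConj_iff.mpr ⟨g, e⟩).symm

theorem gd_of_iv {L : Subgroup G} (hL : Iv w L) {u : G} (hu : u ∈ L) (h1 : u * u = 1) (h2 : u ≠ 1) :
    Gd w u := ⟨h1, h2, (h.mul hL hu).cube⟩

theorem two_of_gd {u : G} (hu : Gd w u) : IsPGroup 2 ↥(zpowers u ⊔ zpowers (w * u * w⁻¹)) ∧
    w ∈ normalizer ((zpowers u ⊔ zpowers (w * u * w⁻¹) : Subgroup G) : Set G) := by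
  have h1 : u * (w * u * w⁻¹) * (w * (w * u * w⁻¹) * w⁻¹) = 1 := by
    calc _ = u * w * (u * w) * (u * w) * (w * w * w)⁻¹ := by group
      _ = _ := by rw [hu.cube, h.cube]; group
  have h2 := eq_inv_of_mul_eq_one_right h1
  have s1 := sq_of_isConj hu.sq (isConj_iff.mpr ⟨w, rfl⟩)
  have s2 := sq_of_isConj s1 (isConj_iff.mpr ⟨w, rfl⟩)
  refine two_aux (comm_of_sq hu.sq s1 ?_) h2 ⟨1, by rw [pow_one, pow_two, hu.sq]⟩
  rw [h2, ← mul_inv_rev, inv_eq_one] at s2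
  exact s2

theorem small {x : G} (hx : x * w * x⁻¹ = w⁻¹) (hn : ∀ u, ¬ Gd w u) : ¬ 4 ∣ Nat.card G := by
  obtain ⟨d, a, c⟩ := exists_ch h (isConj_iff.mpr ⟨x, hx⟩)
  have g0 : (Nat.card G : ℤ) ≠ 0 := by exact_mod_cast (Nat.card_pos (α := G)).ne'
  have key : ∀ t, t * t = 1 → t ≠ 1 → d = 1 ∧ a t = -1 := fun t ht t1 => by
    have h1 := c.good t ht
    rw [show {u | IsConj t u ∧ IsConj w (u * w)} = ∅ from Set.eq_empty_of_forall_notMem fun u hu =>
      hn u (h.gd_of_conj ht t1 hu.1 hu.2)] at h1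
    simp only [Set.ncard_empty, Nat.cast_zero, zero_mul] at h1
    have h2 := (mul_eq_zero.mp h1.symm).resolve_left g0
    have h3 : (2 * d + 1) * (4 * a t + 2 * d + 3) = 3 := by linear_combination 4 * h2
    have h4 := Int.le_of_dvd (by norm_num) (Dvd.intro _ h3)
    have h5 : d = 1 := by have := c.pos; omega
    subst h5
    exact ⟨rfl, by omega⟩
  have x2 := h.inverter_sq hx
  have x1 := h.inverter_ne hx
  obtain ⟨rfl, ax⟩ := key x x2 x1
  obtain ⟨S⟩ : Nonempty (Sylow 2 G) := inferInstance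
  obtain ⟨z, -, z2, hz⟩ := exists_central_involution_sylow S (orderOf_two_of x1 x2)
  have zz := mul_self_of_orderOf_two z2
  have hc := h.isConj_of_ne c hx zz (by rw [(key z zz (ne_one_of_orderOf_two z2)).2]; decide)
    (by rw [ax]; decide)
  have h1 := c.pair x x x2 x2
  have h2 : ¬ 2 ∣ (Cz z).index := fun e => S.not_dvd_index (e.trans (index_dvd_of_le fun s hs =>
    mem_centralizer_singleton_iff.mpr (hz s hs)))
  rw [h.ncard_inverter hx, ax, card_centralizer_eq_of_isConj hc, ← (Cz z).index_mul_card] at h1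
  rw [← (Cz z).index_mul_card]
  have h3 : (0 : ℤ) < Nat.card (Cz z) := by exact_mod_cast Nat.card_pos
  have h4 : 3 * (Nat.card (Cz z) : ℤ) = 2 * (Cz z).index := by
    push_cast at h1
    nlinarith
  intro h5
  have h6 : Nat.Coprime 4 (Cz z).index :=
    Nat.Coprime.pow_left 2 ((Nat.Prime.coprime_iff_not_dvd Nat.prime_two).mpr h2)
  have := h6.dvd_of_dvd_mul_left h5
  omega

theorem hnc (hn : ∀ x, x * w * x⁻¹ ≠ w⁻¹) : HasNormalPComplement 3 G := by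
  haveI : Fact (Nat.Prime 3) := ⟨Nat.prime_three⟩
  obtain ⟨P, hP⟩ := (h.sylow (mem_top _)).exists_sylow_top
  refine hasNormalPComplement_of_normalizer_le_centralizer P ?_
  rw [hP, centralizer_zpowers]
  intro n hn'
  rcases h.mem_zp.mp (conj_mem_of_mem_normalizer hn' (mem_zpowers _)) with e | e | e
  · exact absurd (by simpa using e) h.ne
  · exact mem_of_conj e
  · exact absurd e (hn n)

theorem nr {H : Subgroup G} (hw : w ∈ H) (hn : ∀ x ∈ H, x * w * x⁻¹ ≠ w⁻¹) :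
    ∃ K, K ≤ H ∧ Iv w K ∧ (∀ y ∈ H, ¬ 3 ∣ orderOf y → y ∈ K) ∧
      ∀ y ∈ H, ∃ k ∈ K, ∃ p ∈ zpowers w, y = p * k := by
  haveI : Fact (Nat.Prime 3) := ⟨Nat.prime_three⟩
  have hs := h.sub hw
  obtain ⟨P, hP⟩ := (hs.sylow (mem_top _)).exists_sylow_top
  have h1 := hs.hnc fun n e => hn n n.2 (congrArg Subtype.val e)
  have cop : ∀ y : H, y ∈ pResidual 3 H ↔ ¬ 3 ∣ orderOf (y : G) := fun y => by
    rw [HasNormalPComplement.mem_pResidual_iff h1, Nat.coprime_comm,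
      Nat.prime_three.coprime_iff_not_dvd, orderOf_coe]
  refine ⟨(pResidual 3 H).map H.subtype, map_subtype_le _, ⟨mem_normalizer_of_conj_mem ?_, ?_⟩,
    fun y a b => ⟨⟨y, a⟩, (cop _).mpr b, rfl⟩, fun y hy => ?_⟩
  · rintro _ ⟨y, hy, rfl⟩
    exact ⟨_, pResidual_normal.conj_mem y hy ⟨w, hw⟩, rfl⟩
  · rintro ⟨y, hy, e⟩
    exact (cop y).mp hy (by rw [show (y : G) = w from e, h.order])
  · obtain ⟨⟨p, k⟩, e⟩ := (HasNormalPComplement.isComplement' h1 P).symm.2 ⟨y, hy⟩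
    refine ⟨k, ⟨k, k.2, rfl⟩, p, ?_, (congrArg Subtype.val e).symm⟩
    obtain ⟨i, hi⟩ := hP.le p.2
    exact ⟨i, congrArg Subtype.val hi⟩

theorem cj_cases {Q : Subgroup G} {g x : G} (hx : x * w * x⁻¹ = w⁻¹) (h1 : w ∈ normalizer (Q : Set G))
    (h2 : w ∈ normalizer ((cj g Q : Subgroup G) : Set G)) : cj g Q = Q ∨ cj g Q = cj x Q := by
  rw [← cj_normalizer, mem_cj] at h2
  obtain ⟨k, hk, e⟩ := h.conj_of_dvd h1 h2 (by
    rw [show g⁻¹ * w * g = g⁻¹ * w * g⁻¹⁻¹ by rw [inv_inv], H9.orderOf_conj, h.order])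
  have e1 : cj g Q = cj (g * k⁻¹) Q := by rw [cj_mul, cj_eq_self (inv_mem hk)]
  have zN : zpowers w ≤ normalizer (Q : Set G) := zpowers_le.mpr h1
  rw [e1]
  rcases e with e | e
  · refine Or.inl (cj_eq_self (zN (h.mem_zp.mpr (h.cen _ ?_))))
    calc g * k⁻¹ * w = g * k⁻¹ * (k * (g⁻¹ * w * g) * k⁻¹) := by rw [e]
      _ = _ := by group
  · right
    rcases h.inverter (u := g * k⁻¹) hx (by
      calc g * k⁻¹ * w * (g * k⁻¹)⁻¹ = g * k⁻¹ * (k * (g⁻¹ * w * g) * k⁻¹)⁻¹ * (g * k⁻¹)⁻¹ := by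
            rw [e, inv_inv]
        _ = _ := by group) with e | e | e <;> rw [e]
    · rw [cj_mul, cj_eq_self h1]
    · rw [cj_mul, cj_eq_self (inv_mem h1)]

end SC

theorem not_three_dvd {r : G} (h2 : ∃ k, r ^ 2 ^ k = 1) : ¬ 3 ∣ orderOf r := fun e => by
  obtain ⟨k, hk⟩ := h2
  have := Nat.prime_three.dvd_of_dvd_pow (e.trans (orderOf_dvd_of_pow_eq_one hk))
  omega

/-- `Q` is a maximal `w`-invariant `2`-subgroup. -/
structure MQ (w : G) (Q : Subgroup G) : Prop where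
  sc : SC w
  pg : IsPGroup 2 Q
  nm : w ∈ normalizer (Q : Set G)
  max : ∀ R : Subgroup G, IsPGroup 2 R → w ∈ normalizer (R : Set G) → Q ≤ R → R ≤ Q

theorem SC.exists_mq {w : G} (h : SC w) {R : Subgroup G} (hR : IsPGroup 2 R)
    (hw : w ∈ normalizer (R : Set G)) : ∃ Q, MQ w Q ∧ R ≤ Q := by
  obtain ⟨Q, h1, h2⟩ := Finite.exists_le_maximal
    (p := fun Q : Subgroup G => IsPGroup 2 Q ∧ w ∈ normalizer (Q : Set G)) ⟨hR, hw⟩
  exact ⟨Q, ⟨h, h2.1.1, h2.1.2, fun R a b c => h2.2 ⟨a, b⟩ c⟩, h1⟩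

namespace MQ

variable {w : G} {Q : Subgroup G} (h : MQ w Q)
include h

omit [Finite G] in
theorem iv : Iv w Q := h.sc.iv h.pg h.nm

omit [Finite G] in
theorem inv : MQ w⁻¹ Q :=
  ⟨h.sc.inv, h.pg, inv_mem h.nm, fun R a b c => h.max R a (inv_mem_iff.mp b) c⟩

omit [Finite G] in
theorem cj (g : G) : MQ (g * w * g⁻¹) (cj g Q) := by
  refine ⟨h.sc.conj g, pgroup_cj h.pg g, by rw [← cj_normalizer]; exact conj_mem_cj g h.nm,
    fun R a b c => ?_⟩
  rw [← cj_cj_inv g R, cj_le_cj_iff]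
  refine h.max _ (pgroup_cj a _) ?_ (cj_le_iff.mp c)
  rw [← cj_normalizer, mem_cj, inv_inv]
  exact b

theorem mem_of_iv {L : Subgroup G} (hL : Iv w L) (hN : L ≤ normalizer (Q : Set G)) {r : G}
    (hr : r ∈ L) (h2 : ∃ k, r ^ 2 ^ k = 1) : r ∈ Q := by
  obtain ⟨R, h1, h3, h4, h5⟩ := h.sc.exists_two hL hr h2
  exact h.max (R ⊔ Q) (IsPGroup.to_sup_of_normal_right' h4 h.pg (h3.trans hN)) (nm_sup h5 h.nm)
    le_sup_right (mem_sup_left h1)

theorem mem_of_cz {r u : G} (hr : r ∈ normalizer (Q : Set G)) (h2 : ∃ k, r ^ 2 ^ k = 1) (hu : u ∈ Q)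
    (u1 : u ≠ 1) (c1 : r ∈ Cz u) (c2 : r ∈ Cz (w * u * w⁻¹)) : r ∈ Q :=
  h.mem_of_iv ((h.sc.iv_cz h.iv hu u1).inf (nm_nm h.nm)) inf_le_right
    (mem_inf.mpr ⟨mem_inf.mpr ⟨c1, c2⟩, hr⟩) h2

theorem real {r : G} (hr : r ∈ normalizer (Q : Set G)) (h2 : ∃ k, r ^ 2 ^ k = 1) (hQ : r ∉ Q) :
    ∃ x ∈ normalizer (Q : Set G), x * w * x⁻¹ = w⁻¹ := by
  by_contra hn
  obtain ⟨K, h1, h3, h4, -⟩ := h.sc.nr h.nm fun x hx e => hn ⟨x, hx, e⟩
  exact hQ (h.mem_of_iv h3 h1 (h4 r hr (not_three_dvd h2)) h2)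

theorem card_le {T : Subgroup G} (hT : IsPGroup 2 T) (h1 : Q ≤ T) (h2 : T ≤ normalizer (Q : Set G)) :
    Nat.card T ≤ 2 * Nat.card Q := by
  by_cases hle : T ≤ Q
  · have := card_le_of_le hle; omega
  obtain ⟨r, hr, hr'⟩ := SetLike.not_le_iff_exists.mp hle
  obtain ⟨x, hx, e⟩ := h.real (h2 hr) (exists_pow_eq_one_of_mem hT hr) hr'
  let π := QuotientGroup.mk' (Q.subgroupOf (normalizer (Q : Set G)))
  have k1 : ∀ a : normalizer (Q : Set G), π a = 1 ↔ (a : G) ∈ Q := fun a =>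
    QuotientGroup.eq_one_iff a
  have hs := (h.sc.sub h.nm).map π (QuotientGroup.mk'_surjective _) fun e => h.iv.out ((k1 _).mp e)
  have h4 := hs.small (x := π ⟨x, hx⟩) (by
    rw [← map_inv, ← map_mul, ← map_mul, ← map_inv]; congr 1; exact Subtype.ext e) fun u hu => by
    obtain ⟨p1, p2⟩ := hs.two_of_gd hu
    obtain ⟨v, rfl⟩ := QuotientGroup.mk'_surjective _ u
    refine hu.ne ((k1 v).mpr (h.max (((zpowers (π v) ⊔ zpowers (π ⟨w, h.nm⟩ * π v * (π ⟨w, h.nm⟩)⁻¹)).comap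
      π).map (normalizer (Q : Set G)).subtype) (IsPGroup.map (p1.comap_of_ker_isPGroup π ?_) _)
      (mem_normalizer_of_conj_mem ?_) (fun q hq => ⟨⟨q, le_normalizer hq⟩, ?_, rfl⟩)
      ⟨v, mem_sup_left (mem_zpowers _), rfl⟩))
    · rw [QuotientGroup.ker_mk']; exact pgroup_subgroupOf h.pg _
    · rintro _ ⟨y, hy, rfl⟩
      refine ⟨⟨w, h.nm⟩ * y * (⟨w, h.nm⟩ : normalizer (Q : Set G))⁻¹, ?_, rfl⟩
      rw [SetLike.mem_coe, mem_comap, map_mul, map_mul, map_inv]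
      exact conj_mem_of_mem_normalizer p2 hy
    · rw [SetLike.mem_coe, mem_comap, (k1 ⟨q, _⟩).mpr hq]; exact one_mem _
  have h5 : ¬ 4 ∣ Q.relIndex T := fun e => h4 (e.trans (Dvd.intro _ (relIndex_mul_relIndex Q T _ h1 h2)))
  obtain ⟨k, hk⟩ := hT.exists_card_eq
  obtain ⟨j, -, hj⟩ := (Nat.dvd_prime_pow Nat.prime_two).mp (hk ▸ Dvd.intro_left _ (card_mul_relIndex h1))
  rw [← card_mul_relIndex h1, mul_comm, hj]
  refine Nat.mul_le_mul_right _ ?_
  rw [hj] at h5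
  rcases j with _ | _ | j
  · decide
  · decide
  · exact absurd ⟨2 ^ j, by ring⟩ h5

end MQ

theorem le_nm_of_card {Q T : Subgroup G} (h1 : Q ≤ T) (h2 : Nat.card T ≤ 2 * Nat.card Q) :
    T ≤ normalizer (Q : Set G) := fun g hg => by
  by_cases e : g ∈ Q
  · exact le_normalizer e
  · exact mem_normalizer_of_conj_mem fun x hx =>
      (conj_mem_iff_of_relIndex_two (idx2 h1 h2 hg e) (h1 hx) hg).mpr hx

theorem pu {w v : G} {Q R T : Subgroup G} (hQ : MQ w Q) (hR : MQ v R) (hT : IsPGroup 2 T)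
    (h1 : Q ≤ T) (h2 : R ≤ T) (c1 : Nat.card T ≤ 2 * Nat.card Q) (c2 : Nat.card T ≤ 2 * Nat.card R)
    (hne : ¬ R ≤ Q) (h0 : Q ≠ ⊥) : Nat.card R ≤ 4 := by
  obtain ⟨r, hr, hr'⟩ := SetLike.not_le_iff_exists.mp hne
  have n1 := le_nm_of_card h1 c1
  have n2 := le_nm_of_card h2 c2
  obtain ⟨z, hz, z1, hc, -⟩ := exists_ne_one_centralized hT hQ.pg n1 h0
  have hz' := hQ.iv.cj hz
  have k1 : Q ≤ Cz (w * z * w⁻¹) := fun q hq => by
    have := conj_mem_Cz (g := w) (mem_centralizer_singleton_iff.mpr (hc _ (h1 (hQ.iv.inv.cj hq))))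
    simpa [mul_assoc] using this
  have k2 : Nat.card R ≤ 2 * Nat.card ↥(Q ⊓ R) := card_le_of_mul_mem inf_le_right hr fun s hs hs' =>
    mem_inf.mpr ⟨mul_mem2 h1 c1 (h2 hs) (h2 hr) (fun e => hs' (mem_inf.mpr ⟨e, hs⟩)) hr', mul_mem hs hr⟩
  have p0 : 0 < Nat.card ↥(Q ⊓ R) := Nat.card_pos
  by_cases e : w * z * w⁻¹ ∈ R
  · exfalso
    by_cases e2 : R ≤ R ⊓ Cz (w * z * w⁻¹)
    · exact hr' (hQ.mem_of_cz (n1 (h2 hr)) (exists_pow_eq_one_of_mem hR.pg hr) hz z1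
        (mem_centralizer_singleton_iff.mpr (hc r (h2 hr))) (e2 hr).2)
    · have k3 := hR.sc.four_mul_le (hR.sc.iv_inf_cz hR.iv e) hR.iv inf_le_left e2
      have k4 : Nat.card ↥(Q ⊓ R) ≤ Nat.card ↥(R ⊓ Cz (w * z * w⁻¹)) :=
        card_le_of_le (le_inf inf_le_right (inf_le_left.trans k1))
      omega
  · have k3 := card_mul_card_le_of_disjoint (A := Q ⊓ R) (B := cj v⁻¹ (Q ⊓ R)) (K := R) inf_le_right
      (cj_le_of_mem_normalizer (inv_mem hR.nm) inf_le_right) (by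
        rw [eq_bot_iff]
        intro u hu
        by_contra u1
        have := mem_cj.mp hu.2
        rw [inv_inv] at this
        exact e (hR.mem_of_cz (n2 (h1 hz')) (exists_pow_eq_one_of_mem hQ.pg hz') hu.1.2 u1
          (Cz_symm (k1 hu.1.1)) (Cz_symm (k1 this.1))))
    rw [card_cj] at k3
    have : Nat.card ↥(Q ⊓ R) ≤ 2 := by nlinarith
    omega

end Cfsg.Agent.H9.F3
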