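import Cfsg.Agent.H9.Extra
import Cfsg.Agent.H9.Fusion
import Cfsg.Agent.H6.Transfer
import Cfsg.Agent.H8.Hyperplane
import Cfsg.Agent.L0.Core

/-! The transfer as a product of a cocycle over orbits; large extraspecial subgroups. -/

set_option autoImplicit false

namespace Cfsg.Agent.H9

open Subgroup

variable {G : Type*} [Group G]

section

variable {Ω : Type*} [MulAction G Ω] {A : Type*} [CommGroup A]

/-- A cocycle of the action on `Ω` with values in `A`. -/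
def IsCoc (c : G → Ω → A) : Prop := ∀ g h ω, c (g * h) ω = c g (h • ω) * c h ω

open Classical in
/-- The orbit of `ω` under `X`, as a finset. -/
noncomputable def orb [Fintype Ω] (X : Subgroup G) (ω : Ω) : Finset Ω :=
  Finset.univ.filter fun ω' => ∃ x ∈ X, x • ω = ω'

theorem mem_orb [Fintype Ω] {X : Subgroup G} {ω ω' : Ω} : ω' ∈ orb X ω ↔ ∃ x ∈ X, x • ω = ω' := by
  simp [orb]

theorem smul_mem_orb [Fintype Ω] {X : Subgroup G} {ω : Ω} {y : G} (hy : y ∈ X) :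
    ∀ ω' ∈ orb X ω, y • ω' ∈ orb X ω := fun ω' h => by
  obtain ⟨x, hx, rfl⟩ := mem_orb.mp h
  exact mem_orb.mpr ⟨y * x, mul_mem hy hx, mul_smul _ _ _⟩

theorem prod_smul_of_inv {O : Finset Ω} {h : G} (hO : ∀ ω ∈ O, h • ω ∈ O) (f : Ω → A) :
    ∏ ω ∈ O, f (h • ω) = ∏ ω ∈ O, f ω := by
  classical
  rw [← Finset.prod_image (s := O) (g := fun ω => h • ω) (f := f)
    (fun a _ b _ hab => smul_left_cancel h hab), Finset.eq_of_subset_of_card_le
      (Finset.image_subset_iff.mpr hO) (Finset.card_image_of_injective _ (MulAction.injective h)).ge]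

theorem prod_eq_one_of_orb [Fintype Ω] {X : Subgroup G} {O : Finset Ω}
    (hO : ∀ x ∈ X, ∀ ω ∈ O, x • ω ∈ O) {f : Ω → A} (h : ∀ ω ∈ O, ∏ ω' ∈ orb X ω, f ω' = 1) :
    ∏ ω ∈ O, f ω = 1 := by
  classical
  refine Finset.prod_cancels_of_partition_cancels (MulAction.orbitRel X Ω) fun ω hω => ?_
  rw [← h ω hω]
  congr 1
  ext ω'
  rw [Finset.mem_filter, mem_orb, MulAction.orbitRel_apply]
  exact ⟨fun ⟨_, x, hx⟩ => ⟨x, x.2, hx⟩, fun ⟨x, hx, h⟩ => ⟨h ▸ hO x hx ω hω, ⟨x, hx⟩, h⟩⟩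

theorem prod_orb_of_relIndex_two [Fintype Ω] {X M : Subgroup G} (hMX : M ≤ X)
    (hM : M.relIndex X = 2) {a : G} (ha : a ∈ X) (haM : a ∉ M) {ω : Ω}
    (hω : ∀ x ∈ X, x • ω = ω → x ∈ M) (f : Ω → A) :
    ∏ ω' ∈ orb X ω, f ω' = (∏ ω' ∈ orb M ω, f ω') * ∏ ω' ∈ orb M ω, f (a • ω') := by
  classical
  rw [← Finset.prod_image (s := orb M ω) (g := fun ω => a • ω) (f := f)
    (fun b _ c _ hab => smul_left_cancel a hab), ← Finset.prod_union]
  · congr 1
    ext ω'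
    simp only [Finset.mem_union, Finset.mem_image, mem_orb]
    constructor
    · rintro ⟨x, hx, rfl⟩
      by_cases hxM : x ∈ M
      · exact Or.inl ⟨x, hxM, rfl⟩
      · exact Or.inr ⟨_, ⟨a⁻¹ * x, mul_mem_of_relIndex_two hM (inv_mem ha) hx
          (fun h => haM (inv_mem_iff.mp h)) hxM, rfl⟩, by rw [← mul_smul, mul_inv_cancel_left]⟩
    · rintro (⟨x, hx, rfl⟩ | ⟨_, ⟨x, hx, rfl⟩, rfl⟩)
      exacts [⟨x, hMX hx, rfl⟩, ⟨a * x, mul_mem ha (hMX hx), mul_smul _ _ _⟩]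
  · rw [Finset.disjoint_left]
    intro ω' h1 h2
    obtain ⟨x, hx, rfl⟩ := mem_orb.mp h1
    obtain ⟨_, h3, h4⟩ := Finset.mem_image.mp h2
    obtain ⟨y, hy, rfl⟩ := mem_orb.mp h3
    have := hω (x⁻¹ * (a * y)) (mul_mem (inv_mem (hMX hx)) (mul_mem ha (hMX hy)))
      (by rw [mul_smul, mul_smul, h4, inv_smul_smul])
    exact haM ((mul_mem_cancel_right hy).mp ((mul_mem_cancel_left (inv_mem hx)).mp this))

namespace IsCoc

variable {c : G → Ω → A} (hc : IsCoc c)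
include hc

theorem one (ω : Ω) : c 1 ω = 1 := by simpa using hc 1 1 ω

theorem prod_mul {O : Finset Ω} (g : G) {h : G} (hO : ∀ ω ∈ O, h • ω ∈ O) :
    ∏ ω ∈ O, c (g * h) ω = (∏ ω ∈ O, c g ω) * ∏ ω ∈ O, c h ω := by
  simp only [hc g h, Finset.prod_mul_distrib, prod_smul_of_inv hO (c g)]

/-- The partial transfer over an invariant set. -/
def hom {O : Finset Ω} {M : Subgroup G} (hO : ∀ x ∈ M, ∀ ω ∈ O, x • ω ∈ O) : M →* A :=
  MonoidHom.mk' (fun x => ∏ ω ∈ O, c x ω) fun a b => hc.prod_mul a (hO b b.2)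

theorem prod_orb_eq_one [Fintype Ω] (hA : ∀ b : A, b * b = 1) {X M : Subgroup G} (hMX : M ≤ X)
    (hM : M.relIndex X = 2) {a : G} (ha : a ∈ X) (haM : a ∉ M) {ω : Ω}
    (hω : ∀ x ∈ X, x • ω = ω → x ∈ M)
    (h1 : ∀ y ∈ M, ∏ ω' ∈ orb M ω, c (y⁻¹ * (a⁻¹ * y * a)) ω' = 1)
    (h2 : ∏ ω' ∈ orb M ω, c (a * a) ω' = 1) : ∀ x ∈ X, ∏ ω' ∈ orb X ω, c x ω' = 1 := by
  have key : ∀ y ∈ M, ∏ ω' ∈ orb X ω, c y ω' = 1 := fun y hy => by
    have hy' : a⁻¹ * y * a ∈ M := by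
      simpa using (conj_mem_iff_of_relIndex_two hM (hMX hy) (inv_mem ha)).mpr hy
    have e1 := hc.prod_mul a (smul_mem_orb (ω := ω) hy')
    have e2 := hc.prod_mul y (smul_mem_orb (ω := ω) (mul_mem (inv_mem hy) hy'))
    rw [mul_inv_cancel_left, h1 y hy, mul_one] at e2
    rw [show a * (a⁻¹ * y * a) = y * a by group, e2] at e1
    simp only [hc y a, Finset.prod_mul_distrib] at e1
    rw [prod_orb_of_relIndex_two hMX hM ha haM hω, mul_right_cancel (e1.trans (mul_comm _ _)), hA]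
  intro x hx
  by_cases hxM : x ∈ M
  · exact key x hxM
  rw [show x = x * a⁻¹ * a by group, hc.prod_mul _ (smul_mem_orb ha), key _
    (mul_mem_of_relIndex_two hM hx (inv_mem ha) hxM fun h => haM (inv_mem_iff.mp h)), one_mul,
    prod_orb_of_relIndex_two hMX hM ha haM hω, ← h2, mul_comm, ← Finset.prod_mul_distrib]
  simp only [hc a a]

theorem prod_orb_eq_one_of_key [Finite G] [Fintype Ω] (hA : ∀ b : A, b * b = 1) {E N : Subgroup G}
    {ω : Ω} (hω : ∃ e ∈ E, e • ω ≠ ω)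
    (key : ∀ M a, M ≤ N → M.relIndex E = 2 → a ∈ E → a ∉ M →
      (∀ y ∈ M, ∏ ω' ∈ orb M ω, c (y⁻¹ * (a⁻¹ * y * a)) ω' = 1) ∧
        ∏ ω' ∈ orb M ω, c (a * a) ω' = 1) (X : Subgroup G) (hX : IsPGroup 2 X) (hEX : E ≤ X)
    (hXN : X ≤ N) : ∀ x ∈ X, ∏ ω' ∈ orb X ω, c x ω' = 1 := by
  induction X using WellFoundedLT.induction with
  | _ X ih =>
  obtain ⟨e, he, heω⟩ := hω
  obtain ⟨M, h1, hMX, hM⟩ := H8.exists_hyperplane_ge (B := X ⊓ MulAction.stabilizer G ω) hX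
    (lt_of_le_of_ne inf_le_left fun h => heω (h.ge (hEX he)).2)
  have hω' : ∀ x ∈ X, x • ω = ω → x ∈ M := fun x hx h => h1 ⟨hx, h⟩
  have hlt : ¬ X ≤ M := fun h => by rw [relIndex_eq_one.mpr h] at hM; omega
  by_cases hEM : E ≤ M
  · obtain ⟨a, ha, haM⟩ := SetLike.not_le_iff_exists.mp hlt
    have := ih M (lt_of_le_not_ge hMX hlt) (hX.to_le hMX) hEM (hMX.trans hXN)
    refine hc.prod_orb_eq_one hA hMX hM ha haM hω' (fun y hy => this _ (mul_mem (inv_mem hy) ?_))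
      (this _ (mul_self_mem_of_relIndex_two hM ha))
    simpa using (conj_mem_iff_of_relIndex_two hM (hMX hy) (inv_mem ha)).mpr hy
  · obtain ⟨a, ha, haM⟩ := SetLike.not_le_iff_exists.mp hEM
    obtain ⟨h2, h3⟩ := key M a (hMX.trans hXN) (relIndex_eq_two_of ha haM fun s hs hsM =>
      mul_mem_of_relIndex_two hM (hEX hs) (hEX ha) hsM haM) ha haM
    exact hc.prod_orb_eq_one hA hMX hM (hEX ha) haM hω' h2 h3

theorem prod_z {E F : Subgroup G} {z : G} (h : C2 E z) (hF : F ≤ E) {x y : G} (hx : x ∈ F)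
    (hy : y ∈ F) (hxy : x * y ≠ y * x) {O : Finset Ω} (hO : ∀ x ∈ F, ∀ ω ∈ O, x • ω ∈ O) :
    ∏ ω ∈ O, c z ω = 1 := by
  have e := h.eq_of_ne (hF hx) (hF hy) hxy
  have hz : z ∈ F := (mul_mem_cancel_left (mul_mem hy hx)).mp (e ▸ mul_mem hx hy)
  have e1 := hc.prod_mul (y * x) (hO z hz)
  rw [← e, hc.prod_mul x (hO y hy), hc.prod_mul y (hO x hx), mul_comm] at e1
  exact mul_eq_left.mp e1.symm

/-- If `z` dies on `orb M ω`, then the whole of `E` dies on `orb F ω`. -/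
theorem key_of_z {E : Subgroup G} {z : G} (h : ES E z) {O : Finset Ω}
    (hz : ∏ ω ∈ O, c z ω = 1) {a : G} (ha : a ∈ E) :
    (∀ y ∈ E, ∏ ω ∈ O, c (y⁻¹ * (a⁻¹ * y * a)) ω = 1) ∧ ∏ ω ∈ O, c (a * a) ω = 1 := by
  refine ⟨fun y hy => ?_, ?_⟩
  · rcases h.conj_eq (inv_mem ha) hy with h1 | h1 <;> rw [inv_inv] at h1 <;> rw [h1]
    · simp [hc.one]
    · rwa [inv_mul_cancel_left]
  · rcases h.sq_eq ha with h1 | h1 <;> rw [h1]
    · simp [hc.one]
    · exact hz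

end IsCoc

end

/-- The transfer cocycle. -/
noncomputable def coc {H : Subgroup G} {A : Type*} [CommGroup A] (φ : H →* A) (g : G) (ω : G ⧸ H) :
    A := φ ⟨(g • ω).out⁻¹ * g * ω.out, by
      rw [mul_assoc, ← QuotientGroup.eq, QuotientGroup.out_eq', ← smul_eq_mul,
        MulAction.Quotient.mk_smul_out]⟩

theorem isCoc_coc {H : Subgroup G} {A : Type*} [CommGroup A] (φ : H →* A) : IsCoc (coc φ) := by
  intro g h ω
  rw [coc, coc, coc, ← map_mul]
  congr 1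
  ext
  simp [mul_smul, mul_assoc]

theorem C2.relIndex_centralizer_le {Q F : Subgroup G} {z w : G} (h : C2 Q z) (hF : F ≤ Q)
    (hw : w ∈ Q) : (centralizer ({w} : Set G)).relIndex F ∣ 2 := by
  by_cases h1 : F ≤ centralizer ({w} : Set G)
  · simp [relIndex_eq_one.mpr h1]
  obtain ⟨b, hb, hbw⟩ := SetLike.not_le_iff_exists.mp h1
  rw [relIndex_eq_two_of hb hbw fun s hs hsw => ?_]
  rw [mem_centralizer_singleton_iff, eq_comm] at hbw hsw ⊢
  rw [h.comm_mul_iff hw (hF hs) (hF hb)]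
  tauto

theorem ES.card_le_of_comm [Finite G] {E F : Subgroup G} {z a b : G} (h : ES E z) (hF : F ≤ E)
    (ha : a ∈ E) (hb : b ∈ E) (hc : ∀ x ∈ F, ∀ y ∈ F, x * y = y * x)
    (hg : ∀ q ∈ E, q ∈ F ∨ q * a ∈ F ∨ q * b ∈ F ∨ q * a * b ∈ F) :
    Nat.card F ≤ 2 * (centralizer ({a} : Set G) ⊓ centralizer {b}).relIndex F := by
  rw [← card_inf_mul_relIndex (centralizer ({a} : Set G) ⊓ centralizer {b}) F]
  refine Nat.mul_le_mul_right _ ((card_le_of_le (K := zpowers z) ?_).trans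
    (by rw [Nat.card_zpowers, h.orderOf_eq]))
  rintro x ⟨⟨h1, h2⟩, hx⟩
  refine (mem_zpowers_of_mul_self h.sq).mpr (h.center x (hF hx) fun q hq => ?_)
  have hxF : F ≤ centralizer ({x} : Set G) := fun y hy =>
    mem_centralizer_singleton_iff.mpr (hc y hy x hx)
  have h3 : a ∈ centralizer ({x} : Set G) :=
    mem_centralizer_singleton_iff.mpr (mem_centralizer_singleton_iff.mp h1).symm
  have h4 : b ∈ centralizer ({x} : Set G) :=
    mem_centralizer_singleton_iff.mpr (mem_centralizer_singleton_iff.mp h2).symm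
  refine mem_centralizer_singleton_iff.mp ?_
  rcases hg q hq with h5 | h5 | h5 | h5
  exacts [hxF h5, (mul_mem_cancel_right h3).mp (hxF h5), (mul_mem_cancel_right h4).mp (hxF h5),
    (mul_mem_cancel_right h3).mp ((mul_mem_cancel_right h4).mp (hxF h5))]

/-- The large extraspecial set-up. -/
structure LgE (E : Subgroup G) (z : G) : Prop extends ES E z where
  cent : centralizer (E : Set G) ≤ E
  norm : centralizer ({z} : Set G) ≤ normalizer (E : Set G)

theorem LgE.of_pCore [Finite G] {E : Subgroup G} {z : G} (hz : orderOf z = 2)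
    (hE : E = (Cfsg.pCore 2 (centralizer ({z} : Set G))).map (centralizer ({z} : Set G)).subtype)
    (hext : Cfsg.IsExtraspecial 2 E) (hcent : centralizer (E : Set G) ≤ E) : LgE E z := by
  obtain ⟨y, hy⟩ := exists_es_of_isExtraspecial hext
  have h1 : ∀ q ∈ E, q * z = z * q := fun q hq =>
    mem_centralizer_singleton_iff.mp (map_subtype_le _ (hE ▸ hq))
  refine ⟨hy.eq_of_central (hcent h1) (ne_one_of_orderOf_two hz) h1, hcent, fun g hg => ?_⟩
  refine mem_normalizer_of_conj_mem fun x hx => ?_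
  rw [hE] at hx ⊢
  obtain ⟨x, hx, rfl⟩ := hx
  exact ⟨_, (inferInstance : (Cfsg.pCore 2 _).Normal).conj_mem x hx ⟨g, hg⟩, rfl⟩

theorem smul_mk_eq_iff {z g x : G} : x • (g : G ⧸ centralizer ({z} : Set G)) = g ↔
    x * (g * z * g⁻¹) = g * z * g⁻¹ * x := by
  rw [MulAction.Quotient.smul_coe, smul_eq_mul, eq_comm, QuotientGroup.eq,
    mem_centralizer_singleton_iff]
  refine ⟨fun h => ?_, fun h => ?_⟩
  · calc _ = g * (g⁻¹ * (x * g) * z) * g⁻¹ := by group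
      _ = _ := by rw [h]; group
  · calc _ = g⁻¹ * (x * (g * z * g⁻¹)) * g := by group
      _ = _ := by rw [h]; group

theorem LgE.eq_one_of_key [Finite G] {z : G} [Fintype (G ⧸ centralizer ({z} : Set G))] {E : Subgroup G}
    (h : LgE E z) (hres : Cfsg.pResidual 2 G = ⊤) {A : Type*} [CommGroup A]
    (hA : ∀ b : A, b * b = 1) (φ : centralizer ({z} : Set G) →* A) {X : Subgroup G}
    (hX : IsPGroup 2 X) (hEX : E ≤ X) (hXH : X ≤ centralizer ({z} : Set G))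
    (key : ∀ ω : G ⧸ centralizer ({z} : Set G), ω ≠ (1 : G) → ∀ M a, M ≤ X →
      M.relIndex E = 2 → a ∈ E → a ∉ M →
      (∀ y ∈ M, ∏ ω' ∈ orb M ω, coc φ (y⁻¹ * (a⁻¹ * y * a)) ω' = 1) ∧
        ∏ ω' ∈ orb M ω, coc φ (a * a) ω' = 1) {x : G} (hx : x ∈ X) : φ ⟨x, hXH hx⟩ = 1 := by
  classical
  have hc := isCoc_coc φ
  let V : G →* A := MonoidHom.mk' (fun g => ∏ ω, coc φ g ω) fun a b =>
    hc.prod_mul a fun _ _ => Finset.mem_univ _
  have h1 : V x = 1 := (H6.pResidual_le_iff (H := V.ker)).mpr (fun y hy => by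
    obtain ⟨k, hk⟩ := exists_pow_eq_self_of_coprime (x := y) hy.symm
    rw [MonoidHom.mem_ker, ← hk, map_pow, map_pow, pow_two, hA, one_pow]) (hres ▸ mem_top x)
  have hfix : ∀ y ∈ X, y • ((1 : G) : G ⧸ centralizer ({z} : Set G)) = (1 : G) := fun y hy =>
    smul_mk_eq_iff.mpr (by simpa using mem_centralizer_singleton_iff.mp (hXH hy))
  have h2 : ∏ ω ∈ Finset.univ.erase ((1 : G) : G ⧸ centralizer ({z} : Set G)), coc φ x ω = 1 := by
    refine prod_eq_one_of_orb (X := X) (fun y hy ω hω => ?_) fun ω hω => ?_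
    · refine Finset.mem_erase.mpr ⟨fun h2 => (Finset.mem_erase.mp hω).1 ?_, Finset.mem_univ _⟩
      exact smul_left_cancel y (h2.trans (hfix y hy).symm)
    have hω1 := (Finset.mem_erase.mp hω).1
    refine hc.prod_orb_eq_one_of_key hA ?_ (key ω hω1) X hX hEX le_rfl x hx
    obtain ⟨g, rfl⟩ := QuotientGroup.mk_surjective ω
    by_contra h3
    simp only [not_exists, not_and, not_not, smul_mk_eq_iff] at h3
    refine hω1 (QuotientGroup.eq.mpr (mem_centralizer_singleton_iff.mpr ?_))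
    have h4 := (h.center _ (h.cent h3) h3).resolve_left (by simpa using h.ne)
    rw [mul_one]; nth_rewrite 1 [← h4]; group
  have h3 := Finset.mul_prod_erase Finset.univ (coc φ x)
    (Finset.mem_univ ((1 : G) : G ⧸ centralizer ({z} : Set G)))
  rw [h2, mul_one, show ∏ ω, coc φ x ω = 1 from h1, coc] at h3
  simp only [hfix x hx] at h3
  have h4 : ((1 : G) : G ⧸ centralizer ({z} : Set G)).out ∈ centralizer ({z} : Set G) := by
    simpa using QuotientGroup.eq.mp (QuotientGroup.out_eq' ((1 : G) : G ⧸ centralizer ({z} : Set G)))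
  rw [← h3]
  exact (by
    rw [← inv_mul_cancel_comm (φ ⟨_, h4⟩) (φ ⟨x, hXH hx⟩), ← map_inv, ← map_mul, ← map_mul]; rfl)

theorem exists_sign_of_relIndex_two {K H : Subgroup G} (h : K.relIndex H = 2) :
    ∃ φ : H →* ℤˣ, ∀ x, φ x = 1 ↔ (x : G) ∈ K := by
  classical
  refine ⟨MonoidHom.mk' (fun x => if (x : G) ∈ K then 1 else -1) fun a b => ?_, fun x => ?_⟩
  · have := mul_mem_iff_of_relIndex_two h a.2 b.2
    by_cases ha : (a : G) ∈ K <;> by_cases hb : (b : G) ∈ K <;> simp_all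
  · by_cases hx : (x : G) ∈ K <;> simp [hx]

theorem ES.le_cent {E : Subgroup G} {z : G} (h : ES E z) : E ≤ centralizer ({z} : Set G) :=
  fun q hq => mem_centralizer_singleton_iff.mpr (h.cz q hq)

theorem exists_not_comm_of {F : Subgroup G} (h : ¬ ∀ x ∈ F, ∀ y ∈ F, x * y = y * x) :
    ∃ x ∈ F, ∃ y ∈ F, x * y ≠ y * x := by
  simpa using h

end Cfsg.Agent.H9
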