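import Cfsg.Agent.H9.BSW3

/-! Moore's relations for `A₅`; recognition of `A₆` and `S₆` from a subgroup of index 6. -/

set_option autoImplicit false

namespace Cfsg.Agent.H9

open Subgroup

variable {G : Type*} [Group G]

theorem mem_of_pow_mem_of_not_dvd [Finite G] {H : Subgroup G} {y : G} {p : ℕ} (hp : p.Prime)
    (hd : ¬ p ∣ orderOf y) (h : y ^ p ∈ H) : y ∈ H := by
  obtain ⟨k, hk⟩ := exists_pow_eq_self_of_coprime (x := y)
    ((Nat.Prime.coprime_iff_not_dvd hp).mpr hd)
  exact hk ▸ H.pow_mem h k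

/-- The group generated by `x`, `v` with `x³ = v² = (x v)³ = 1` has a normal four-group. -/
theorem exists_four_of_rel [Finite G] {x v : G} (hx : orderOf x = 3) (hv : orderOf v = 2)
    (hxv : (x * v) ^ 3 = 1) : ∃ V : Subgroup G, Nat.card V = 4 ∧ v ∈ V ∧ (∀ a ∈ V, a * a = 1) ∧
      x ∈ normalizer (V : Set G) ∧ ∀ H : Subgroup G, x ∈ H → v ∈ H → V ≤ H := by
  have hx3 : x * x * x = 1 := by rw [← pow_three', ← hx, pow_orderOf_eq_one]
  have hvv := mul_self_of_orderOf_two hv
  have hxi : x * x = x⁻¹ := eq_inv_of_mul_eq_one_left hx3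
  obtain ⟨a, ha⟩ : ∃ a, a = x * v * x⁻¹ := ⟨_, rfl⟩
  have haa : a * a = 1 := by
    calc a * a = x * (v * v) * x⁻¹ := by rw [ha]; group
      _ = 1 := by rw [hvv]; group
  have h1 : x * a * x⁻¹ = a * v := by
    have e : a * (x * a * x⁻¹) * v = 1 := by
      calc a * (x * a * x⁻¹) * v = x * v * (x * v) * (x * x)⁻¹ * v := by rw [ha]; group
        _ = (x * v) ^ 3 := by rw [hxi, inv_inv, pow_three']; group
        _ = 1 := hxv
    calc x * a * x⁻¹ = (a * a) * (x * a * x⁻¹) * (v * v) := by rw [haa, hvv]; group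
      _ = a * (a * (x * a * x⁻¹) * v) * v := by group
      _ = _ := by rw [e, mul_one]
  have hc : a * v = v * a := by
    have e : a * v * (a * v) = 1 := by
      rw [← h1]
      calc _ = x * (a * a) * x⁻¹ := by group
        _ = 1 := by rw [haa]; group
    calc a * v = (a * v)⁻¹ := eq_inv_of_mul_eq_one_left e
      _ = v * a := by rw [mul_inv_rev, inv_eq_of_mul_eq_one_left haa, inv_eq_of_mul_eq_one_left hvv]
  have ha2 : orderOf a = 2 := by rw [ha, orderOf_conj, hv]
  have hav : a ≠ v := fun h => by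
    have e : Commute x v := by
      rw [h, eq_comm, mul_inv_eq_iff_eq_mul] at ha; exact ha
    rw [e.mul_pow, ← hx, pow_orderOf_eq_one, one_mul, hx, pow_three', hvv, one_mul] at hxv
    exact ne_one_of_orderOf_two hv hxv
  have hn : zpowers v ≤ normalizer ((zpowers a : Subgroup G) : Set G) :=
    zpowers_le.mpr (mem_normalizer_of_conj_mem fun b hb => by
      rcases (mem_zpowers_of_mul_self haa).mp hb with rfl | rfl
      · simp
      · rw [← hc, mul_inv_cancel_right]; exact mem_zpowers _)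
  have hmem : ∀ b ∈ zpowers v ⊔ zpowers a, b = 1 ∨ b = a ∨ b = v ∨ b = v * a := by
    intro b hb
    obtain ⟨c, hc, d, hd, rfl⟩ := (mem_sup_of_le_normalizer hn).mp hb
    rcases (mem_zpowers_of_mul_self hvv).mp hc with rfl | rfl <;>
      rcases (mem_zpowers_of_mul_self haa).mp hd with rfl | rfl <;> simp
  have hv' : v ∈ zpowers v ⊔ zpowers a := mem_sup_left (mem_zpowers v)
  have ha' : a ∈ zpowers v ⊔ zpowers a := mem_sup_right (mem_zpowers a)
  refine ⟨zpowers v ⊔ zpowers a, le_antisymm ?_ ?_, hv', ?_,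
    mem_normalizer_of_conj_mem fun b hb => ?_, fun H h1 h2 => sup_le (zpowers_le.mpr h2)
      (zpowers_le.mpr (ha ▸ mul_mem (mul_mem h1 h2) (inv_mem h1)))⟩
  · simpa [Nat.card_zpowers, hv, ha2] using card_sup_le_of_le_normalizer hn
  · have := card_mul_card_le_of_disjoint (A := zpowers v) (B := zpowers a) le_sup_left le_sup_right (by
      rw [eq_bot_iff]
      rintro b ⟨h1, h2⟩
      rcases (mem_zpowers_of_mul_self hvv).mp h1 with h3 | h3
      · exact h3
      rcases (mem_zpowers_of_mul_self haa).mp h2 with h4 | h4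
      · exact h4
      · exact absurd (h4.symm.trans h3) hav)
    simpa [Nat.card_zpowers, hv, ha2] using this
  · intro b hb
    rcases hmem b hb with rfl | rfl | rfl | rfl
    · simp
    · exact haa
    · exact hvv
    · rw [mul_assoc, ← mul_assoc a, hc, mul_assoc, haa, mul_one, hvv]
  · rcases hmem b hb with rfl | rfl | rfl | rfl
    · simp
    · rw [h1]; exact mul_mem ha' hv'
    · exact ha ▸ ha'
    · rw [show x * (v * a) * x⁻¹ = (x * v * x⁻¹) * (x * a * x⁻¹) by group, ← ha, h1]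
      exact mul_mem ha' (mul_mem ha' hv')

/-- Moore's relations for `A₅` generate a group of order `60`. -/
theorem card_closure_of_moore [Finite G] {x v u : G} (hx : orderOf x = 3) (hv : orderOf v = 2)
    (hu : u * u = 1) (hxv : (x * v) ^ 3 = 1) (hvu : (v * u) ^ 3 = 1)
    (hxu : u * x * u⁻¹ = x⁻¹) : Nat.card (closure ({x, v, u} : Set G)) = 60 := by
  obtain ⟨V, hV4, hvV, hVe, hxV, hVle⟩ := exists_four_of_rel hx hv hxv
  have hx3 : x * x * x = 1 := by rw [← pow_three', ← hx, pow_orderOf_eq_one]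
  have hvv := mul_self_of_orderOf_two hv
  have hxi : x * x = x⁻¹ := eq_inv_of_mul_eq_one_left hx3
  have hvi : v⁻¹ = v := inv_eq_of_mul_eq_one_left hvv
  have hui : u⁻¹ = u := inv_eq_of_mul_eq_one_left hu
  obtain ⟨A, hA⟩ : ∃ A, A = zpowers x ⊔ V := ⟨_, rfl⟩
  have hA12 : Nat.card A ≤ 12 := by
    have := card_sup_le_of_le_normalizer (zpowers_le.mpr hxV)
    rwa [← hA, Nat.card_zpowers, hx, hV4] at this
  have hxA : x ∈ A := hA ▸ mem_sup_left (mem_zpowers x)
  have hvA : v ∈ A := hA ▸ mem_sup_right hvV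
  have huA : u ∉ A := fun h => by
    obtain ⟨b, hb, a, ha, rfl⟩ := (mem_sup_of_le_normalizer' (zpowers_le.mpr hxV)).mp
      (show u ∈ V ⊔ zpowers x by rwa [sup_comm, ← hA])
    obtain ⟨k, rfl⟩ := ha
    have e : x * x = (x * b⁻¹ * x⁻¹ * b)⁻¹ * (x * b⁻¹ * x⁻¹ * b) * (x * x) := by group
    have e1 : b * x * b⁻¹ = x⁻¹ := by rw [← hxu]; group
    have e2 : x⁻¹ = (x * b⁻¹ * x⁻¹) * b := by
      calc x⁻¹ = x * (b⁻¹ * (b * x * b⁻¹) * b) := by rw [← hxi]; group
        _ = _ := by rw [e1]; group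
    have h3 := hVe _ (e2 ▸ mul_mem (conj_mem_of_mem_normalizer hxV (inv_mem hb)) hb : x⁻¹ ∈ V)
    rw [← mul_inv_rev, hxi, inv_inv] at h3
    rw [h3, orderOf_one] at hx; omega
  have r1 : u * x * u = x⁻¹ := by rw [← hxu, hui]
  have r2 : u * v * u * v * u = v := by
    calc _ = v⁻¹ * (v * u) ^ 3 := by rw [pow_three']; group
      _ = v := by rw [hvu, hvi, mul_one]
  have r3 : v * x * v * x * v = x⁻¹ := by
    calc _ = x⁻¹ * (x * v) ^ 3 := by rw [pow_three']; group
      _ = _ := by rw [hxv, mul_one]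
  have r4 : x * u * x = u := by
    calc _ = u⁻¹ * (u * x * u) * x := by group
      _ = u⁻¹ * x⁻¹ * x := by rw [r1]
      _ = u := by rw [inv_mul_cancel_right, hui]
  have r5 : x⁻¹ * u * x⁻¹ = u := by
    calc _ = (x * u⁻¹ * x)⁻¹ := by group
      _ = u := by rw [hui, r4, hui]
  have r6 : v * x⁻¹ * v * x⁻¹ * v = x := by
    calc _ = (v⁻¹ * x * v⁻¹ * x * v⁻¹)⁻¹ := by group
      _ = x := by rw [hvi, r3, inv_inv]
  have tab : ∀ r a b c : G, c ∈ A → r * a = b * c → r • (a : G ⧸ A) = (b : G ⧸ A) := by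
    intro r a b c hc h
    rw [MulAction.Quotient.smul_coe, smul_eq_mul, h]
    exact QuotientGroup.mk_mul_of_mem b hc
  have x0 := tab x 1 1 x hxA (by group)
  have v0 := tab v 1 1 v hvA (by group)
  have u0 := tab u 1 u 1 A.one_mem rfl
  have x1 := tab x u u x⁻¹ (inv_mem hxA) (by rw [← r1, ← mul_assoc, ← mul_assoc, hu, one_mul])
  have v1 := tab v u (v * u) 1 A.one_mem (by group)
  have u1 := tab u u 1 1 A.one_mem (by rw [hu, mul_one])
  have x2 := tab x (v * u) (x * (v * u)) 1 A.one_mem (by group)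
  have v2 := tab v (v * u) u 1 A.one_mem (by rw [← mul_assoc, hvv, one_mul, mul_one])
  have u2 := tab u (v * u) (v * u) v hvA (by
    calc u * (v * u) = (u * v * u * v * u) * u⁻¹ * v⁻¹ := by group
      _ = _ := by rw [r2, hui, hvi])
  have x3 := tab x (x * (v * u)) (x⁻¹ * (v * u)) 1 A.one_mem (by rw [← hxi]; group)
  have v3 := tab v (x * (v * u)) (x⁻¹ * (v * u)) x hxA (by
    calc v * (x * (v * u)) = (v * x * v * x * v) * v⁻¹ * (x⁻¹ * u * x⁻¹) * x := by group
      _ = _ := by rw [r3, r5, hvi]; group)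
  have u3 := tab u (x * (v * u)) (x⁻¹ * (v * u)) v hvA (by
    calc u * (x * (v * u)) = (u * x * u) * (u⁻¹ * v * u * v * u) * u⁻¹ * v⁻¹ := by group
      _ = _ := by rw [r1, hui, r2, hvi]; group)
  have x4 := tab x (x⁻¹ * (v * u)) (v * u) 1 A.one_mem (by group)
  have v4 : v • ((x⁻¹ * (v * u) : G) : G ⧸ A) = (x * (v * u) : G) := by
    rw [← v3, ← mul_smul, hvv, one_smul]
  have u4 : u • ((x⁻¹ * (v * u) : G) : G ⧸ A) = (x * (v * u) : G) := by
    rw [← u3, ← mul_smul, hu, one_smul]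
  obtain ⟨O, hO⟩ : ∃ O : Set (G ⧸ A), O = {((1 : G) : G ⧸ A), (u : G ⧸ A), ((v * u : G) : G ⧸ A),
    ((x * (v * u) : G) : G ⧸ A), ((x⁻¹ * (v * u) : G) : G ⧸ A)} := ⟨_, rfl⟩
  have hgen : ∀ r ∈ ({x, v, u} : Set G), ∀ o ∈ O, r • o ∈ O := by
    rw [hO]
    rintro r (rfl | rfl | rfl) o (rfl | rfl | rfl | rfl | rfl) <;> simp [*]
  have hsub : ∀ g ∈ closure ({x, v, u} : Set G), (g : G ⧸ A) ∈ O := by
    intro g hg
    induction hg using closure_induction_left with
    | one => rw [hO]; simp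
    | mul_left r hr y hy ih => exact hgen r hr _ ih
    | inv_mul_cancel r hr y hy ih =>
      rcases hr with rfl | rfl | rfl
      · rw [← hxi, mul_assoc]; exact hgen _ (by simp) _ (hgen r (by simp) _ ih)
      · rw [hvi]; exact hgen _ (by simp) _ ih
      · rw [hui]; exact hgen _ (by simp) _ ih
  have hle : Nat.card (closure ({x, v, u} : Set G)) ≤ 60 := by
    have h1 := H6.ncard_le_mul_of_fibers (fun g : G => (g : G ⧸ A)) (closure ({x, v, u} : Set G)) O
      hsub (m := Nat.card A) (fun b _ => by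
        obtain ⟨b, rfl⟩ := QuotientGroup.mk_surjective b
        rw [← H6.ncard_subgroup]
        exact Set.ncard_le_ncard_of_injOn (fun a => b⁻¹ * a)
          (fun a ha => QuotientGroup.eq.mp ha.2.symm) (fun a _ a' _ h => mul_left_cancel h))
    have h2 : O.ncard ≤ 5 := by
      rw [hO]
      refine (Set.ncard_insert_le _ _).trans (Nat.succ_le_succ ((Set.ncard_insert_le _ _).trans
        (Nat.succ_le_succ ((Set.ncard_insert_le _ _).trans (Nat.succ_le_succ
          ((Set.ncard_insert_le _ _).trans (by simp)))))))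
    rw [H6.ncard_subgroup] at h1
    nlinarith
  have hxH : x ∈ closure ({x, v, u} : Set G) := subset_closure (by simp)
  have hvH : v ∈ closure ({x, v, u} : Set G) := subset_closure (by simp)
  have huH : u ∈ closure ({x, v, u} : Set G) := subset_closure (by simp)
  have h5 : 5 ∣ Nat.card (closure ({x, v, u} : Set G)) := by
    refine Dvd.dvd.trans ?_ (orderOf_dvd_natCard _ (mul_mem hxH (mul_mem hvH huH)))
    by_contra h
    have h1 : (x * (v * u)) ^ 5 ∈ A := by
      have : (x * (v * u)) ^ 5 • ((1 : G) : G ⧸ A) = ((1 : G) : G ⧸ A) := by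
        simp only [pow_succ, pow_zero, one_mul, mul_smul, x0, v0, u0, x1, v1, u1, x2, v2, u2, x3, v3,
          u3, x4, v4, u4]
      rw [MulAction.Quotient.smul_coe, smul_eq_mul, mul_one, eq_comm, QuotientGroup.eq] at this
      simpa using this
    have h2 := mem_of_pow_mem_of_not_dvd Nat.prime_five h h1
    exact huA ((mul_mem_cancel_left hvA).mp ((mul_mem_cancel_left hxA).mp h2))
  have h3 : 3 ∣ Nat.card (closure ({x, v, u} : Set G)) := hx ▸ orderOf_dvd_natCard _ hxH
  have h4 : 4 ∣ Nat.card (closure ({x, v, u} : Set G)) := hV4 ▸ card_dvd_of_le (hVle _ hxH hvH)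
  have h0 : 0 < Nat.card (closure ({x, v, u} : Set G)) := Nat.card_pos
  omega

theorem exists_injective_perm_fin [Finite G] {H : Subgroup G} {n : ℕ} (hn : H.index = n)
    (hn0 : n ≠ 0) (hc : H.normalCore = ⊥) :
    ∃ f : G →* Equiv.Perm (Fin n), Function.Injective f := by
  haveI : Finite (G ⧸ H) := inferInstance
  let e : (G ⧸ H) ≃ Fin n := (Finite.equivFin _).trans (finCongr hn)
  refine ⟨(e.permCongrHom : Equiv.Perm (G ⧸ H) →* Equiv.Perm (Fin n)).comp
    (MulAction.toPermHom G (G ⧸ H)), e.permCongrHom.injective.comp ?_⟩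
  rw [← MonoidHom.ker_eq_bot_iff, ← normalCore_eq_ker, hc]

theorem nonempty_equiv_alternating_six [Finite G] {H : Subgroup G} (hG : Nat.card G = 360)
    (hH : Nat.card H = 60) (hc : H.normalCore = ⊥) :
    Nonempty (G ≃* alternatingGroup (Fin 6)) := by
  have h1 := H.card_mul_index
  rw [hG, hH] at h1
  obtain ⟨f, hf⟩ := exists_injective_perm_fin (H := H) (n := 6) (by omega) (by omega) hc
  have h2 := f.range.index_mul_card
  rw [← Nat.card_congr (MonoidHom.ofInjective hf).toEquiv, hG, Nat.card_perm, Nat.card_fin,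
    show Nat.factorial 6 = 720 by decide] at h2
  exact ⟨(MonoidHom.ofInjective hf).trans (MulEquiv.subgroupCongr
    (Equiv.Perm.eq_alternatingGroup_of_index_eq_two (by omega)))⟩

theorem nonempty_equiv_perm_six [Finite G] {H : Subgroup G} (hG : Nat.card G = 720)
    (hH : H.index ∣ 6) (hc : H.normalCore = ⊥) : Nonempty (G ≃* Equiv.Perm (Fin 6)) := by
  have h0 : H.index ≠ 0 := index_ne_zero_of_finite
  obtain ⟨f, hf⟩ := exists_injective_perm_fin (H := H) rfl h0 hc
  have h1 := Nat.card_le_card_of_injective f hf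
  rw [hG, Nat.card_perm, Nat.card_fin] at h1
  have h2 : H.index = 6 := by
    have := Nat.le_of_dvd (by omega) hH
    obtain ⟨n, hn⟩ : ∃ n, H.index = n := ⟨_, rfl⟩
    rw [hn] at this h1 hH ⊢
    interval_cases n <;> simp_all [Nat.factorial]
  obtain ⟨f, hf⟩ := exists_injective_perm_fin (H := H) h2 (by omega) hc
  exact ⟨MulEquiv.ofBijective f ((Nat.bijective_iff_injective_and_card f).mpr ⟨hf, by
    rw [hG, Nat.card_perm, Nat.card_fin]; rfl⟩)⟩

end Cfsg.Agent.H9
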