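import Cfsg.Agent.H9.BSW4
import Cfsg.Agent.H9.Moore
import Cfsg.Agent.H9.Sylow2

/-! Groups with a `2`-central involution whose centralizer is dihedral of order `8`. -/

set_option autoImplicit false

namespace Cfsg.Agent.H9

open Subgroup

variable {G : Type*} [Group G]

/-- `C(w²) = ⟨w, s⟩` is dihedral of order `8` and has odd index. -/
structure D8C (w s : G) : Prop where
  hw : orderOf w = 4
  hs : s * s = 1
  inv : s * w * s⁻¹ = w⁻¹
  sK : s ∉ zpowers w
  cent : ∀ c, c * (w * w) = w * w * c → c ∈ zpowers w ∨ c * s ∈ zpowers w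
  odd : Odd (centralizer ({w * w} : Set G)).index

theorem D8C.of_hom {H : Type*} [Group H] (f : H →* G) (hf : Function.Injective f) {w s : H}
    (hw : orderOf w = 4) (hs : s * s = 1) (hi : s * w * s⁻¹ = w⁻¹) (hsw : s ∉ zpowers w) {α : G}
    (hα : orderOf α = 2) (hwα : f w * α = α * f w)
    (hr : ∀ c, c * α = α * c → ∃ b, f b = c ∧ (b ∈ zpowers w ∨ b * s ∈ zpowers w))
    (ho : Odd (centralizer ({α} : Set G)).index) : D8C (f w) (f s) := by
  have hm : ∀ b, f b ∈ zpowers (f w) ↔ b ∈ zpowers w := fun b => by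
    rw [← MonoidHom.map_zpowers, mem_map_iff_mem hf]
  obtain ⟨a, rfl, ha⟩ := hr α rfl
  rw [orderOf_injective f hf] at hα
  have h1 : a = w * w := by
    rcases ha with ha | ha
    · rw [← pow_two]
      exact (eq_pow_of_mem_zpowers_of_mul_self (m := 2) hw (by omega) ha
        (mul_self_of_orderOf_two hα)).resolve_left (ne_one_of_orderOf_two hα)
    · obtain ⟨k, hk⟩ := ha
      simp only at hk
      have h2 : w * a = a * w := hf (by rw [map_mul, map_mul, hwα])
      have h3 : w * w = 1 := by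
        calc w * w = w * (w ^ k * w * (w ^ k)⁻¹) := by rw [← pow_two]; group
          _ = w * (w ^ k * (s * w * s⁻¹)⁻¹ * (w ^ k)⁻¹) := by rw [hi, inv_inv]
          _ = w * (a * (s * s) * w⁻¹ * (s * s)⁻¹ * a⁻¹) := by rw [hk]; group
          _ = w * a * w⁻¹ * a⁻¹ := by rw [hs]; group
          _ = 1 := by rw [h2]; group
      have := orderOf_dvd_of_pow_eq_one (show w ^ 2 = 1 by rw [pow_two, h3])
      rw [hw] at this; omega
  subst h1
  rw [map_mul] at hr ho
  refine ⟨by rw [orderOf_injective f hf, hw], by rw [← map_mul, hs, map_one],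
    by rw [← map_inv, ← map_mul, ← map_mul, hi, map_inv], fun h => hsw ((hm s).mp h),
    fun c hc => ?_, ho⟩
  obtain ⟨b, rfl, hb⟩ := hr c hc
  rwa [← map_mul, hm, hm]

theorem exists_smul_eq_of_TI [Finite G] {p : ℕ} [Fact p.Prime] {P R R' : Sylow p G}
    (hTI : ∀ R : Sylow p G, R ≠ P → (R : Subgroup G) ⊓ P = ⊥)
    (hn : Nat.card (Sylow p G) = Nat.card (P : Subgroup G) + 1) (hR : R ≠ P) (hR' : R' ≠ P) :
    ∃ a ∈ (P : Subgroup G), a • R = R' := by
  have hinj : ∀ x ∈ (P : Subgroup G), x • R = R → x = 1 := fun x hx h1 =>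
    mem_bot.mp (hTI _ hR ▸ mem_inf.mpr ⟨(H6.smul_sylow_eq_iff_mem
      (exists_pow_eq_one_of_mem P.isPGroup' hx) _).mp h1, hx⟩)
  have hsurj : (fun x => x • R) '' ((P : Subgroup G) : Set G) = Set.univ \ {P} := by
    refine Set.eq_of_subset_of_ncard_le ?_ ?_
    · rintro _ ⟨x, hx, rfl⟩
      refine ⟨trivial, fun h1 => hR ?_⟩
      have h2 : x • P = P := Sylow.smul_eq_iff_mem_normalizer.mpr (le_normalizer hx)
      exact smul_left_cancel x (h1.trans h2.symm)
    · rw [Set.InjOn.ncard_image fun x hx x' hx' h1 => (inv_mul_eq_one.mp (hinj _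
          (mul_mem (inv_mem hx') hx) (by rw [mul_smul, h1, inv_smul_smul]))).symm,
        Set.ncard_sdiff_singleton_of_mem (Set.mem_univ _), Set.ncard_univ, hn, H6.ncard_subgroup,
        Nat.add_sub_cancel]
  exact hsurj.ge (⟨trivial, hR'⟩ : R' ∈ Set.univ \ {P})

namespace D8C

variable {w s : G} (h : D8C w s)
include h

theorem w4 : w * w * (w * w) = 1 := by
  rw [← pow_two, ← pow_two, ← pow_mul, show 2 * 2 = orderOf w from h.hw.symm, pow_orderOf_eq_one]

theorem ht : orderOf (w * w) = 2 := by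
  refine orderOf_two_of (fun h1 => ?_) h.w4
  have := orderOf_dvd_of_pow_eq_one (show w ^ 2 = 1 by rw [pow_two, h1])
  rw [h.hw] at this; omega

theorem uniq (x : G) (hx : x ∈ zpowers w) (hxx : x * x = 1) : x = 1 ∨ x = w * w := by
  rw [← pow_two]
  exact eq_pow_of_mem_zpowers_of_mul_self (m := 2) h.hw (by omega) hx hxx

theorem inv' (x : G) (hx : x ∈ zpowers w) : s * x * s⁻¹ = x⁻¹ := by
  obtain ⟨k, rfl⟩ := hx
  rw [← conj_zpow, h.inv, inv_zpow]

theorem bsw [Finite G] (hG : ∀ H : Subgroup G, H.index ≠ 2) : BSW (w * w) s (zpowers w) := by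
  have htK : w * w ∈ zpowers w := mul_mem (mem_zpowers w) (mem_zpowers w)
  refine ⟨h.ht, fun a ha b hb => ?_, htK, h.hs, h.sK, h.cent, h.inv', h.uniq,
    fun g x hx hx1 hg => ?_, fun u hu => ?_⟩
  · obtain ⟨i, rfl⟩ := ha
    obtain ⟨j, rfl⟩ := hb
    exact zpow_mul_comm w i j
  · have key : ∀ y ∈ zpowers w, y ≠ 1 → y * y = 1 → g * y * g⁻¹ ∈ zpowers w →
        g * (w * w) = w * w * g := fun y hy hy1 hyy hgy => by
      have h1 := (h.uniq y hy hyy).resolve_left hy1
      have h2 := (h.uniq _ hgy (by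
        calc _ = g * (y * y) * g⁻¹ := by group
          _ = 1 := by rw [hyy]; group)).resolve_left (by simpa using hy1)
      rwa [h1, mul_inv_eq_iff_eq_mul] at h2
    by_cases hxx : x * x = 1
    · exact key x hx hx1 hxx hg
    refine key (x * x) (mul_mem hx hx) hxx ?_ (by convert mul_mem hg hg using 1; group)
    have := pow_card_eq_one' (x := (⟨x, hx⟩ : zpowers w))
    rw [Nat.card_zpowers, h.hw] at this
    rw [← pow_two, ← pow_two, ← pow_mul]
    exact congrArg Subtype.val this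
  · have hs : s ∈ centralizer ({w * w} : Set G) := by
      have := h.inv' _ htK
      rw [inv_eq_of_orderOf_two h.ht, mul_inv_eq_iff_eq_mul] at this
      exact mem_centralizer_singleton_iff.mpr this
    obtain ⟨g, hg⟩ := H6.thompson_transfer hG h.odd (relIndex_eq_two_of hs h.sK fun c hc hcK =>
      (h.cent c (mem_centralizer_singleton_iff.mp hc)).resolve_left hcK) (t := u)
        (by rw [← hu, pow_orderOf_eq_one])
    have h1 : orderOf (g⁻¹ * u * g) = 2 := by simpa [hu] using orderOf_conj g⁻¹ u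
    have h2 := (h.uniq _ hg (mul_self_of_orderOf_two h1)).resolve_left (ne_one_of_orderOf_two h1)
    exact isConj_iff.mpr ⟨g, by rw [← h2]; group⟩

theorem card_zpowers : Nat.card (zpowers w) = 4 := by rw [Nat.card_zpowers, h.hw]

theorem simple [Finite G] (hG : ∀ H : Subgroup G, H.index ≠ 2) : IsSimpleGroup G := by
  have b := h.bsw hG
  haveI : Nontrivial G := ⟨_, _, b.t1⟩
  refine ⟨fun N hN => ?_⟩
  by_cases hN2 : ∃ u ∈ N, orderOf u = 2
  · right
    obtain ⟨u, huN, hu⟩ := hN2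
    have h1 : ∀ v, orderOf v = 2 → v ∈ N := fun v hv => by
      obtain ⟨c, rfl⟩ := isConj_iff.mp ((b.fus u hu).symm.trans (b.fus v hv))
      exact hN.conj_mem u huN c
    have h2 : centralizer ({w * w} : Set G) ≤ N := fun c hc => by
      rcases h.cent c (mem_centralizer_singleton_iff.mp hc) with h3 | h3
      · refine (mul_mem_cancel_right (h1 s (b.orderOf_of_mul_mem (h.hs ▸ one_mem _)))).mp
          (h1 _ (b.orderOf_of_mul_mem ?_))
        rwa [mul_assoc, h.hs, mul_one]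
      · exact h1 c (b.orderOf_of_mul_mem h3)
    rw [eq_top_iff]
    intro g _
    obtain ⟨n, hn, hng⟩ := exists_conj_mem_of_not_dvd_relIndex (p := 2) (H := N)
      (P := centralizer ({w * w} : Set G)) (R := zpowers (g * w * g⁻¹))
      (isPGroup_zpowers ⟨2, by rw [← orderOf_dvd_iff_pow_eq_one, orderOf_conj, h.hw]; rfl⟩)
      (zpowers_le.mpr (hN.conj_mem w (h2 (b.le (mem_zpowers w))) g))
      (fun h3 => b.odd_index (h3.trans (relIndex_dvd_index_of_le h2)))
    have h3 := hng _ (mem_zpowers _)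
    rw [show n⁻¹ * (g * w * g⁻¹) * n = (n⁻¹ * g) * w * (n⁻¹ * g)⁻¹ by group] at h3
    have h4 := (h.cent _ (mem_centralizer_singleton_iff.mp h3)).resolve_right fun h5 => by
      have := b.orderOf_of_mul_mem h5
      rw [orderOf_conj, h.hw] at this; omega
    have h5 := h2 (mem_centralizer_singleton_iff.mpr (b.ti _ w (mem_zpowers w)
      (fun h6 => b.t1 (by rw [h6, one_mul])) h4))
    exact (mul_mem_cancel_left (inv_mem hn)).mp h5
  · left
    have h1 : ∀ g ∈ N, g * g = 1 → g = 1 := fun g hg hgg => by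
      by_contra h2
      exact hN2 ⟨g, hg, orderOf_two_of h2 hgg⟩
    have h2 : ∀ v, orderOf v = 2 → ∀ g ∈ N, v * g * v⁻¹ = g⁻¹ := fun v hv g hg => by
      refine inverts_of_fpf (by rw [normalizer_eq_top]; trivial) (mul_self_of_orderOf_two hv)
        (fun a ha hc => ?_) hg
      obtain ⟨c, rfl⟩ := isConj_iff.mp (b.fus v hv)
      have h3 : c⁻¹ * a * c = 1 := by
        have h4 : c⁻¹ * a * c ∈ N := by simpa using hN.conj_mem a ha c⁻¹
        rcases h.cent (c⁻¹ * a * c) (by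
          calc _ = c⁻¹ * (a * (c * (w * w) * c⁻¹)) * c := by group
            _ = _ := by rw [hc]; group) with h5 | h5
        · refine h1 _ h4 (h1 _ (mul_mem h4 h4) ?_)
          have := pow_card_eq_one' (x := (⟨_, h5⟩ : zpowers w))
          rw [h.card_zpowers] at this
          rw [← pow_two, ← pow_two, ← pow_mul]
          exact congrArg Subtype.val this
        · exact h1 _ h4 (b.mul_self_of_mul_mem h5)
      simpa [mul_inv_eq_one, inv_mul_eq_iff_eq_mul, mul_assoc] using h3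
    rw [eq_bot_iff]
    intro g hg
    have h3 := h2 (w * w * s) (b.orderOf_of_mul_mem (by
      rw [mul_assoc, h.hs, mul_one]; exact b.tK)) g hg
    rw [show w * w * s * g * (w * w * s)⁻¹ = w * w * (s * g * s⁻¹) * (w * w)⁻¹ by group,
      h2 s (b.orderOf_of_mul_mem (h.hs ▸ one_mem _)) g hg, h2 _ h.ht _ (inv_mem hg), inv_inv] at h3
    exact h1 g hg (mul_eq_one_iff_eq_inv.mpr h3)

/-- An element of order `3` normalizing the four-group `⟨w², s⟩`. -/
theorem exists_three [Finite G] (hG : ∀ H : Subgroup G, H.index ≠ 2) :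
    ∃ x : G, orderOf x = 3 ∧ (x * (w * w)) ^ 3 = 1 := by
  have b := h.bsw hG
  obtain ⟨t, ht⟩ : ∃ t, t = w * w := ⟨_, rfl⟩
  rw [← ht] at b ⊢
  have hs2 : orderOf s = 2 := b.orderOf_of_mul_mem (h.hs ▸ one_mem _)
  have hst : s ≠ t := fun h1 => h.sK (h1 ▸ b.tK)
  obtain ⟨c, hc⟩ := isConj_iff.mp (b.fus s hs2)
  have h1 : c⁻¹ * t * c * s ∈ zpowers w := by
    refine (b.cent _ ?_).resolve_left fun h2 => ?_
    · calc _ = c⁻¹ * (t * (c * t * c⁻¹)) * c := by group
        _ = c⁻¹ * ((c * t * c⁻¹) * t) * c := by rw [hc, b.st]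
        _ = _ := by group
    · have h3 : orderOf (c⁻¹ * t * c) = 2 := by simpa [b.ht] using orderOf_conj c⁻¹ t
      have h4 := (b.uniq _ h2 (mul_self_of_orderOf_two h3)).resolve_left (ne_one_of_orderOf_two h3)
      exact hst (by rw [← hc]; nth_rewrite 1 [← h4]; group)
  have h2 := b.conj_of_mul_mem h1 (mem_zpowers w)
  obtain ⟨a, ha⟩ : ∃ a, a = c * w * c⁻¹ := ⟨_, rfl⟩
  have haa : a * a = s := by rw [ha, ← hc, ht]; group
  have hti : t⁻¹ = t := inv_eq_of_orderOf_two b.ht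
  have hat : a * t * a⁻¹ = s * t := by
    have e : t * a * t⁻¹ = a⁻¹ := by
      calc t * a * t⁻¹ = c * (c⁻¹ * t * c * w * (c⁻¹ * t * c)⁻¹) * c⁻¹ := by rw [ha]; group
        _ = _ := by rw [h2, ha]; group
    calc a * t * a⁻¹ = a * (t * a * t⁻¹)⁻¹ * t := by group
      _ = _ := by rw [e, inv_inv, haa]
  have has : a * s * a⁻¹ = s := by rw [← haa]; group
  have hwt : w * t * w⁻¹ = t := by rw [ht]; group
  have hws : w * s * w⁻¹ = t * s := by
    calc w * s * w⁻¹ = w * (s * w * s⁻¹)⁻¹ * s := by group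
      _ = _ := by rw [h.inv, inv_inv, ht]
  obtain ⟨x, hx⟩ : ∃ x, x = w * a := ⟨_, rfl⟩
  have hxt : x * t * x⁻¹ = s := by
    calc x * t * x⁻¹ = w * (a * t * a⁻¹) * w⁻¹ := by rw [hx]; group
      _ = (w * s * w⁻¹) * (w * t * w⁻¹) := by rw [hat]; group
      _ = _ := by rw [hws, hwt, mul_assoc, b.st, ← mul_assoc, b.tt, one_mul]
  have hxs : x * s * x⁻¹ = t * s := by
    calc x * s * x⁻¹ = w * (a * s * a⁻¹) * w⁻¹ := by rw [hx]; group
      _ = _ := by rw [has, hws]
  have hxts : x * (t * s) * x⁻¹ = t := by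
    calc _ = (x * t * x⁻¹) * (x * s * x⁻¹) := by group
      _ = _ := by rw [hxt, hxs, ← mul_assoc, b.st, mul_assoc, h.hs, mul_one]
  have h3 : x ^ 3 * t = t * x ^ 3 := by
    calc x ^ 3 * t = x * (x * (x * t * x⁻¹) * x⁻¹) * x⁻¹ * x ^ 3 := by
          rw [pow_three']; group
      _ = _ := by rw [hxt, hxs, hxts]
  have h4 : s * x ^ 3 * s⁻¹ = x ^ 3 := by
    calc s * x ^ 3 * s⁻¹ = x * (t * x ^ 3) * x⁻¹ * s⁻¹ := by rw [← hxt]; group
      _ = x ^ 3 * (x * t * x⁻¹) * s⁻¹ := by rw [← h3]; group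
      _ = _ := by rw [hxt]; group
  have hfix : ∀ y, x * y * x⁻¹ = y → y = t ∨ y = s ∨ y = t * s → False := by
    rintro y hy (rfl | rfl | rfl)
    · exact hst (hxt.symm.trans hy)
    · exact b.t1 (mul_eq_right.mp (hxs.symm.trans hy))
    · exact ne_one_of_orderOf_two hs2 (mul_eq_left.mp (hy.symm.trans hxts))
  have h5 : x ^ 3 = 1 := by
    by_contra h6
    refine hfix (x ^ 3) (by group) ?_
    rcases b.cent _ h3 with h7 | h7
    · refine Or.inl ((b.uniq _ h7 ?_).resolve_left h6)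
      rw [b.inv _ h7] at h4
      exact mul_eq_one_iff_eq_inv.mpr h4.symm
    · right
      have h8 := b.inv _ h7
      rw [show s * (x ^ 3 * s) * s⁻¹ = s * x ^ 3 * s⁻¹ * s by
        rw [b.sinv, mul_assoc, mul_assoc, mul_assoc, mul_assoc], h4] at h8
      rcases b.uniq _ h7 (mul_eq_one_iff_eq_inv.mpr h8) with h9 | h9
      · left; rw [← b.sinv]; exact eq_inv_of_mul_eq_one_left h9
      · right; rw [← h9, mul_assoc, h.hs, mul_one]
  haveI := Fact.mk Nat.prime_three
  refine ⟨x, orderOf_eq_prime h5 fun h6 => hst (by rw [← hxt, h6]; group), ?_⟩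
  calc (x * t) ^ 3 = (x * t * x⁻¹) * (x * (x * t * x⁻¹) * x⁻¹) * x ^ 3 * t := by
        rw [pow_three', pow_three']; group
    _ = 1 := by rw [hxt, hxs, h5, mul_one, ← mul_assoc, b.st, mul_assoc t, h.hs, mul_one, b.tt]

theorem card [Finite G] (hG : ∀ H : Subgroup G, H.index ≠ 2) :
    Nat.card G = 168 ∨ Nat.card G = 360 := by
  have b := h.bsw hG
  obtain ⟨q, m, n⟩ := b.num
  have h1 := n.card_eq b
  have h2 := n.cases
  rw [h.card_zpowers] at h1 h2
  rcases h2 with ⟨rfl, rfl⟩ | ⟨h2, h3⟩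
  · exact Or.inr h1
  · obtain rfl : q = 7 := by omega
    obtain rfl : m = 3 := by omega
    exact Or.inl h1

theorem exists_sixty [Finite G] (hG : ∀ H : Subgroup G, H.index ≠ 2) (hc : Nat.card G = 360)
    {x v : G} (hx : orderOf x = 3) (hv : orderOf v = 2) (hxv : (x * v) ^ 3 = 1) :
    ∃ H : Subgroup G, Nat.card H = 60 ∧ x ∈ H ∧ v ∈ H := by
  have b := h.bsw hG
  obtain ⟨q, m, n⟩ := b.num
  have h1 := n.card_eq b
  have hq : q = 2 * Nat.card (zpowers w) + 1 ∧ m = Nat.card (zpowers w) + 1 :=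
    n.cases.resolve_right fun h2 => by
      rw [h.card_zpowers] at h1 h2
      obtain rfl : q = 7 := by omega
      omega
  obtain ⟨Q, hQ⟩ := n.plus b hq.1 hq.2
  rw [h.card_zpowers] at hq
  obtain ⟨rfl, rfl⟩ := hq
  haveI := Fact.mk Nat.prime_three
  have hP : ∀ P : Sylow 3 G, Nat.card (P : Subgroup G) = 3 ^ 2 :=
    H6.sylow_card_of (m := 40) hc (by omega)
  obtain ⟨P₀, hP₀⟩ := (IsPGroup.of_card (p := 3) (n := 2) hQ.cardQ).exists_le_sylow
  obtain rfl : Q = P₀ := eq_of_le_of_card_ge hP₀ (by rw [hP, hQ.cardQ]; rfl)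
  have hcent : ∀ P : Sylow 3 G, ∀ y ∈ (P : Subgroup G), y ≠ 1 → ∀ a, a * y = y * a →
      a ∈ (P : Subgroup G) := by
    intro P y hy hy1 a ha
    obtain ⟨g, rfl⟩ := MulAction.exists_smul_eq G P₀ P
    rw [mem_smul_sylow] at hy ⊢
    rw [← hQ.cent _ hy (by simpa [mul_inv_eq_one, inv_mul_eq_iff_eq_mul, mul_assoc] using hy1),
      mem_centralizer_singleton_iff]
    calc _ = g⁻¹ * (a * y) * g := by group
      _ = _ := by rw [ha]; group
  have hcomm : ∀ P : Sylow 3 G, ∀ y ∈ (P : Subgroup G), ∀ a ∈ (P : Subgroup G), a * y = y * a :=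
    fun P y hy a ha => comm_of_isMulCommutative (H6.isMulCommutative_of_card_sq (hP P)) ha hy
  have hinv : ∀ P : Sylow 3 G, ∀ u, orderOf u = 2 → u • P = P → ∀ y ∈ (P : Subgroup G),
      u * y * u⁻¹ = y⁻¹ := fun P u hu huP y hy => by
    refine inverts_of_fpf (Sylow.smul_eq_iff_mem_normalizer.mp huP) (mul_self_of_orderOf_two hu)
      (fun a ha hc => ?_) hy
    by_contra ha1
    have := orderOf_dvd_natCard _ (hcent P a ha ha1 u hc.symm)
    rw [hu, hP] at this; omega
  have hKN : zpowers w ≤ normalizer ((P₀ : Subgroup G) : Set G) := hQ.normQ ▸ le_sup_right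
  have ht0 : (w * w) • P₀ = P₀ := Sylow.smul_eq_iff_mem_normalizer.mpr (hKN b.tK)
  have hexp : ∀ P : Sylow 3 G, ∀ y ∈ (P : Subgroup G), y ^ 3 = 1 := by
    have h0 : ∀ y ∈ (P₀ : Subgroup G), y ^ 3 = 1 := fun y hy => by
      by_contra hy3
      have h2 : orderOf y = 3 ^ 2 := orderOf_eq_prime_pow (n := 1) (by simpa using hy3)
        (orderOf_dvd_iff_pow_eq_one.mp (hP P₀ ▸ orderOf_dvd_natCard _ hy))
      have h3 : zpowers y = P₀ := eq_of_le_of_card_ge (zpowers_le.mpr hy)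
        (by rw [hP, Nat.card_zpowers, h2])
      obtain ⟨k, hk⟩ : w * y * w⁻¹ ∈ zpowers y :=
        h3 ▸ conj_mem_of_mem_normalizer (hKN (mem_zpowers w)) hy
      simp only at hk
      have h4 := hinv P₀ _ h.ht ht0 y hy
      rw [show w * w * y * (w * w)⁻¹ = w * (w * y * w⁻¹) * w⁻¹ by group, ← hk, ← conj_zpow, ← hk,
        ← zpow_mul, ← mul_eq_one_iff_eq_inv, ← zpow_add_one, ← orderOf_dvd_iff_zpow_eq_one,
        h2] at h4
      have h5 : (k * k + 1) % 3 = 0 := by omega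
      have h6 : k % 3 = 0 ∨ k % 3 = 1 ∨ k % 3 = 2 := by omega
      rcases h6 with h6 | h6 | h6 <;> simp [Int.add_emod, Int.mul_emod, h6] at h5
    intro P y hy
    obtain ⟨g, rfl⟩ := MulAction.exists_smul_eq G P₀ P
    have := h0 _ (mem_smul_sylow.mp hy)
    rw [show g⁻¹ * y * g = g⁻¹ * y * g⁻¹⁻¹ by rw [inv_inv], conj_pow] at this
    simpa [mul_inv_eq_one, inv_mul_eq_iff_eq_mul, mul_assoc] using this
  have hn3 : Nat.card (Sylow 3 G) = 10 := by
    have h2 := H6.card_sylow_mul_card_normalizer P₀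
    have h3 := card_sup_le_of_le_normalizer hKN
    have h4 := card_mul_card_le_of_disjoint le_sup_left le_sup_right hQ.disj
    rw [sup_comm] at h3
    rw [hP, h.card_zpowers] at h3 h4
    rw [hQ.normQ, hc, show Nat.card ↥((P₀ : Subgroup G) ⊔ zpowers w) = 36 by omega] at h2
    omega
  obtain ⟨P, hxP⟩ := H6.exists_sylow_mem (p := 3) (x := x) ⟨1, by rw [pow_one, ← hx, pow_orderOf_eq_one]⟩
  obtain ⟨c, hcv⟩ := isConj_iff.mp (b.fus v hv)
  have hvR : v • c • P₀ = c • P₀ := by rw [← hcv, ← mul_smul, inv_mul_cancel_right, mul_smul, ht0]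
  have hx1 : x ≠ 1 := fun h2 => by rw [h2, orderOf_one] at hx; omega
  have hRP : c • P₀ ≠ P := fun h2 => by
    have h3 := hinv _ v hv hvR x (h2 ▸ hxP)
    rw [inv_eq_of_orderOf_two hv] at h3
    rw [pow_three', show x * v * (x * v) = x * (v * x * v) by group, h3, mul_inv_cancel, one_mul,
      mul_eq_one_iff_eq_inv] at hxv
    rw [hxv, orderOf_inv, hv] at hx; omega
  obtain ⟨d, rfl⟩ := MulAction.exists_smul_eq G P₀ P
  have hu0 : orderOf (d * (w * w) * d⁻¹) = 2 := by rw [orderOf_conj, h.ht]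
  have hu0P : (d * (w * w) * d⁻¹) • d • P₀ = d • P₀ := by
    rw [← mul_smul, inv_mul_cancel_right, mul_smul, ht0]
  haveI := Fact.mk Nat.prime_two
  obtain ⟨R, -, hR, hRu⟩ := exists_fixed_ne_of_dvd (p := 2) (isPGroup_zpowers (a := d * (w * w) * d⁻¹)
    ⟨1, by rw [pow_one, ← hu0, pow_orderOf_eq_one]⟩) (Set.univ : Set (Sylow 3 G))
    (fun _ _ _ => trivial) (by rw [Nat.card_univ, hn3]; omega) (a := d • P₀) trivial (by
      rintro ⟨g, hg⟩
      rcases (mem_zpowers_of_mul_self (mul_self_of_orderOf_two hu0)).mp hg with rfl | rfl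
      · exact one_smul _ _
      · exact hu0P)
  obtain ⟨a, ha, haR⟩ := exists_smul_eq_of_TI (P := d • P₀) (fun R hR => by
    rw [eq_bot_iff]
    rintro y ⟨hy, hy'⟩
    by_contra hy1
    exact hR (H6.sylow_eq_of_le fun z hz => hcent _ y hy' hy1 z (hcomm R y hy z hz)))
    (by rw [hn3, hP]; rfl) hR hRP
  obtain ⟨u, hu⟩ : ∃ u, u = a * (d * (w * w) * d⁻¹) * a⁻¹ := ⟨_, rfl⟩
  have hu2 : orderOf u = 2 := by rw [hu, orderOf_conj, hu0]
  have haP : a • d • P₀ = d • P₀ := Sylow.smul_eq_iff_mem_normalizer.mpr (le_normalizer ha)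
  have huP : u • d • P₀ = d • P₀ := by
    rw [hu, mul_smul, mul_smul, inv_smul_eq_iff.mpr haP.symm, hu0P, haP]
  have huR : u • c • P₀ = c • P₀ := by
    rw [hu, mul_smul, mul_smul, inv_smul_eq_iff.mpr haR.symm]
    exact (congrArg (a • ·) (hRu ⟨_, mem_zpowers _⟩)).trans haR
  obtain ⟨⟨y, hy⟩, hy1⟩ := ne_bot_iff_exists_ne_one.mp (show ((c • P₀ : Sylow 3 G) : Subgroup G) ≠ ⊥
    from fun h2 => by have := hP (c • P₀); rw [h2, card_bot] at this; omega)
  have hvu : v * u ∈ ((c • P₀ : Sylow 3 G) : Subgroup G) :=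
    hcent _ y hy (fun h2 => hy1 (Subtype.ext h2)) _ (by
      calc v * u * y = v * (u * y * u⁻¹) * v⁻¹ * (v * u) := by group
        _ = _ := by rw [hinv _ u hu2 huR y hy, hinv _ v hv hvR _ (inv_mem hy), inv_inv])
  exact ⟨_, card_closure_of_moore hx hv (mul_self_of_orderOf_two hu2) hxv (hexp _ _ hvu)
    (hinv _ u hu2 huP x hxP), subset_closure (by simp), subset_closure (by simp)⟩

end D8C

end Cfsg.Agent.H9
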