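import Cfsg.Agent.H9.F3e

/-! Simple groups with a self-centralizing element of order three have order `60` or `168`. -/

set_option autoImplicit false

namespace Cfsg.Agent.H9.F3

open Subgroup H6 H7 H8 GW MS

variable {G : Type*} [Group G] [Finite G]

theorem SC.not_dvd_Cz {w z : G} (h : SC w) (z2 : orderOf z = 2) : ¬ 3 ∣ Nat.card (Cz z) :=
  not_dvd_card_of_forall Nat.prime_three fun g hg e => by
    have h' := h.of_dvd e
    rcases h'.cen z (mem_centralizer_singleton_iff.mp hg).symm with e | e | e <;> rw [e] at z2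
    · simp at z2
    · rw [h'.order] at z2; omega
    · rw [h'.inv.order] at z2; omega

theorem caseA {w x : G} {S : Subgroup G} (h : MQ w S) (hS : IsSylowIn 2 S ⊤) (h0 : S ≠ ⊥)
    (hx : x * w * x⁻¹ = w⁻¹) (hconj : ∀ t, t * t = 1 → t ≠ 1 → IsConj x t)
    (hall : ∀ R, MQ w R → IsSylowIn 2 R ⊤)
    (h7 : (∃ E : Subgroup G, (∀ v ∈ E, v * v = 1) ∧ 8 ≤ Nat.card E) →
      Nat.card (Cz x) < 2 * {u | Gd w u}.ncard) : {u | Gd w u}.ncard ≤ 6 := by
  obtain ⟨z, hz, z2, hc⟩ := h.exists_z h0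
  have xx := h.sc.inverter_sq hx
  have hr := h.sc.refl h.iv hz z2
  have h' : MQ w (cj x S) := by simpa [h.sc.inverter_inv hx] using h.inv.cj x
  have two : ∀ R, MQ w R → R = S ∨ R = cj x S := fun R hR => by
    obtain ⟨g, -, rfl⟩ := hS.exists_cj_eq (hall R hR)
    exact h.sc.cj_cases hx h.nm hR.nm
  have two' : ∀ u, Gd w u → u ∈ S ∨ u ∈ cj x S := fun u hu => by
    obtain ⟨R, hR, uR⟩ := h.sc.exists_mq_of_gd hu
    exact (two R hR).imp (fun e => e.le uR) fun e => e.le uR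
  have sq' : ∀ u : G, u * u = 1 → x⁻¹ * u * x * (x⁻¹ * u * x) = 1 := fun u hu =>
    sq_of_isConj hu (isConj_iff.mpr ⟨x⁻¹, by rw [inv_inv]⟩)
  by_cases e : ∀ y ∈ S, y * y = 1 → y ∈ four z (w * z * w⁻¹)
  · have := count2 (w := w) (A := four z (w * z * w⁻¹)) (B := cj x (four z (w * z * w⁻¹))) fun u hu =>
      (two' u hu).imp (fun a => e u a hu.sq) fun a => mem_cj.mpr (e _ (mem_cj.mp a) (sq' u hu.sq))
    rw [card_cj, card_four z2 hr] at this
    omega
  exfalso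
  push Not at e
  obtain ⟨y0, y0S, y02, y0V⟩ := e
  have b7 := h7 (h.e8' hz z2 hc y0S y02 y0V)
  have b2 := count2 two'
  have cz : ∀ t : G, t * t = 1 → t ≠ 1 → Nat.card (Cz t) = Nat.card (Cz x) := fun t a b =>
    (card_centralizer_eq_of_isConj (hconj t a b)).symm
  have zz := mul_self_of_orderOf_two z2
  have z1 := ne_one_of_orderOf_two z2
  have hcS : Nat.card (Cz x) = Nat.card S := by
    have k1 := card_mul_relIndex hc
    have k2 := (hS.of_le hc le_top).not_dvd_relIndex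
    have k3 : ¬ 3 ∣ S.relIndex (Cz z) := fun e => h.sc.not_dvd_Cz z2 (k1 ▸ Dvd.dvd.mul_left e _)
    rw [card_cj] at b2
    rw [← cz z zz z1, ← k1] at b7 ⊢
    have k4 : S.relIndex (Cz z) < 4 := by
      by_contra e
      have := Nat.mul_le_mul_left (Nat.card S) (not_lt.mp e)
      omega
    rw [show S.relIndex (Cz z) = 1 by omega, mul_one]
  obtain ⟨m, hm⟩ := hS.pgroup.exists_card_eq
  have nc : ∀ y, y * y = 1 → y ∉ four z (w * z * w⁻¹) → ¬ S ≤ Cz y := fun y y2 yV e =>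
    yV (h.central hS hz z2 hc e ((hconj z zz z1).symm.trans
      (hconj y y2 fun e => yV (e ▸ one_mem _))))
  have key : ∀ y ∈ S, y * y = 1 → y ∉ four z (w * z * w⁻¹) → y ∈ cj x S := fun y yS y2 yV => by
    have y1 : y ≠ 1 := fun e => yV (e ▸ one_mem _)
    have py : IsPGroup 2 (Cz y) := IsPGroup.of_card (by rw [cz y y2 y1, hcS, hm])
    have hE := h.sc.iv_inf_cz h.iv yS
    obtain ⟨r, r1, r2, r3⟩ := exists_mem_normalizer_not_mem (H := S ⊓ Cz y) (isNilpotent_of_isPGroup py)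
      inf_le_right fun e => nc y y2 yV (eq_of_le_of_card_ge (e.trans inf_le_left)
        (by rw [cz y y2 y1, hcS])).ge
    have yE : y ∈ S ⊓ Cz y := mem_inf.mpr ⟨yS, self_mem y⟩
    by_cases e : ∃ x' ∈ normalizer ((S ⊓ Cz y : Subgroup G) : Set G), x' * w * x'⁻¹ = w⁻¹
    · obtain ⟨x', a, b⟩ := e
      have : y ∈ cj x' S := cj_mono x' inf_le_left (by rw [cj_eq_self a]; exact yE)
      rcases h.sc.inverter hx b with rfl | rfl | rfl
      · exact this
      · rwa [cj_mul, cj_eq_self h.nm] at this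
      · rwa [cj_mul, cj_eq_self (inv_mem h.nm)] at this
    · obtain ⟨K, -, K2, K3, -⟩ := h.sc.nr hE.nm fun x' a b => e ⟨x', a, b⟩
      have yK := K3 y (le_normalizer yE) (not_three_dvd ⟨1, by rw [pow_one, pow_two, y2]⟩)
      have rK := K3 r r3 (not_three_dvd (exists_pow_eq_one_of_mem py r1))
      obtain ⟨R, hR, hle⟩ := h.sc.exists_mq (R := K ⊓ Cz y) py.to_inf_right (h.sc.iv_inf_cz K2 yK).nm
      rcases two R hR with rfl | rfl
      · exact absurd (mem_inf.mpr ⟨hle (mem_inf.mpr ⟨rK, r1⟩), r1⟩) r2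
      · exact hle (mem_inf.mpr ⟨yK, self_mem y⟩)
  have b3 := count3 (w := w) (A := four z (w * z * w⁻¹)) (B := cj x (four z (w * z * w⁻¹)))
    (C := S ⊓ cj x S) fun u hu => by
      rcases two' u hu with a | a
      · by_cases b : u ∈ four z (w * z * w⁻¹)
        · exact Or.inl b
        · exact Or.inr (Or.inr (mem_inf.mpr ⟨a, key u a hu.sq b⟩))
      · by_cases b : x⁻¹ * u * x ∈ four z (w * z * w⁻¹)
        · exact Or.inr (Or.inl (mem_cj.mpr b))
        · have := mem_cj.mp (key _ (mem_cj.mp a) (sq' u hu.sq) b)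
          rw [show x⁻¹ * (x⁻¹ * u * x) * x = (x * x)⁻¹ * u * (x * x) by group, xx] at this
          exact Or.inr (Or.inr (mem_inf.mpr ⟨by simpa using this, a⟩))
  have b4 := h.sc.four_mul_le (h.iv.inf h'.nm) h.iv inf_le_left fun e =>
    h.no_inv hS (inv_mem_iff.mp (mem_normalizer_of_cj_le (g := x⁻¹)
      (cj_le_iff.mpr (by rw [inv_inv]; exact e.trans inf_le_right)))) hx
  have b5 := h.sc.four_mul_le (h.sc.iv_inf_cz h.iv y0S) h.iv inf_le_left fun e =>
    nc y0 y02 y0V (e.trans inf_le_right)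
  have b6 := two_mul_le (H := four z (w * z * w⁻¹)) (K := S ⊓ Cz y0) (four_le.mpr
    ⟨mem_inf.mpr ⟨hz, Cz_symm (hc y0S)⟩, mem_inf.mpr ⟨h.iv.cj hz, Cz_symm (h.cz_cj hc y0S)⟩⟩)
    (mem_inf.mpr ⟨y0S, self_mem y0⟩) y0V
  rw [card_cj, card_four z2 hr] at b3
  rw [card_four z2 hr] at b6
  omega

theorem ncard_gd_le {w x u : G} (h : SC w) (hu : Gd w u)
    (hx : x * w * x⁻¹ = w⁻¹) (hconj : ∀ t, t * t = 1 → t ≠ 1 → IsConj x t)
    (h7 : (∃ E : Subgroup G, (∀ v ∈ E, v * v = 1) ∧ 8 ≤ Nat.card E) →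
      Nat.card (Cz x) < 2 * {u | Gd w u}.ncard) : {u | Gd w u}.ncard ≤ 6 := by
  obtain ⟨Q, hQ, uQ⟩ := h.exists_mq_of_gd hu
  have Q0 : Q ≠ ⊥ := fun e => hu.ne (by rwa [e, mem_bot] at uQ)
  by_cases hsm : ∃ R, MQ w R ∧ Nat.card R ≤ 4 ∧ ¬ IsSylowIn 2 R ⊤
  · obtain ⟨R, hR, a, b⟩ := hsm
    exact hR.cyc_case (hR.ne_bot hQ Q0) a b
  have big : ∀ R, MQ w R → ¬ IsSylowIn 2 R ⊤ → 4 < Nat.card R := fun R a b =>
    not_le.mp fun c => hsm ⟨R, a, c, b⟩
  have half : ∀ R S, MQ w R → ¬ IsSylowIn 2 R ⊤ → IsSylowIn 2 S ⊤ → Nat.card S = 2 * Nat.card R :=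
    fun R S a b c => by
      obtain ⟨P, hP, hle⟩ := exists_isSylowIn_ge a.pg (le_top : R ≤ ⊤)
      obtain ⟨r, r1, r2⟩ := SetLike.not_le_iff_exists.mp fun e => b (le_antisymm hle e ▸ hP)
      rw [c.card_eq_card hP]
      exact le_antisymm (a.sylow_le (a.ne_bot hQ Q0) (big R a b) hP.pgroup hle) (two_mul_le hle r1 r2)
  by_cases hA : ∃ S, MQ w S ∧ IsSylowIn 2 S ⊤
  · obtain ⟨S, a, b⟩ := hA
    refine caseA a b (a.ne_bot hQ Q0) hx hconj (fun R hR => by_contra fun e => ?_) h7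
    have := half R S hR e b
    have := h.card_mod a.iv
    have := h.card_mod hR.iv
    omega
  have ns : ∀ R, MQ w R → ¬ IsSylowIn 2 R ⊤ := fun R a b => hA ⟨R, a, b⟩
  obtain ⟨S, hS, hle⟩ := exists_isSylowIn_ge hQ.pg (le_top : Q ≤ ⊤)
  have c1 := half Q S hQ (ns Q hQ) hS
  have uniq : ∀ u, Gd w u → u ∈ Q := fun u hu => by
    obtain ⟨R, hR, uR⟩ := h.exists_mq_of_gd hu
    obtain ⟨P, hP, hle'⟩ := exists_isSylowIn_ge hR.pg (le_top : R ≤ ⊤)
    obtain ⟨g, -, e⟩ := hP.exists_cj_eq hS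
    have c2 := half R S hR (ns R hR) hS
    by_cases e' : cj g R ≤ Q
    · exact hR.eq_of_cj (ns R hR) hQ (eq_of_le_of_card_ge e' (by rw [card_cj]; omega)) ▸ uR
    · have := pu hQ (hR.cj g) hS.pgroup hle (e ▸ cj_mono g hle') c1.le (by rw [card_cj]; exact c2.le) e' Q0
      rw [card_cj] at this
      exact absurd (big R hR (ns R hR)) (by omega)
  obtain ⟨z, hz, z2, hc⟩ := hQ.exists_z Q0
  by_cases e : ∀ y ∈ Q, y * y = 1 → y ∈ four z (w * z * w⁻¹)
  · have := count2 (w := w) (A := four z (w * z * w⁻¹)) (B := four z (w * z * w⁻¹)) fun u hu =>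
      Or.inl (e u (uniq u hu) hu.sq)
    rw [card_four z2 (h.refl hQ.iv hz z2)] at this
    omega
  push Not at e
  obtain ⟨y0, y0S, y02, y0V⟩ := e
  have b7 := h7 (hQ.e8' hz z2 hc y0S y02 y0V)
  have b2 := count2 (w := w) (A := Q) (B := ⊥) fun u hu => Or.inl (uniq u hu)
  obtain ⟨t, -, t2, -, ht⟩ := exists_orderOf_centralized hS.pgroup hS.pgroup le_normalizer
    fun e => Q0 (eq_bot_iff.mpr (e ▸ hle))
  have b3 : Nat.card S ≤ Nat.card (Cz t) :=
    card_le_of_le fun s hs => mem_centralizer_singleton_iff.mpr (ht s hs)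
  rw [← card_centralizer_eq_of_isConj (hconj t (mul_self_of_orderOf_two t2)
    (ne_one_of_orderOf_two t2))] at b3
  rw [card_bot] at b2
  exact absurd (b3.trans_lt b7) (by omega)

theorem not_cyclic_sylow (hG : commutator G = ⊤) (h2 : 2 ∣ Nat.card G) {S : Subgroup G}
    (hS : IsSylowIn 2 S ⊤) : ¬ IsCyclic S := fun e => by
  obtain ⟨P, rfl⟩ := hS.exists_sylow_top
  exact not_hasNormalPComplement_of_perfect hG h2 (hasNormalPComplement_two_of_isCyclic P e)

theorem three_main [IsSimpleGroup G] (hG : ¬ IsMulCommutative G) {w : G} (h : SC w) :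
    Nat.card G = 60 ∨ Nat.card G = 168 := by
  haveI : Fact (Nat.Prime 3) := ⟨Nat.prime_three⟩
  have hp := perfect_of_simple hG
  obtain ⟨x, hx⟩ : ∃ x, x * w * x⁻¹ = w⁻¹ := by_contra fun e =>
    not_hasNormalPComplement_of_perfect hp (h.order ▸ orderOf_dvd_natCard w) (h.hnc fun x a => e ⟨x, a⟩)
  obtain ⟨d, a, c⟩ := exists_ch h (isConj_iff.mpr ⟨x, hx⟩)
  have xx := h.inverter_sq hx
  have x1 := h.inverter_ne hx
  have ad := c.ne inferInstance x xx x1
  have hconj : ∀ t, t * t = 1 → t ≠ 1 → IsConj x t := fun t a b =>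
    h.isConj_of_ne c hx a (c.ne inferInstance t a b) ad
  obtain ⟨u, hu⟩ : ∃ u, Gd w u := by_contra fun e => by
    obtain ⟨S, hS⟩ := exists_isSylowIn 2 (⊤ : Subgroup G)
    refine not_cyclic_sylow hp (orderOf_two_of x1 xx ▸ orderOf_dvd_natCard x) hS
      (isCyclic_of_card_dvd_prime (p := 2) ?_)
    obtain ⟨k, hk⟩ := hS.pgroup.exists_card_eq
    have := h.small hx fun u a => e ⟨u, a⟩
    rcases k with _ | _ | k
    · rw [hk]; decide
    · rw [hk]; decide
    · exact absurd (Dvd.dvd.trans ⟨2 ^ k, by rw [hk]; ring⟩ (card_subgroup_dvd_card S)) this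
  have e1 := c.pair x x xx xx
  have e2 := c.good x xx
  rw [h.ncard_inverter hx] at e1
  rw [show {u | IsConj x u ∧ IsConj w (u * w)} = {u | Gd w u} from Set.ext fun u =>
    ⟨fun a => h.gd_of_conj xx x1 a.1 a.2, fun a => ⟨hconj u a.sq a.ne, h.conj_of_gd hx a⟩⟩] at e2
  have c0 : (0 : ℤ) < Nat.card (Cz x) := by exact_mod_cast Nat.card_pos
  have d0 := c.pos
  have e3 : ({u | Gd w u}.ncard : ℤ) * (d - a x) ^ 2 =
      Nat.card (Cz x) * (d ^ 2 + 2 * d + 2 * a x * d + a x) := by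
    have : (0 : ℤ) < Nat.card (Cz x) * 3 * (d * (d + 1)) := by positivity
    refine mul_left_cancel₀ this.ne' ?_
    push_cast at e1
    linear_combination (d - a x) ^ 2 * e2 - (d ^ 2 + 2 * d + 2 * a x * d + a x) * e1
  have lt : a x < d := lt_of_le_of_ne (c.le x xx) ad
  have sub : ∀ E : Subgroup G, (∀ v ∈ E, v * v = 1) → ∀ m : ℤ, 0 ≤ m → m + 1 ≤ Nat.card E →
      0 ≤ d + m * a x := fun E hE m m0 m1 => by
    have := c.sub E x xx fun v hv v1 => hconj v (hE v hv) v1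
    by_cases e : 0 ≤ a x <;> nlinarith
  obtain ⟨Q, hQ, uQ⟩ := h.exists_mq_of_gd hu
  have uo := orderOf_two_of hu.ne hu.sq
  have hr := h.refl hQ.iv uQ uo
  have n6 := ncard_gd_le h hu hx hconj fun ⟨E, a1, a2⟩ => by
    exact_mod_cast bound7 c0 d0 e3 lt (sub E a1 7 (by norm_num) (by exact_mod_cast a2))
  have c4 : 4 ∣ Nat.card (Cz x) := by
    rw [card_centralizer_eq_of_isConj (hconj u hu.sq hu.ne), ← card_four uo hr]
    exact card_dvd_of_le (four_le.mpr ⟨self_mem u, mem_centralizer_singleton_iff.mpr hr.2.1⟩)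
  refine arith n6 c4 d0 e3 lt (sub _ (fun v => four_sq uo hr) 3 (by norm_num)
    (by rw [card_four uo hr]; norm_num)) (c.sq_le x xx) (by exact_mod_cast e1)
    (c4.trans (card_subgroup_dvd_card _)) fun e => (h.sylow (mem_top w)).not_dvd_relIndex ?_
  rw [← (zpowers w).card_mul_index, Nat.card_zpowers, h.order] at e
  rw [relIndex_top_right]
  exact Nat.dvd_of_mul_dvd_mul_left (by norm_num : 0 < 3) e

end Cfsg.Agent.H9.F3
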