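import Cfsg.Agent.H9.BlockTools
import Cfsg.Agent.H6.Invol
import Cfsg.Agent.H6.Count

/-! Groups with a self-centralizing element of order three: the character theory. -/

set_option autoImplicit false

namespace Cfsg.Agent.H9.F3

open Subgroup Cfsg.Agent.L0 H6
open scoped ComplexConjugate

variable {G : Type*} [Group G] [Finite G]

/-- `w` is a self-centralizing element of order three. -/
structure SC (w : G) : Prop where
  ne : w ≠ 1
  cube : w * w * w = 1
  cen : ∀ g, g * w = w * g → g = 1 ∨ g = w ∨ g = w⁻¹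

omit [Finite G] in
theorem SC.sq {w : G} (h : SC w) : w * w = w⁻¹ := eq_inv_of_mul_eq_one_left h.cube

omit [Finite G] in
theorem SC.ne_inv {w : G} (h : SC w) : w ≠ w⁻¹ := fun e => h.ne (by
  have := h.sq
  rw [← e] at this
  simpa using this)

omit [Finite G] in
theorem SC.order {w : G} (h : SC w) : orderOf w = 3 :=
  haveI : Fact (Nat.Prime 3) := ⟨Nat.prime_three⟩
  orderOf_eq_prime (by rw [pow_three', h.cube]) h.ne

omit [Finite G] in
theorem SC.card {w : G} (h : SC w) : Nat.card (centralizer ({w} : Set G)) = 3 := by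
  have : centralizer ({w} : Set G) = zpowers w := by
    apply le_antisymm
    · intro g hg
      rcases h.cen g (mem_centralizer_singleton_iff.mp hg) with rfl | rfl | rfl
      · exact one_mem _
      · exact mem_zpowers _
      · exact inv_mem (mem_zpowers _)
    · rw [zpowers_le]; exact mem_centralizer_singleton_iff.mpr rfl
  rw [this, Nat.card_zpowers, h.order]

theorem exists_chars {w : G} (h : SC w) (hr : IsConj w w⁻¹) :
    ∃ χ θ : IrrCharacter G, χ ≠ irrOne G ∧ θ ≠ irrOne G ∧ χ ≠ θ ∧ χ.1 w = 1 ∧ θ.1 w = -1 ∧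
      ∀ ψ : IrrCharacter G, ψ ≠ irrOne G → ψ ≠ χ → ψ ≠ θ → ψ.1 w = 0 := by
  classical
  have hint : ∀ ψ : IrrCharacter G, ∃ n : ℤ, ψ.1 w = n := fun ψ =>
    IsGeneralizedCharacter.exists_int_of_isConj (irr_isGen ψ) fun k hk => by
      rw [h.order] at hk
      rw [← pow_mod_orderOf, h.order]
      have h3 : k % 3 ≠ 0 := fun e => by
        have := Nat.Coprime.eq_one_of_dvd hk.symm (Nat.dvd_of_mod_eq_zero e)
        omega
      have : k % 3 = 1 ∨ k % 3 = 2 := by omega
      rcases this with e | e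
      · rw [e, pow_one]
      · rw [e, sq, h.sq]; exact hr
  choose a ha using hint
  have h1 : a (irrOne G) = 1 := by have := ha (irrOne G); rw [irrOne_apply] at this; exact_mod_cast this.symm
  have hs : ∑ ψ : IrrCharacter G, a ψ ^ 2 = 3 := by
    have := sum_irr_norm_sq w
    rw [h.card, Finset.sum_congr rfl fun χ _ => by rw [ha χ, Complex.norm_intCast, sq_abs]] at this
    exact_mod_cast this
  have hd : ∑ ψ : IrrCharacter G, (deg ψ : ℤ) * a ψ = 0 := by
    have := sum_irr_degree_mul w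
    rw [if_neg h.ne, Finset.sum_congr rfl fun χ _ => by rw [ha χ, deg_eq]] at this
    exact_mod_cast this
  set T := (Finset.univ.erase (irrOne G)).filter fun ψ => a ψ ≠ 0 with hT
  have e1 : ∑ ψ ∈ T, a ψ ^ 2 = 2 := by
    rw [← Finset.add_sum_erase _ _ (Finset.mem_univ (irrOne G)), h1] at hs
    rw [hT, Finset.sum_filter_of_ne (p := fun ψ => a ψ ≠ 0) fun x _ hx e => hx (by rw [e]; rfl)]
    omega
  have e2 : ∑ ψ ∈ T, (deg ψ : ℤ) * a ψ = -1 := by
    rw [← Finset.add_sum_erase _ _ (Finset.mem_univ (irrOne G)), h1, deg_irrOne] at hd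
    rw [hT, Finset.sum_filter_of_ne (p := fun ψ => a ψ ≠ 0)
      fun x _ hx e => hx (by rw [e, mul_zero])]
    omega
  have e3 : ∀ ψ ∈ T, a ψ = 1 ∨ a ψ = -1 := fun ψ hψ => by
    have k1 := Finset.single_le_sum (f := fun ψ => a ψ ^ 2) (fun _ _ => sq_nonneg _) hψ
    have k2 := (Finset.mem_filter.mp hψ).2
    rw [e1] at k1
    have k3 : a ψ ≤ 1 := by nlinarith
    have k4 : -1 ≤ a ψ := by nlinarith
    omega
  have e4 : T.card = 2 := by
    rw [Finset.sum_congr rfl fun ψ hψ => show a ψ ^ 2 = 1 by rcases e3 ψ hψ with e | e <;> rw [e] <;> rfl]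
      at e1
    rw [Finset.sum_const, nsmul_eq_mul, mul_one] at e1
    exact_mod_cast e1
  obtain ⟨α, β, hne, hαβ⟩ := Finset.card_eq_two.mp e4
  have hα : α ∈ T := by rw [hαβ]; simp
  have hβ : β ∈ T := by rw [hαβ]; simp
  have hz : ∀ ψ : IrrCharacter G, ψ ≠ irrOne G → ψ ≠ α → ψ ≠ β → ψ.1 w = 0 := fun ψ k1 k2 k3 => by
    rw [ha]
    by_contra k
    have : ψ ∈ T := Finset.mem_filter.mpr ⟨by simpa using k1, fun e => k (by rw [e]; simp)⟩
    rw [hαβ] at this
    simp [k2, k3] at this
  have n1 : α ≠ irrOne G := (Finset.mem_erase.mp (Finset.mem_filter.mp hα).1).1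
  have n2 : β ≠ irrOne G := (Finset.mem_erase.mp (Finset.mem_filter.mp hβ).1).1
  rw [hαβ, Finset.sum_pair hne] at e2
  have p1 := deg_pos α
  have p2 := deg_pos β
  rcases e3 α hα with k1 | k1 <;> rcases e3 β hβ with k2 | k2 <;> rw [k1, k2] at e2
  · omega
  · exact ⟨α, β, n1, n2, hne, by rw [ha, k1]; simp, by rw [ha, k2]; simp, hz⟩
  · exact ⟨β, α, n2, n1, hne.symm, by rw [ha, k2]; simp, by rw [ha, k1]; simp,
      fun ψ a b c => hz ψ a c b⟩
  · omega

theorem card_pairs (a b c : G) :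
    Nat.card {p : G × G // IsConj a p.1 ∧ IsConj b p.2 ∧ p.1 * p.2 = c} =
      {u | IsConj a u ∧ IsConj b (u⁻¹ * c)}.ncard := by
  rw [← Nat.card_coe_set_eq]
  refine Nat.card_congr ⟨fun p => ⟨p.1.1, p.2.1, by
    have := p.2.2.2
    rw [show p.1.1⁻¹ * c = p.1.2 from inv_mul_eq_of_eq_mul this.symm]; exact p.2.2.1⟩,
    fun u => ⟨(u.1, u.1⁻¹ * c), u.2.1, u.2.2, by simp⟩, fun p => ?_, fun u => rfl⟩
  ext
  · rfl
  · simp [← p.2.2.2]

/-- The numerical data given by the three characters not vanishing at `w`. -/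
structure CH (w : G) (d : ℤ) (a : G → ℤ) : Prop where
  pos : 0 < d
  le : ∀ t, t * t = 1 → a t ≤ d
  sq_le : ∀ t, t * t = 1 → 1 + a t ^ 2 + (a t + 1) ^ 2 ≤ Nat.card (centralizer ({t} : Set G))
  pair : ∀ t s, t * t = 1 → s * s = 1 →
    ({u | IsConj t u ∧ IsConj s (u * w)}.ncard : ℤ) * Nat.card (centralizer ({t} : Set G)) *
      Nat.card (centralizer ({s} : Set G)) * (d * (d + 1)) = Nat.card G * ((d - a t) * (d - a s))
  good : ∀ t, t * t = 1 →
    ({u | IsConj t u ∧ IsConj w (u * w)}.ncard : ℤ) * Nat.card (centralizer ({t} : Set G)) * 3 *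
      (d * (d + 1)) = Nat.card G * (d ^ 2 + 2 * d + 2 * a t * d + a t)
  sub : ∀ (V : Subgroup G) (t : G), t * t = 1 → (∀ v ∈ V, v ≠ 1 → IsConj t v) →
    0 ≤ d + ((Nat.card V : ℤ) - 1) * a t
  ne : IsSimpleGroup G → ∀ t, t * t = 1 → t ≠ 1 → a t ≠ d

theorem exists_ch {w : G} (h : SC w) (hr : IsConj w w⁻¹) : ∃ d a, CH w d a := by
  classical
  obtain ⟨χ, θ, n1, n2, n3, v1, v2, hz⟩ := exists_chars h hr
  have sum3 : ∀ f : IrrCharacter G → ℂ, (∀ ψ : IrrCharacter G, ψ.1 w = 0 → f ψ = 0) →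
      ∑ ψ, f ψ = f (irrOne G) + f χ + f θ := fun f hf => by
    rw [← Finset.sum_subset (Finset.subset_univ {irrOne G, χ, θ}) fun ψ _ hψ => hf ψ (by
      simp only [Finset.mem_insert, Finset.mem_singleton, not_or] at hψ
      exact hz ψ hψ.1 hψ.2.1 hψ.2.2), Finset.sum_insert (by simp [n1.symm, n2.symm]),
      Finset.sum_pair n3, add_assoc]
  have hnc : ∀ t : G, t * t = 1 → ¬ IsConj t w := fun t ht hc => by
    obtain ⟨c, hc⟩ := isConj_iff.mp hc
    have : w * w = 1 := by rw [← hc]; simp [mul_assoc, ← mul_assoc t, ht]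
    exact h.ne_inv (eq_inv_of_mul_eq_one_left this)
  have hθ : ∀ t : G, t * t = 1 → θ.1 t = χ.1 t + 1 := fun t ht => by
    have := sum_irr_mul_conj_of_not_isConj (hnc t ht)
    rw [sum3 _ fun ψ e => by rw [e]; simp, v1, v2] at this
    simp only [irrOne_apply, map_one, map_neg] at this
    linear_combination -this
  have hint : ∀ t : G, ∃ n : ℤ, t * t = 1 → χ.1 t = n ∧ n ≤ deg χ := fun t => by
    by_cases ht : t * t = 1
    · obtain ⟨x, y, e1, e2⟩ := exists_int_of_mul_self (irr_isChar χ) ht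
      rw [deg_eq] at e1
      have : deg χ = x + y := by exact_mod_cast e1
      exact ⟨x - y, fun _ => ⟨e2, by omega⟩⟩
    · exact ⟨0, fun e => absurd e ht⟩
  choose a ha using hint
  have hd : χ.1 1 = (deg χ : ℤ) := by rw [deg_eq]; simp
  have hd' : θ.1 1 = (deg χ : ℤ) + 1 := by rw [hθ 1 (by simp), hd]
  have d0 : ((deg χ : ℤ) : ℂ) ≠ 0 := by have := deg_pos χ; exact_mod_cast this.ne'
  have d1 : ((deg χ : ℤ) : ℂ) + 1 ≠ 0 := by exact_mod_cast (by omega : (deg χ : ℤ) + 1 ≠ 0)
  have g0 : (Nat.card G : ℂ) ≠ 0 := natCard_ne_zero G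
  have hi : ∀ t : G, ((centralizer ({t} : Set G)).index : ℂ) =
      Nat.card G / Nat.card (centralizer ({t} : Set G)) := fun t => by
    rw [eq_div_iff (natCard_ne_zero _)]
    exact_mod_cast index_mul_card _
  have hset : ∀ t s : G, t * t = 1 → {u | IsConj t u ∧ IsConj s (u⁻¹ * w)} =
      {u | IsConj t u ∧ IsConj s (u * w)} := fun t s ht => by
    ext u
    refine and_congr_right fun hu => ?_
    obtain ⟨c, rfl⟩ := isConj_iff.mp hu
    rw [inv_eq_of_mul_eq_one_right (show c * t * c⁻¹ * (c * t * c⁻¹) = 1 by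
      simp [mul_assoc, ← mul_assoc t, ht])]
  refine ⟨deg χ, a, by exact_mod_cast deg_pos χ, fun t ht => (ha t ht).2, fun t ht => ?_,
    fun t s ht hs => ?_, fun t ht => ?_, fun V t ht hV => ?_, fun _ t ht h1 e => ?_⟩
  · have := sum_sq_le_card_centralizer {irrOne G, χ, θ} (u := t)
      (fun ψ => if ψ = irrOne G then 1 else if ψ = χ then a t else a t + 1) fun ψ hψ => by
        simp only [Finset.mem_insert, Finset.mem_singleton] at hψ
        rcases hψ with rfl | rfl | rfl
        · simp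
        · simp [n1, (ha t ht).1]
        · simp [n2, n3.symm, hθ t ht, (ha t ht).1]
    rw [Finset.sum_insert (by simp [n1.symm, n2.symm]), Finset.sum_pair n3] at this
    simpa [n1, n2, n3.symm, add_assoc] using this
  · have := card_class_mul_eq t s w
    rw [card_pairs, hset t s ht, sum3 _ fun ψ e => by rw [e]; simp, v1, v2, hθ t ht, hθ s hs,
      (ha t ht).1, (ha s hs).1, hd, hd', hi, hi] at this
    have c1 := natCard_ne_zero (centralizer ({t} : Set G))
    have c2 := natCard_ne_zero (centralizer ({s} : Set G))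
    apply Int.cast_injective (α := ℂ)
    push_cast at this d0 d1 ⊢
    rw [this]
    simp only [irrOne_apply, map_one, map_neg]
    field_simp
    ring
  · have := card_class_mul_eq t w w
    rw [card_pairs, hset t w ht, sum3 _ fun ψ e => by rw [e]; simp, v1, v2, hθ t ht,
      (ha t ht).1, hd, hd', hi, hi, h.card] at this
    have c1 := natCard_ne_zero (centralizer ({t} : Set G))
    apply Int.cast_injective (α := ℂ)
    push_cast at this d0 d1 ⊢
    rw [this]
    simp only [irrOne_apply, map_one, map_neg]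
    field_simp
    ring
  · haveI := Fintype.ofFinite V
    obtain ⟨m, hm⟩ := exists_nat_sum_subgroup (irr_isChar χ) V
    rw [← Finset.add_sum_erase _ _ (Finset.mem_univ (1 : V)), Finset.sum_congr rfl fun (v : V) hv =>
      show χ.1 v = a t by
        rw [← (ha t ht).1]
        exact (IsClassFunction.eq_of_isConj (IsIrrCharacter.isClassFunction χ.2)
          (hV v v.2 fun e => (Finset.mem_erase.mp hv).1 (Subtype.ext e))).symm,
      Finset.sum_const, Finset.card_erase_of_mem (Finset.mem_univ _), Finset.card_univ,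
      ← Nat.card_eq_fintype_card, OneMemClass.coe_one, hd, nsmul_eq_mul,
      Nat.cast_sub Nat.card_pos] at hm
    have : (deg χ : ℤ) + ((Nat.card V : ℤ) - 1) * a t = Nat.card V * m := by exact_mod_cast hm
    rw [this]; positivity
  · exact ne_deg_of_ne_one n1 h1 (by rw [(ha t ht).1, e]; simp)

end Cfsg.Agent.H9.F3
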