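import Cfsg.Agent.H9.MS1

/-! Groups with a maximal Sylow `2`-subgroup of order `128`, part 2. -/

set_option autoImplicit false

namespace Cfsg.Agent.H9.MS

open Subgroup H7 H8 GW

variable {G : Type*} [Group G] [Finite G]

theorem cent_e {D : Subgroup G} {a g : G} (ha : a ∈ D) (a2 : a * a = 1) (hg : g ∈ D) (hga : g ∉ Cz a)
    (h1 : Nat.card D ≤ 2 * Nat.card ↥(D ⊓ Cz a))
    (h2 : Nat.card ↥(D ⊓ Cz a) ≤ 2 * Nat.card ↥(D ⊓ Cz a ⊓ Cz g))
    (hc : ∀ x ∈ D ⊓ Cz a, ∀ y ∈ D ⊓ Cz a, x * y = y * x) :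
    ∃ e ∈ D ⊓ Cz a ⊓ Cz g, e ≠ 1 ∧ e * e = 1 ∧ normalizer (D : Set G) ≤ Cz e := by
  have aE : a ∈ D ⊓ Cz a := ⟨ha, self_mem a⟩
  have gE : g ∉ D ⊓ Cz a := fun e => hga e.2
  have aZ : a ∉ D ⊓ Cz a ⊓ Cz g := fun e => hga (Cz_symm e.2)
  have k1 : g * a * g⁻¹ ∈ D ⊓ Cz a :=
    (conj_mem_iff_of_relIndex_two (idx2 inf_le_left h1 hg gE) ha hg).mpr aE
  have k2 := mul_mem2 inf_le_left h2 aE k1 aZ fun e => aZ ⟨aE, by
    simpa [mul_assoc] using conj_mem_Cz (g := g⁻¹) e.2⟩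
  obtain ⟨e, he⟩ : ∃ e, e = a * (g * a * g⁻¹) := ⟨_, rfl⟩
  have k3 : g * a * g⁻¹ = a * e := by rw [he, ← mul_assoc, a2, one_mul]
  have e2 : e * e = 1 := by
    nth_rewrite 1 [he]
    rw [hc _ aE _ k1, k3, mul_assoc, ← k3]
    calc _ = g * (a * a) * g⁻¹ := by group
      _ = 1 := by rw [a2]; group
  rw [← he] at k2
  have hZ : ∀ c ∈ D ⊓ Cz a ⊓ Cz g, ∀ x ∈ D, x ∈ Cz c := fun c hc' x hx => by
    by_cases e : x ∈ D ⊓ Cz a
    · exact mem_Cz.mpr (hc _ e _ hc'.1)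
    · exact (mul_mem_cancel_right (Cz_symm hc'.2)).mp
        (mem_Cz.mpr (hc _ (mul_mem2 inf_le_left h1 hx hg e gE) _ hc'.1))
  have k4 : ∀ x ∈ D, x ∉ Cz a → x * a * x⁻¹ = a * e := fun x hx hxa => by
    have := conj_eq (mul_mem2 inf_le_left h1 (inv_mem hx) hg (fun e => hxa (inv_mem_iff.mp e.2)) gE).2
    rw [← k3]
    nth_rewrite 1 [← this]
    group
  refine ⟨e, k2, fun e1 => hga (mem_of_conj (by rw [k3, e1, mul_one])), e2, fun n hn => ?_⟩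
  have k5 : ∀ x ∈ D, x ∉ Cz (n * a * n⁻¹) → x * (n * a * n⁻¹) * x⁻¹ = n * a * n⁻¹ * (n * e * n⁻¹) :=
    fun x hx hxa => by
      have := k4 _ (conj_mem_of_mem_normalizer' hn hx) fun e => hxa (by
        simpa [mul_assoc] using conj_mem_Cz (g := n) e)
      calc _ = n * (n⁻¹ * x * n * a * (n⁻¹ * x * n)⁻¹) * n⁻¹ := by group
        _ = _ := by rw [this]; group
  have k6 := conj_mem_of_mem_normalizer hn ha
  have k7 : n * a * n⁻¹ ∉ D ⊓ Cz a ⊓ Cz g := fun e => hga (by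
    simpa [mul_assoc] using conj_mem_Cz (g := n⁻¹) (hZ _ e _ (conj_mem_of_mem_normalizer hn hg)))
  refine mem_of_conj ?_
  generalize n * a * n⁻¹ = a' at *
  generalize n * e * n⁻¹ = e' at *
  by_cases h : a' ∈ Cz a
  · have k8 := mul_mem2 inf_le_left h2 aE ⟨k6, h⟩ aZ k7
    have k9 := k5 g hg fun e => k7 ⟨⟨k6, h⟩, Cz_symm e⟩
    rw [show a' = a * (a * a') by rw [← mul_assoc, a2, one_mul], show g * (a * (a * a')) * g⁻¹ =
      g * a * g⁻¹ * (g * (a * a') * g⁻¹) by group, conj_eq (Cz_symm k8.2), k3, mul_assoc,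
      ← mem_Cz.mp (hZ _ k2 _ k8.1.1), ← mul_assoc] at k9
    exact (mul_left_cancel k9).symm
  · have k8 := mul_inv_eq_iff_eq_mul.mp (k4 _ k6 h)
    have k9 := mul_inv_eq_iff_eq_mul.mp (k5 _ ha fun e => h (Cz_symm e))
    rw [mem_Cz.mp (hZ _ k2 _ ha), mul_assoc, k9, ← mul_assoc, ← mul_assoc,
      ← mem_Cz.mp (hZ _ k2 _ k6), mul_assoc a', mul_left_inj, left_eq_mul] at k8
    rw [← inv_eq_of_mul_eq_one_right k8, inv_eq_of_mul_eq_one_right e2]

/-- common centralizer -/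
scoped notation:max "DD " z:max w:max => Cz z ⊓ Cz w

/-- its normalizer in `C(z)` -/
scoped notation:max "TT " z:max w:max => Cz z ⊓ normalizer (SetLike.coe (Cz z ⊓ Cz w))

theorem Hy.pw {z : G} (h : Hy z) {X : Subgroup G} (hX : X ≤ Cz z) : Nat.card X = 1 ∨ Nat.card X = 2 ∨
    Nat.card X = 4 ∨ Nat.card X = 8 ∨ Nat.card X = 16 ∨ Nat.card X = 32 ∨ Nat.card X = 64 ∨
      Nat.card X = 128 := by
  obtain ⟨i, hi, e⟩ := (Nat.dvd_prime_pow Nat.prime_two (m := 7)).mp (h.dvd hX)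
  rw [e]
  interval_cases i <;> simp

omit [Finite G] in
theorem mul_sq {x y : G} (hx : x * x = 1) (hy : y * y = 1) (h : x * y = y * x) :
    x * y * (x * y) = 1 := by
  calc _ = x * (y * x) * y := by group
    _ = x * x * (y * y) := by rw [← h]; group
    _ = 1 := by rw [hx, hy, one_mul]

omit [Finite G] in
theorem comm_of_sq {x y : G} (hx : x * x = 1) (hy : y * y = 1) (h : x * y * (x * y) = 1) :
    x * y = y * x := by
  rw [← inv_eq_of_mul_eq_one_right h, mul_inv_rev, inv_eq_of_mul_eq_one_right hx,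
    inv_eq_of_mul_eq_one_right hy]

omit [Finite G] in
theorem cj_inf_Cz {D : Subgroup G} {n : G} (hn : n ∈ normalizer (D : Set G)) (a : G) :
    cj n (D ⊓ Cz a) = D ⊓ Cz (n * a * n⁻¹) := by rw [cj_inf, cj_Cz, cj_eq_self hn]

namespace MP

variable {z w : G} (h : MP z w)
include h

theorem refl : Refl z w := ⟨h.ord h.cw, mem_Cz.mp h.comm, h.ne⟩

omit h in
theorem D_le : DD z w ≤ TT z w := le_inf inf_le_left le_normalizer

omit h [Finite G] in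
theorem cjD {r : G} (r1 : r ∈ Cz z) : cj r (DD z w) = DD z (r * w * r⁻¹) := by
  rw [cj_inf, cj_Cz, cj_Cz, conj_eq r1]

omit h [Finite G] in
theorem T_le {r : G} (r1 : r ∈ Cz z) (r2 : r ∈ normalizer ((TT z w : Subgroup G) : Set G)) :
    TT z w ≤ TT z (r * w * r⁻¹) := by
  refine le_inf inf_le_left ?_
  rw [← cjD r1, ← cj_normalizer, ← cj_eq_self r2]
  exact cj_mono _ inf_le_right

theorem le_normalizer_of {X : Subgroup G} {r : G} (r1 : r ∈ Cz z) (r3 : r ∉ TT z w)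
    (hc : 64 ≤ Nat.card ↥(TT z w)) (h1 : TT z w ≤ normalizer (X : Set G))
    (h2 : r ∈ normalizer (X : Set G)) : Cz z ≤ normalizer (X : Set G) := fun s hs => by
  by_cases e : s ∈ TT z w
  · exact h1 e
  · exact (mul_mem_cancel_right h2).mp
      (h1 (mul_mem2 inf_le_left (by rw [h.card]; omega) hs r1 e r3))

theorem not_mem {r : G} (r1 : r ∈ Cz z) (r2 : r ∈ normalizer ((TT z w : Subgroup G) : Set G))
    (r3 : r ∉ TT z w) : r * w * r⁻¹ ∉ DD z w := fun ha => by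
  have ma := h.conj r1
  have e1 := cjD (w := w) r1
  have e2 := T_le r1 r2
  have e3 : cj r (DD z w) ≤ TT z w := cj_le_of_mem_normalizer r2 D_le
  have e4 : r * r ∈ TT z w → cj r (DD z (r * w * r⁻¹)) = DD z w := fun e => by
    rw [← e1, ← cj_mul, cj_eq_self e.2]
  generalize r * w * r⁻¹ = a at *
  obtain ⟨g, hg, hga⟩ : ∃ g ∈ DD z w, g ∉ Cz a := by
    by_contra e
    push Not at e
    refine r3 ⟨r1, cj_eq_self_iff.mp (eq_of_le_of_card_ge ?_ (card_cj _ _).le).symm⟩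
    rw [e1]; exact le_inf inf_le_left e
  have eE : DD z w ⊓ DD z a = DD z w ⊓ Cz a := by
    rw [← inf_assoc, inf_eq_left.mpr (inf_le_left : DD z w ≤ Cz z)]
  have f4 : ∀ x ∈ DD z w, four z w ≤ Cz x := fun x hx => four_le.mpr ⟨Cz_symm hx.1, Cz_symm hx.2⟩
  have f5 : four z w ≤ DD z w ⊓ Cz a := le_inf (four_le.mpr ⟨h.zD, h.wD⟩) (f4 a ha)
  have a4 : a ∉ four z w := fun e => hga (Cz_symm (f4 g hg e))
  have aE : a ∈ DD z w ⊓ Cz a := ⟨ha, self_mem a⟩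
  have a2 := h.sq ma.cw
  have c4 := card_four h.hz h.refl
  have W1 : four z w ⊔ zpowers a ≤ DD z w ⊓ Cz a := sup_le f5 (zpowers_le.mpr aE)
  have c1 := two_mul_le (le_sup_left (b := zpowers a)) (mem_sup_right (mem_zpowers a)) a4
  have c2 := card_le_of_le W1
  have c3 := two_mul_le (inf_le_left (b := Cz a)) hg fun e => hga e.2
  obtain ⟨t, t1, t2, t3, -⟩ := h.exists_t h.omz
  obtain ⟨s, s1, s2, s3, -⟩ := h.exists_t h.omw
  have c5 := two_mul_le D_le (⟨t1, t3⟩ : t ∈ TT z w) t2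
  have c6 := two_mul_le inf_le_left r1 r3
  have c7 := card_sup_mul_card_inf (e3.trans inf_le_right)
  have c8 := card_le_of_le (sup_le D_le e3)
  rw [card_cj, e1, eE] at c7
  rw [e1] at c8
  rw [h.card] at c6
  have c9 : (Nat.card ↥(DD z w ⊓ Cz a) = 8 ∧ Nat.card ↥(DD z w) = 16) ∨
      (Nat.card ↥(DD z w ⊓ Cz a) = 16 ∧ Nat.card ↥(DD z w) = 32) := by
    have k1 := h.pw (inf_le_left : DD z w ≤ _)
    have k2 := h.pw ((inf_le_left : DD z w ⊓ Cz a ≤ _).trans inf_le_left)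
    rcases k1 with k | k | k | k | k | k | k | k <;> rcases k2 with l | l | l | l | l | l | l | l <;>
      rw [k, l] at c7 <;> omega
  have hc : ∀ x ∈ DD z w ⊓ Cz a, ∀ y ∈ DD z w ⊓ Cz a, x * y = y * x := fun x hx y hy =>
    comm2 W1 (by omega) (fun b hb x hx => mem_Cz.mp (sup_le (f4 x hx.1)
      (zpowers_le.mpr (Cz_symm hx.2)) hb)) hx hy
  have no4 : ∀ e ∈ four z w, e ≠ 1 → ¬ normalizer ((DD z w : Subgroup G) : Set G) ≤ Cz e :=
    fun e he e1 hn => by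
      rcases (mem_four h.hz h.refl).mp he with rfl | rfl | rfl | rfl
      · exact e1 rfl
      · exact s2 ⟨hn s3, s1⟩
      · exact t2 ⟨t1, hn t3⟩
      · exact t2 ⟨t1, Cz_symm ((mul_mem_cancel_left (Cz_symm t1)).mp (Cz_symm (hn t3)))⟩
  have cZ : ∀ g ∈ DD z w, g ∉ Cz a → 2 * Nat.card ↥(DD z w ⊓ Cz a ⊓ Cz g) ≤
      Nat.card ↥(DD z w ⊓ Cz a) := fun g hg hga => two_mul_le inf_le_left aE fun e => hga (Cz_symm e.2)
  rcases c9 with ⟨k1, k2⟩ | ⟨k1, k2⟩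
  · have k3 := le_inf f5 (f4 g hg)
    have k4 := card_le_of_le k3
    have k5 := cZ g hg hga
    obtain ⟨e, he, k6, -, k7⟩ := cent_e ha a2 hg hga (by omega) (by omega) hc
    exact no4 e ((eq_of_le_of_card_ge k3 (by omega)).ge he) k6 k7
  have nE' := h.le_normalizer_of (X := DD z w ⊓ Cz a) r1 r3 (by omega)
    (eE ▸ H8.le_normalizer_inf inf_le_right (e2.trans inf_le_right))
    (cj_eq_self_iff.mp (by rw [← eE, cj_inf, e1, e4 (mul_mem2 inf_le_left (by rw [h.card]; omega)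
      r1 r1 r3 r3), inf_comm]))
  have nE := h.max _ (fun e => by rw [e, card_bot] at k1; omega) nE' (inf_le_left.trans inf_le_left)
  have p1 := cj_inf_Cz s3 a
  have p2 : Nat.card ↥(DD z w ⊓ Cz (s * a * s⁻¹)) = 16 := by rw [← p1, card_cj, k1]
  have p3 : DD z w ⊓ Cz (s * a * s⁻¹) ≠ DD z w ⊓ Cz a := fun e =>
    s2 ⟨nE (cj_eq_self_iff.mp (p1.trans e)), s1⟩
  have hc' : ∀ x ∈ DD z w ⊓ Cz (s * a * s⁻¹), ∀ y ∈ DD z w ⊓ Cz (s * a * s⁻¹), x * y = y * x :=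
    fun x hx y hy => by
      rw [← p1, mem_cj] at hx hy
      simpa [← mul_assoc] using congrArg (fun u => s * u * s⁻¹) (hc _ hx _ hy)
  have p4 := conj_mem_of_mem_normalizer s3 ha
  have p5 : s * a * s⁻¹ * (s * a * s⁻¹) = 1 := h.sq (isConj_cj ma.cw s)
  have p6 : ∀ n, n ∈ normalizer ((DD z w ⊓ Cz (s * a * s⁻¹) : Subgroup G) : Set G) →
      n ∈ Cz (s * z * s⁻¹) := fun n hn => by
    rw [← p1, ← cj_normalizer, mem_cj] at hn
    simpa [mul_assoc] using conj_mem_Cz (g := s) (nE hn)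
  generalize s * a * s⁻¹ = a' at *
  obtain ⟨g', hg', hga'⟩ : ∃ g ∈ DD z w ⊓ Cz a', g ∉ Cz a := by
    by_contra e
    push Not at e
    exact p3 (eq_of_le_of_card_ge (le_inf inf_le_left e) (by omega))
  have p7 := card_le_of_mul_mem (inf_le_left (b := Cz g')) aE fun x hx hx' =>
    ⟨mul_mem hx aE, mem_Cz.mpr (hc' _ (mul_mem2 inf_le_left (by omega) hx.1 ha
      (fun e => hx' ⟨hx, mem_Cz.mpr (hc' _ e _ hg')⟩)
      fun e => hga' (mem_Cz.mpr (hc' _ hg' _ e))) _ hg')⟩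
  obtain ⟨e, he, k6, k8, k7⟩ := cent_e ha a2 hg'.1 hga' (by omega) p7 hc
  have p8 := cZ g' hg'.1 hga'
  have sq : ∀ {H K : Subgroup G} {e : G}, H ≤ K → K ≤ DD z w ⊓ Cz a →
      Nat.card K ≤ 2 * Nat.card H → e ∈ K → e ∉ H → e * e = 1 → (∀ x ∈ H, x * x = 1) →
      ∀ x ∈ K, x * x = 1 := fun {H K e} h1 h2 h3 h4 h5 h6 h7 x hx => by
    by_cases e1 : x ∈ H
    · exact h7 x e1
    · have k := mul_mem2 h1 h3 hx h4 e1 h5
      have := mul_sq (h7 _ k) h6 (hc _ (h2 (h1 k)) _ (h2 h4))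
      rwa [mul_assoc x e e, h6, mul_one] at this
  have sqE := sq inf_le_left le_rfl p7 aE (fun e => hga' (Cz_symm e.2)) a2
    (sq (le_inf f5 (f4 _ hg'.1)) inf_le_left (by omega) he (fun e1 => no4 e e1 k6 k7) k8
      fun x hx => four_sq h.hz h.refl hx)
  have q1 : a' ∉ DD z w ⊓ Cz a := fun e => p3 (eq_of_le_of_card_ge
    (le_inf inf_le_left fun x hx => mem_Cz.mpr (hc _ hx _ e)) (by omega)).symm
  have q2 := conj_mem_of_mem_normalizer t3 p4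
  have q3 := comm_of_sq p5 (by
    calc t * a' * t⁻¹ * (t * a' * t⁻¹) = t * (a' * a') * t⁻¹ := by group
      _ = 1 := by rw [p5]; group) (sqE _ (mul_mem2 inf_le_left (by omega) p4 q2 q1 fun e => q1 (by
        simpa [mul_assoc] using conj_mem_of_mem_normalizer' (nE' t1) e)))
  have q5 : DD z w ⊓ Cz a' ≤ cj t (DD z w ⊓ Cz a') := by
    rw [cj_inf_Cz t3]
    exact fun x hx => ⟨hx.1, mem_Cz.mpr (hc' _ hx _ ⟨q2, mem_Cz.mpr q3.symm⟩)⟩
  have q4 := p6 t (cj_eq_self_iff.mp (eq_of_le_of_card_ge q5 (card_cj _ _).le).symm)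
  exact s2 ⟨mem_of_conj (h.fix (om_conj h.omz s3) h.omz q4 t1 t2), s1⟩

end MP

end Cfsg.Agent.H9.MS
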