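import Cfsg.Agent.H9.F3a
import Cfsg.Agent.H9.MS2

/-! Groups with a self-centralizing element of order three: invariant subgroups. -/

set_option autoImplicit false

namespace Cfsg.Agent.H9.F3

open Subgroup H6 H7 H8 GW MS

variable {G : Type*} [Group G] [Finite G]

theorem card_Cz_map_le {X : Type*} [Group X] [Finite X] (f : G →* X) (hf : Function.Surjective f)
    (x : G) : Nat.card (Cz (f x)) ≤ Nat.card (Cz x) := by
  have h1 : (cl x).ncard ≤ (cl (f x)).ncard * Nat.card f.ker :=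
    ncard_le_mul_of_fibers f (cl x) (cl (f x)) (fun a ha => f.map_isConj ha) fun b _ => by
      obtain ⟨a, rfl⟩ := hf b
      rw [← ncard_image_mul_left a f.ker]
      exact Set.ncard_le_ncard fun y hy => ⟨a⁻¹ * y, by simp [MonoidHom.mem_ker, hy.2], by simp⟩
  have h2 : Nat.card X * Nat.card f.ker = Nat.card G := by
    rw [← f.ker.index_mul_card, index_ker, MonoidHom.range_eq_top.mpr hf, card_top]
  have h3 := ncard_cl_mul_card_centralizer x
  have h4 := ncard_cl_mul_card_centralizer (f x)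
  have h5 : 0 < (cl (f x)).ncard * Nat.card f.ker :=
    Nat.mul_pos ((Set.ncard_pos (Set.toFinite _)).mpr ⟨_, self_mem_cl _⟩) Nat.card_pos
  refine Nat.le_of_mul_le_mul_left ?_ h5
  calc (cl (f x)).ncard * Nat.card f.ker * Nat.card (Cz (f x)) = Nat.card G := by
        rw [← h2, ← h4]; ring
    _ ≤ _ := by rw [← h3]; exact Nat.mul_le_mul_right _ h1

omit [Finite G] in
theorem eq_one_of_cj {g x : G} (h : g⁻¹ * x * g = 1) : x = 1 := by
  calc x = g * (g⁻¹ * x * g) * g⁻¹ := by group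
    _ = 1 := by rw [h]; group

omit [Finite G] in
theorem comm_of_rel {a b c : G} (h1 : a * b * c = 1) (h2 : a * c * b = 1) : a * b = b * a := by
  have e1 : a * b = c⁻¹ := eq_inv_of_mul_eq_one_left h1
  have e2 : b * a = c⁻¹ := by
    rw [show a = (c * b)⁻¹ from eq_inv_of_mul_eq_one_left (by rw [← h2, mul_assoc])]; group
  rw [e1, e2]

omit [Finite G] in
theorem nm_inf {w : G} {A B : Subgroup G} (h1 : w ∈ normalizer (A : Set G))
    (h2 : w ∈ normalizer (B : Set G)) : w ∈ normalizer ((A ⊓ B : Subgroup G) : Set G) := by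
  rw [← cj_eq_self_iff, cj_inf, cj_eq_self h1, cj_eq_self h2]

omit [Finite G] in
theorem nm_sup {w : G} {A B : Subgroup G} (h1 : w ∈ normalizer (A : Set G))
    (h2 : w ∈ normalizer (B : Set G)) : w ∈ normalizer ((A ⊔ B : Subgroup G) : Set G) := by
  rw [← cj_eq_self_iff, cj_sup, cj_eq_self h1, cj_eq_self h2]

omit [Finite G] in
theorem nm_nm {w : G} {A : Subgroup G} (h1 : w ∈ normalizer (A : Set G)) :
    w ∈ normalizer ((normalizer (A : Set G) : Subgroup G) : Set G) := le_normalizer h1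

theorem SC.of_card {w : G} (h1 : w ≠ 1) (h3 : w * w * w = 1) (hc : Nat.card (Cz w) ≤ 3) : SC w := by
  haveI : Fact (Nat.Prime 3) := ⟨Nat.prime_three⟩
  have ho : orderOf w = 3 := orderOf_eq_prime (by rw [pow_three', h3]) h1
  have : zpowers w = Cz w := eq_of_le_of_card_ge (zpowers_le.mpr (self_mem w))
    (by rw [Nat.card_zpowers, ho]; exact hc)
  refine ⟨h1, h3, fun g hg => ?_⟩
  have hg' : g ∈ zpowers w := this ▸ mem_centralizer_singleton_iff.mpr hg
  obtain ⟨k, rfl⟩ := mem_powers_iff_mem_zpowers.mpr hg'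
  simp only
  rw [← pow_mod_orderOf, ho]
  have : k % 3 = 0 ∨ k % 3 = 1 ∨ k % 3 = 2 := by omega
  rcases this with e | e | e <;> rw [e]
  · exact Or.inl (pow_zero _)
  · exact Or.inr (Or.inl (pow_one _))
  · exact Or.inr (Or.inr (by rw [pow_two]; exact eq_inv_of_mul_eq_one_left h3))

/-- `L` is a `w`-invariant subgroup not containing `w`. -/
structure Iv (w : G) (L : Subgroup G) : Prop where
  nm : w ∈ normalizer (L : Set G)
  out : w ∉ L

omit [Finite G] in
theorem Iv.cj {w : G} {L : Subgroup G} (h : Iv w L) {y : G} (hy : y ∈ L) : w * y * w⁻¹ ∈ L :=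
  conj_mem_of_mem_normalizer h.nm hy

omit [Finite G] in
theorem Iv.inv {w : G} {L : Subgroup G} (h : Iv w L) : Iv w⁻¹ L :=
  ⟨inv_mem h.nm, fun e => h.out (inv_mem_iff.mp e)⟩

omit [Finite G] in
theorem Iv.mul {w : G} {L : Subgroup G} (h : Iv w L) {y : G} (hy : y ∈ L) : Iv (y * w) L :=
  ⟨mul_mem (le_normalizer hy) h.nm, fun e => h.out ((L.mul_mem_cancel_left hy).mp e)⟩

omit [Finite G] in
theorem Iv.inf {w : G} {L M : Subgroup G} (h : Iv w L) (hM : w ∈ normalizer (M : Set G)) :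
    Iv w (L ⊓ M) := ⟨nm_inf h.nm hM, fun e => h.out e.1⟩

theorem two_aux {w r : G} (h1 : r * (w * r * w⁻¹) = w * r * w⁻¹ * r)
    (h3 : w * (w * r * w⁻¹) * w⁻¹ = (r * (w * r * w⁻¹))⁻¹) (h2 : ∃ k, r ^ 2 ^ k = 1) :
    IsPGroup 2 ↥(zpowers r ⊔ zpowers (w * r * w⁻¹)) ∧
      w ∈ normalizer ((zpowers r ⊔ zpowers (w * r * w⁻¹) : Subgroup G) : Set G) := by
  refine ⟨?_, mem_normalizer_of_cj_le ?_⟩
  · refine IsPGroup.to_sup_of_normal_right' (isPGroup_zpowers h2) (isPGroup_zpowers ?_) ?_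
    · obtain ⟨k, hk⟩ := h2
      exact ⟨k, by rw [conj_pow, hk]; group⟩
    · refine le_trans ?_ (centralizer_le_normalizer _)
      rw [centralizer_zpowers, zpowers_le, mem_centralizer_singleton_iff]
      exact h1
  · rw [cj_sup, cj, cj, MonoidHom.map_zpowers, MonoidHom.map_zpowers]
    refine sup_le le_sup_right (zpowers_le.mpr ?_)
    show w * (w * r * w⁻¹) * w⁻¹ ∈ _
    rw [h3]
    exact inv_mem (mul_mem_sup (mem_zpowers _) (mem_zpowers _))

namespace SC

variable {w : G} (h : SC w)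
include h

omit [Finite G] in
theorem inv : SC w⁻¹ := by
  refine ⟨inv_ne_one.mpr h.ne, by rw [← mul_inv_rev, ← mul_inv_rev, ← mul_assoc, h.cube, inv_one],
    fun g hg => ?_⟩
  rcases h.cen g (Commute.inv_right_iff.mp hg) with e | e | e <;> simp [e]

omit [Finite G] in
theorem conj (g : G) : SC (g * w * g⁻¹) := by
  refine ⟨by simpa using h.ne, by
    rw [show g * w * g⁻¹ * (g * w * g⁻¹) * (g * w * g⁻¹) = g * (w * w * w) * g⁻¹ by group, h.cube]
    group, fun x hx => ?_⟩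
  rcases h.cen (g⁻¹ * x * g) (by
    calc g⁻¹ * x * g * w = g⁻¹ * (x * (g * w * g⁻¹)) * g := by group
      _ = _ := by rw [hx]; group) with e | e | e
  · left; calc x = g * (g⁻¹ * x * g) * g⁻¹ := by group
      _ = 1 := by rw [e]; group
  · right; left; rw [← e]; group
  · right; right; calc x = g * (g⁻¹ * x * g) * g⁻¹ := by group
      _ = _ := by rw [e]; group

omit [Finite G] in
theorem mem_zp {g : G} : g ∈ zpowers w ↔ g = 1 ∨ g = w ∨ g = w⁻¹ := by
  refine ⟨fun hg => h.cen g (comm_of_mem_zpowers hg (mem_zpowers w)), ?_⟩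
  rintro (rfl | rfl | rfl)
  · exact one_mem _
  · exact mem_zpowers _
  · exact inv_mem (mem_zpowers _)

omit [Finite G] in
theorem pg : IsPGroup 3 (zpowers w) := isPGroup_zpowers ⟨1, by rw [pow_one, pow_three', h.cube]⟩

theorem sylow {H : Subgroup G} (hw : w ∈ H) : IsSylowIn 3 (zpowers w) H := by
  haveI : Fact (Nat.Prime 3) := ⟨Nat.prime_three⟩
  refine ⟨zpowers_le.mpr hw, h.pg, fun Q _ hQ hle => le_antisymm (fun q hq => ?_) hle⟩
  obtain ⟨z, hz, z1, -, hc⟩ := exists_ne_one_centralized hQ hQ le_normalizer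
    fun e => h.ne (by rw [← mem_bot, ← e]; exact hle (mem_zpowers w))
  refine h.mem_zp.mpr (h.cen q ?_)
  rcases h.cen z (hc w (hle (mem_zpowers w))).symm with e | e | e
  · exact absurd e z1
  · exact e ▸ hc q hq
  · exact Commute.inv_right_iff.mp (e ▸ hc q hq)

theorem conj_of_dvd {H : Subgroup G} (hw : w ∈ H) {x : G} (hx : x ∈ H) (h3 : 3 ∣ orderOf x) :
    ∃ g ∈ H, g * x * g⁻¹ = w ∨ g * x * g⁻¹ = w⁻¹ := by
  haveI : Fact (Nat.Prime 3) := ⟨Nat.prime_three⟩
  have ho : orderOf (x ^ (orderOf x / 3)) = 3 := orderOf_pow_orderOf_div (orderOf_pos x).ne' h3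
  obtain ⟨g, hg, hc⟩ := exists_conj_mem_of_not_dvd_relIndex (R := zpowers (x ^ (orderOf x / 3)))
    (isPGroup_zpowers ⟨1, by rw [pow_one]; exact orderOf_dvd_iff_pow_eq_one.mp (by rw [ho])⟩)
    (zpowers_le.mpr (pow_mem hx _)) (h.sylow hw).not_dvd_relIndex
  have hc' : g⁻¹ * x * g * (g⁻¹ * x ^ (orderOf x / 3) * g) =
      g⁻¹ * x ^ (orderOf x / 3) * g * (g⁻¹ * x * g) := by group
  have k : g⁻¹ * x * g * w = w * (g⁻¹ * x * g) := by
    rcases h.mem_zp.mp (hc _ (mem_zpowers _)) with e | e | e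
    · have : x ^ (orderOf x / 3) = 1 := eq_one_of_cj e
      rw [this, orderOf_one] at ho; omega
    · rwa [e] at hc'
    · rw [e] at hc'; exact Commute.inv_right_iff.mp hc'
  refine ⟨g⁻¹, inv_mem hg, ?_⟩
  rw [inv_inv]
  refine (h.cen _ k).resolve_left fun e => ?_
  have : x = 1 := eq_one_of_cj e
  rw [this, orderOf_one] at h3; omega

theorem of_dvd {x : G} (h3 : 3 ∣ orderOf x) : SC x := by
  obtain ⟨g, -, e | e⟩ := h.conj_of_dvd (mem_top w) (mem_top x) h3
  · have := h.conj g⁻¹; rw [← e] at this; simpa [mul_assoc] using this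
  · have := h.inv.conj g⁻¹; rw [← e] at this; simpa [mul_assoc] using this

omit [Finite G] in
theorem out_of_pg {Q : Subgroup G} (hQ : IsPGroup 2 Q) : w ∉ Q := fun e => by
  obtain ⟨k, hk⟩ := exists_pow_eq_one_of_mem hQ e
  have := orderOf_dvd_of_pow_eq_one hk
  rw [h.order] at this
  have := Nat.prime_three.dvd_of_dvd_pow this
  omega

omit [Finite G] in
theorem iv {Q : Subgroup G} (hQ : IsPGroup 2 Q) (hw : w ∈ normalizer (Q : Set G)) : Iv w Q :=
  ⟨hw, h.out_of_pg hQ⟩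

variable {L : Subgroup G} (hL : Iv w L)
include hL

omit [Finite G] in
theorem eq_one {y : G} (hy : y ∈ L) (hc : y * w = w * y) : y = 1 := by
  rcases h.cen y hc with e | e | e
  · exact e
  · exact absurd (e ▸ hy) hL.out
  · exact absurd (e ▸ hy) hL.inv.out

omit [Finite G] in
theorem ne_cj {y : G} (hy : y ∈ L) (h1 : y ≠ 1) : w * y * w⁻¹ ≠ y := fun e =>
  h1 (h.eq_one hL hy (mul_inv_eq_iff_eq_mul.mp e).symm)

theorem mul {y : G} (hy : y ∈ L) : SC (y * w) := by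
  refine h.of_dvd ?_
  have k : ∀ n : ℕ, (y * w) ^ n * (w ^ n)⁻¹ ∈ L := fun n => by
    induction n with
    | zero => simp
    | succ n ih =>
      have := mul_mem hy (hL.cj ih)
      rwa [show y * (w * ((y * w) ^ n * (w ^ n)⁻¹) * w⁻¹) = (y * w) ^ (n + 1) * (w ^ (n + 1))⁻¹ by
        rw [pow_succ' (y * w), pow_succ' w]; group] at this
  have := k (orderOf (y * w))
  rw [pow_orderOf_eq_one, one_mul, inv_mem_iff, ← pow_mod_orderOf, h.order] at this
  by_contra h3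
  have : orderOf (y * w) % 3 = 1 ∨ orderOf (y * w) % 3 = 2 := by omega
  rcases this with e | e <;> rw [e] at this
  · exact hL.out (by simpa using this)
  · rw [pow_two, h.sq] at this; exact hL.inv.out this

theorem rel {y : G} (hy : y ∈ L) : y * (w * y * w⁻¹) * (w⁻¹ * y * w) = 1 := by
  rw [← (h.mul hL hy).cube, ← h.sq]
  calc y * (w * y * (w * w)) * (w * w * y * w) = y * w * y * (w * w * w) * w * y * w := by group
    _ = _ := by rw [h.cube]; group

theorem comm {y : G} (hy : y ∈ L) : y * (w * y * w⁻¹) = w * y * w⁻¹ * y :=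
  comm_of_rel (h.rel hL hy) (by simpa using h.inv.rel hL.inv hy)

theorem comm' {y : G} (hy : y ∈ L) : y * (w⁻¹ * y * w) = w⁻¹ * y * w * y := by
  simpa using h.inv.comm hL.inv hy

theorem cj_cj {y : G} (hy : y ∈ L) : w * (w * y * w⁻¹) * w⁻¹ = (y * (w * y * w⁻¹))⁻¹ := by
  rw [← eq_inv_of_mul_eq_one_right (h.rel hL hy)]
  calc w * (w * y * w⁻¹) * w⁻¹ = w * w * y * (w * w)⁻¹ := by group
    _ = _ := by rw [h.sq, inv_inv]

theorem cz {x y : G} (hx : x ∈ L) (hy : y ∈ L) (hc : x * y = y * x) :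
    w * x * w⁻¹ * y = y * (w * x * w⁻¹) := by
  have h1 := h.rel hL (mul_mem hx hy)
  have h2 : w⁻¹ * x * w = (x * (w * x * w⁻¹))⁻¹ := eq_inv_of_mul_eq_one_right (h.rel hL hx)
  have h3 : w⁻¹ * y * w = (y * (w * y * w⁻¹))⁻¹ := eq_inv_of_mul_eq_one_right (h.rel hL hy)
  rw [show w⁻¹ * (x * y) * w = w⁻¹ * x * w * (w⁻¹ * y * w) by group, h2, h3, ← mul_inv_rev,
    mul_inv_eq_one, show w * (x * y) * w⁻¹ = w * x * w⁻¹ * (w * y * w⁻¹) by group, hc, mul_assoc y,
    mul_assoc y, mul_left_cancel_iff, ← mul_assoc, ← inv_inv (x * (w * x * w⁻¹)), ← h2] at h1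
  have h4 : w⁻¹ * x * w * (w * y * w⁻¹) = w * y * w⁻¹ * (w⁻¹ * x * w) := Commute.inv_left_iff.mp h1
  calc w * x * w⁻¹ * y = w⁻¹ * ((w * w) * x * (w * w)⁻¹ * (w * y * w⁻¹)) * w := by group
    _ = w⁻¹ * (w * y * w⁻¹ * ((w * w) * x * (w * w)⁻¹)) * w := by rw [h.sq, inv_inv, h4]
    _ = _ := by group

theorem engel {x y : G} (hx : x ∈ L) (hy : y ∈ L) : x * (y * x * y⁻¹) = y * x * y⁻¹ * x := by
  have h1 := (h.mul hL hy).comm (hL.mul hy) hx
  have h2 := (h.inv.mul hL.inv hy).comm (hL.inv.mul hy) hx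
  have h3 : Commute x (y * w * x * (y * w)⁻¹ * (y * w⁻¹ * x * (y * w⁻¹)⁻¹)) :=
    Commute.mul_right h1 h2
  rw [show y * w * x * (y * w)⁻¹ * (y * w⁻¹ * x * (y * w⁻¹)⁻¹) =
    (y * x * y⁻¹)⁻¹ * (y * (x * (w * x * w⁻¹) * (w⁻¹ * x * w)) * y⁻¹) by group, h.rel hL hx,
    mul_one, mul_inv_cancel, mul_one] at h3
  exact Commute.inv_right_iff.mp h3

theorem card_mod : Nat.card L % 3 = 1 := by
  haveI : Fact (Nat.Prime 3) := ⟨Nat.prime_three⟩
  have h1 : 3 ∣ Nat.card ↥((L : Set G) \ {1}) := by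
    by_contra hc
    obtain ⟨x, hx, hc⟩ := exists_conj_fixed_of_not_dvd h.pg ((L : Set G) \ {1}) (fun g hg x hx =>
      ⟨conj_mem_of_mem_normalizer (zpowers_le.mpr hL.nm hg) hx.1, by simpa using hx.2⟩) hc
    exact hx.2 (h.eq_one hL hx.1 (hc w (mem_zpowers w)).symm)
  rw [Nat.card_coe_set_eq, Set.ncard_sdiff_singleton_of_mem (one_mem L), ncard_subgroup] at h1
  have : 0 < Nat.card L := Nat.card_pos
  omega

theorem four_mul_le {K : Subgroup G} (hK : Iv w K) (hle : L ≤ K) (hne : ¬ K ≤ L) :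
    4 * Nat.card L ≤ Nat.card K := by
  have h1 := h.card_mod hL
  have h2 := h.card_mod hK
  rw [← card_mul_relIndex hle] at h2 ⊢
  have h3 : L.relIndex K ≠ 1 := fun e => hne (relIndex_eq_one.mp e)
  rw [Nat.mul_mod, h1, one_mul, Nat.mod_mod] at h2
  rw [mul_comm]
  exact Nat.mul_le_mul_left _ (by omega)

theorem iv_cz {u : G} (hu : u ∈ L) (u1 : u ≠ 1) : Iv w (Cz u ⊓ Cz (w * u * w⁻¹)) := by
  refine ⟨mem_normalizer_of_conj_mem fun x hx => mem_inf.mpr ⟨?_, conj_mem_Cz hx.1⟩,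
    fun e => u1 (h.eq_one hL hu (mem_centralizer_singleton_iff.mp e.1).symm)⟩
  have h1 := Cz_symm (conj_mem_Cz (g := w) hx.1)
  have h2 := Cz_symm (conj_mem_Cz (g := w) hx.2)
  rw [h.cj_cj hL hu] at h2
  exact Cz_symm (((Cz _).mul_mem_cancel_right h1).mp (inv_mem_iff.mp h2))

theorem iv_inf_cz {u : G} (hu : u ∈ L) : Iv w (L ⊓ Cz u) :=
  ⟨mem_normalizer_of_conj_mem fun _ hx => mem_inf.mpr ⟨hL.cj hx.1, mem_centralizer_singleton_iff.mpr
    (h.cz hL hx.1 hu (mem_centralizer_singleton_iff.mp hx.2))⟩, fun e => hL.out e.1⟩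

theorem exists_two {r : G} (hr : r ∈ L) (h2 : ∃ k, r ^ 2 ^ k = 1) :
    ∃ R : Subgroup G, r ∈ R ∧ R ≤ L ∧ IsPGroup 2 R ∧ w ∈ normalizer (R : Set G) :=
  ⟨zpowers r ⊔ zpowers (w * r * w⁻¹), mem_sup_left (mem_zpowers r),
    sup_le (zpowers_le.mpr hr) (zpowers_le.mpr (hL.cj hr)),
    two_aux (h.comm hL hr) (h.cj_cj hL hr) h2⟩

end SC

end Cfsg.Agent.H9.F3
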