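import Cfsg.Agent.H9.F3c

/-! `2`-groups with a small centralizer; cyclic subgroups of index two. -/

set_option autoImplicit false

namespace Cfsg.Agent.H9.F3

open Subgroup H6 H7 H8 GW MS

universe u

theorem four_dvd_orderOf {S : Type*} [Group S] {a : S} (h : ∃ k, a ^ 2 ^ k = 1) (h2 : a * a ≠ 1) :
    4 ∣ orderOf a := by
  obtain ⟨k, hk⟩ := h
  obtain ⟨j, -, hj⟩ := (Nat.dvd_prime_pow Nat.prime_two).mp (orderOf_dvd_of_pow_eq_one hk)
  rcases j with _ | _ | j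
  · exact absurd (by rw [orderOf_eq_one_iff.mp hj, mul_one]) h2
  · exact absurd (mul_self_of_orderOf_two hj) h2
  · exact ⟨2 ^ j, by rw [hj]; ring⟩

theorem mc_aux (n : ℕ) : ∀ (S : Type u) [Group S] [Finite S], Nat.card S = n → IsPGroup 2 S →
    ∀ x : S, Nat.card (Cz x) ≤ 4 → ∃ a : S, Nat.card S ≤ 2 * orderOf a := by
  induction n using Nat.strong_induction_on with
  | _ n ih =>
  intro S _ _ hn hS x hC
  by_cases h8 : Nat.card S ≤ 8
  · by_cases he : ∀ a : S, a * a = 1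
    · have : Cz x = ⊤ := eq_top_iff.mpr fun g _ =>
        mem_centralizer_singleton_iff.mpr (comm_of_sq (he _) (he _) (he _))
      rw [this, card_top] at hC
      by_cases h1 : ∀ a : S, a = 1
      · haveI : Subsingleton S := ⟨fun a b => (h1 a).trans (h1 b).symm⟩
        exact ⟨1, by rw [Nat.card_of_subsingleton (1 : S)]; simp⟩
      · obtain ⟨a, ha⟩ := not_forall.mp h1
        exact ⟨a, by rw [orderOf_two_of ha (he a)]; exact hC⟩
    · obtain ⟨a, ha⟩ := not_forall.mp he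
      have := Nat.le_of_dvd (orderOf_pos a) (four_dvd_orderOf (hS a) ha)
      exact ⟨a, by omega⟩
  haveI : Nontrivial S := Finite.one_lt_card_iff_nontrivial.mp (by omega)
  obtain ⟨z, -, z2, -, hz⟩ := exists_orderOf_centralized (P := ⊤) (N := ⊤) (hS.to_subgroup _)
    (hS.to_subgroup _) le_normalizer top_ne_bot
  have zz := mul_self_of_orderOf_two z2
  have hz' : ∀ g, g * z = z * g := fun g => hz g (mem_top g)
  haveI : (zpowers z).Normal := ⟨fun n hn g => by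
    rcases (mem_zpowers_of_mul_self zz).mp hn with rfl | rfl
    · simp
    · rw [hz', mul_inv_cancel_right]; exact hn⟩
  let π := QuotientGroup.mk' (zpowers z)
  have hπ : Function.Surjective π := QuotientGroup.mk'_surjective _
  have hc : Nat.card S = 2 * Nat.card (S ⧸ zpowers z) := by
    rw [card_eq_card_quotient_mul_card_subgroup (zpowers z), Nat.card_zpowers, z2, mul_comm]
  obtain ⟨b, hb⟩ := ih _ (by omega) (S ⧸ zpowers z) rfl (hS.to_quotient _) (π x)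
    ((card_Cz_map_le π hπ x).trans hC)
  obtain ⟨a, rfl⟩ := hπ b
  refine ⟨a, ?_⟩
  obtain ⟨m, hm⟩ := orderOf_map_dvd π a
  have m0 := orderOf_pos a
  by_contra hlt
  have m1 : orderOf a = orderOf (π a) := by
    rcases m with _ | _ | m
    · omega
    · omega
    · nlinarith
  have hA : ∀ y ∈ (zpowers (π a)).comap π, ∃ c ∈ zpowers a, y = c ∨ y = c * z := fun y hy => by
    obtain ⟨k, hk⟩ := hy
    have : (a ^ k)⁻¹ * y ∈ zpowers z := QuotientGroup.eq.mp ((map_zpow π a k).trans hk)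
    refine ⟨a ^ k, zpow_mem_zpowers a k, ?_⟩
    rcases (mem_zpowers_of_mul_self zz).mp this with e | e
    · exact Or.inl (inv_mul_eq_one.mp e).symm
    · exact Or.inr (inv_mul_eq_iff_eq_mul.mp e)
  have hi : Nat.card (⊤ : Subgroup S) ≤ 2 * Nat.card ((zpowers (π a)).comap π) := by
    rw [card_top, ← ((zpowers (π a)).comap π).index_mul_card, index_comap_of_surjective _ hπ]
    refine Nat.mul_le_mul_right _ ?_
    rw [← (zpowers (π a)).index_mul_card, Nat.card_zpowers] at hb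
    exact Nat.le_of_mul_le_mul_right hb (orderOf_pos _)
  have aA : a ∈ (zpowers (π a)).comap π := mem_zpowers (π a)
  have cA : ∀ c ∈ zpowers a, ∀ y ∈ (zpowers (π a)).comap π, c * y = y * c := fun c hc y hy => by
    obtain ⟨e, he, rfl | rfl⟩ := hA y hy
    · exact comm_of_mem_zpowers hc he
    · rw [← mul_assoc, comm_of_mem_zpowers hc he, mul_assoc, hz', mul_assoc]
  by_cases hx : x ∈ (zpowers (π a)).comap π
  · have : (zpowers (π a)).comap π ≤ Cz x := fun y hy => mem_centralizer_singleton_iff.mpr (by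
      obtain ⟨e, he, rfl | rfl⟩ := hA y hy
      · exact cA _ he x hx
      · rw [mul_assoc, ← hz', ← mul_assoc, cA _ he x hx, mul_assoc])
    have := card_le_of_le this
    rw [card_top] at hi
    omega
  obtain ⟨j, hj⟩ := four_dvd_orderOf (hS a) fun e => by
    have := orderOf_le_of_pow_eq_one two_pos ((pow_two a).trans e)
    omega
  have j0 : 0 < j := by omega
  have b2 : orderOf (a ^ (2 * j)) = 2 := by
    rw [orderOf_pow' _ (by omega), hj, show 4 * j = 2 * (2 * j) by ring, Nat.gcd_mul_left_left,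
      Nat.mul_div_cancel _ (by omega)]
  have bz : a ^ (2 * j) ≠ z := fun e => by
    have : π a ^ (2 * j) = 1 := by
      rw [← map_pow, e]; exact (QuotientGroup.eq_one_iff z).mpr (mem_zpowers z)
    have := Nat.le_of_dvd (by omega) (orderOf_dvd_of_pow_eq_one this)
    omega
  have hb' : x * a ^ (2 * j) * x⁻¹ = a ^ (2 * j) := by
    refine eq_of_mem_zpowers ?_ (pow_mem (mem_zpowers a) _) (by rw [H9.orderOf_conj, b2]) b2
    rw [← conj_pow]
    obtain ⟨e, he, e1 | e1⟩ := hA _ (conj_mem_of_mem_normalizer (le_nm_of_card le_top hi (mem_top x)) aA)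
    · rw [e1]; exact pow_mem he _
    · rw [e1, Commute.mul_pow (hz' e), pow_mul z, pow_two, zz, one_pow, mul_one]; exact pow_mem he _
  have hr : Refl z (a ^ (2 * j)) := ⟨b2, hz' _, bz⟩
  have := two_mul_le (H := four z (a ^ (2 * j))) (four_le.mpr ⟨mem_centralizer_singleton_iff.mpr
    (hz' x).symm, Cz_symm (mem_of_conj hb')⟩) (self_mem x) fun e => hx (four_le.mpr ⟨by
      rw [mem_comap, show π z = 1 from (QuotientGroup.eq_one_iff z).mpr (mem_zpowers z)]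
      exact one_mem _, pow_mem aA _⟩ e)
  rw [card_four z2 hr] at this
  exact absurd (this.trans hC) (by decide)

variable {G : Type*} [Group G] [Finite G]

theorem mc {T : Subgroup G} (hT : IsPGroup 2 T) {x : G} (hx : x ∈ T)
    (hC : Nat.card ↥(T ⊓ Cz x) ≤ 4) : ∃ a ∈ T, Nat.card T ≤ 2 * orderOf a := by
  obtain ⟨a, ha⟩ := mc_aux _ T rfl hT ⟨x, hx⟩ (le_trans (Nat.card_le_card_of_injective
    (fun y : Cz (⟨x, hx⟩ : T) => (⟨y.1.1, mem_inf.mpr ⟨y.1.2, mem_centralizer_singleton_iff.mpr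
      (congrArg Subtype.val (mem_centralizer_singleton_iff.mp y.2))⟩⟩ : ↥(T ⊓ Cz x)))
    fun a b e => Subtype.ext (Subtype.ext (congrArg (fun y : ↥(T ⊓ Cz x) => (y : G)) e))) hC)
  exact ⟨a, a.2, by rwa [orderOf_coe]⟩

theorem four_cj {S : Subgroup G} {a z s t : G} (ha : a ∈ S) (hS : Nat.card S ≤ 2 * orderOf a)
    (hz : z ∈ zpowers a) (z2 : orderOf z = 2) (hs : s ∈ S) (s2 : s * s = 1) (t2 : t * t = 1)
    (h : s * t ∈ zpowers (a * a)) :
    ∃ k, k * z * k⁻¹ = z ∧ (k * s * k⁻¹ = t ∨ k * s * k⁻¹ = z * t) := by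
  obtain ⟨j, hj⟩ := h
  have hb : a ^ j ∈ zpowers a := zpow_mem_zpowers a j
  have hj' : s * t = a ^ j * a ^ j := by rw [← hj, ← Commute.mul_zpow rfl]
  have n := le_nm_of_card (zpowers_le.mpr ha) (by rwa [Nat.card_zpowers]) hs
  have h1 := conj_mem_of_mem_normalizer n hb
  have si : s⁻¹ = s := inv_eq_of_mul_eq_one_right s2
  have ht : t = s * (a ^ j * a ^ j) := by rw [← hj', ← mul_assoc, s2, one_mul]
  have c2 : s * a ^ j * s⁻¹ * a ^ j * (s * a ^ j * s⁻¹ * a ^ j) = 1 := by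
    rw [mul_assoc _ (a ^ j), ← mul_assoc (a ^ j), ← comm_of_mem_zpowers h1 hb, ← t2, ht, si]
    calc _ = s * (a ^ j * (s * s) * a ^ j) * (s * (a ^ j * a ^ j)) := by group
      _ = _ := by rw [s2, mul_one]
  refine ⟨(a ^ j)⁻¹, by rw [comm_of_mem_zpowers (inv_mem hb) hz]; group, ?_⟩
  have e : (a ^ j)⁻¹ * s * (a ^ j)⁻¹⁻¹ = s * (a ^ j * (s * a ^ j * s⁻¹ * a ^ j)⁻¹ * a ^ j) := by
    calc _ = (s * s) * (a ^ j)⁻¹ * s⁻¹ * a ^ j := by rw [s2, si]; group
      _ = _ := by group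
  rw [e]
  rcases mem_zpowers_cases (mul_mem h1 hb) hz c2 z2 with e | e <;> rw [e]
  · left; rw [ht]; group
  · right
    have zs : s * z * s⁻¹ = z := eq_of_mem_zpowers (conj_mem_of_mem_normalizer n hz) hz
      (by rw [H9.orderOf_conj, z2]) z2
    rw [ht, H9.inv_eq_of_orderOf_two z2, comm_of_mem_zpowers hb hz, ← mul_assoc z s,
      ← mul_inv_eq_iff_eq_mul.mp zs]
    group

theorem sq_pigeon {a p q : G} (hp : p ∈ zpowers a) (hq : q ∈ zpowers a) (h1 : p ∉ zpowers (a * a))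
    (h2 : q ∉ zpowers (a * a)) : p * q ∈ zpowers (a * a) := by
  obtain ⟨i, rfl⟩ := hp
  obtain ⟨j, rfl⟩ := hq
  have k : ∀ i : ℤ, Even i → a ^ i ∈ zpowers (a * a) := by
    rintro _ ⟨i, rfl⟩
    exact ⟨i, by simp only; rw [zpow_add, Commute.mul_zpow rfl]⟩
  simp only at h1 h2 ⊢
  rw [← zpow_add]
  exact k _ ((Int.not_even_iff_odd.mp fun e => h1 (k i e)).add_odd
    (Int.not_even_iff_odd.mp fun e => h2 (k j e)))

theorem fin_check : ∀ n : Fin 7, ∀ k : Fin 8, ∀ a : Fin 8, ∀ d : Fin 50,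
    ((n : ℕ) : ℤ) * ((d : ℕ) - (((a : ℕ) : ℤ) - 4)) ^ 2 = 4 * (k : ℕ) * (((d : ℕ) : ℤ) ^ 2 + 2 * (d : ℕ) +
      2 * (((a : ℕ) : ℤ) - 4) * (d : ℕ) + (((a : ℕ) : ℤ) - 4)) →
    1 + (((a : ℕ) : ℤ) - 4) ^ 2 + (((a : ℕ) : ℤ) - 4 + 1) ^ 2 ≤ 4 * (k : ℕ) →
    0 ≤ ((d : ℕ) : ℤ) + 3 * (((a : ℕ) : ℤ) - 4) → 0 < (d : ℕ) →
    ((k : ℕ), (a : ℕ), (d : ℕ)) ∈ [(1, 3, 3), (1, 3, 7), (2, 3, 3), (1, 4, 8), (1, 4, 4), (2, 3, 7),
      (3, 3, 3)] := by
  decide +kernel

theorem bound3 {n c d a : ℤ} (hc : 0 < c) (hd : 0 < d) (h : n * (d - a) ^ 2 =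
    c * (d ^ 2 + 2 * d + 2 * a * d + a)) (h1 : a < d) (h3 : 0 ≤ d + 3 * a) : 3 * c < 16 * n := by
  have h4 : 3 * (d - a) ^ 2 < 16 * (d ^ 2 + 2 * d + 2 * a * d + a) := by nlinarith
  have h5 : 0 < (d - a) ^ 2 := by positivity
  nlinarith

theorem bound7 {n c d a : ℤ} (hc : 0 < c) (hd : 0 < d) (h : n * (d - a) ^ 2 =
    c * (d ^ 2 + 2 * d + 2 * a * d + a)) (h1 : a < d) (h3 : 0 ≤ d + 7 * a) : c < 2 * n := by
  have h4 : (d - a) ^ 2 < 2 * (d ^ 2 + 2 * d + 2 * a * d + a) := by nlinarith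
  have h5 : 0 < (d - a) ^ 2 := by positivity
  nlinarith

theorem arith {n c g : ℕ} {d a : ℤ} (hn : n ≤ 6) (hc : 4 ∣ c) (hd : 0 < d)
    (h : n * (d - a) ^ 2 = c * (d ^ 2 + 2 * d + 2 * a * d + a)) (h1 : a < d) (h3 : 0 ≤ d + 3 * a)
    (h4 : 1 + a ^ 2 + (a + 1) ^ 2 ≤ c) (h5 : 3 * c * c * (d * (d + 1)) = g * ((d - a) * (d - a)))
    (h6 : 4 ∣ g) (h7 : ¬ 9 ∣ g) : g = 60 ∨ g = 168 := by
  have c0 : (0 : ℤ) < c := by nlinarith
  have b := bound3 c0 hd h h1 h3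
  obtain ⟨k, rfl⟩ := hc
  have k8 : k < 8 := by omega
  have a1 : -4 ≤ a := by push_cast at h4; nlinarith
  have a2 : a ≤ 3 := by push_cast at h4; nlinarith
  have d1 : d < 50 := by
    by_contra hd'
    by_cases e : n ≤ 3 * k
    · have e' : (n : ℤ) ≤ 3 * k := by exact_mod_cast e
      have h5 : 0 < (d - a) ^ 2 := by positivity
      have k0 : (0 : ℤ) < k := by omega
      have : 4 * (d ^ 2 + 2 * d + 2 * a * d + a) ≤ 3 * (d - a) ^ 2 := by
        push_cast at h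
        nlinarith
      nlinarith
    · have k1 : k = 1 := by omega
      subst k1
      have a3 : -1 ≤ a := by push_cast at h4; nlinarith
      have a4 : a ≤ 0 := by push_cast at h4; nlinarith
      have n4 : 4 ≤ n := by omega
      push_cast at h
      interval_cases n <;> interval_cases a <;> push_cast at h <;> nlinarith
  obtain ⟨a', rfl⟩ : ∃ a' : ℕ, a = a' - 4 := ⟨(a + 4).toNat, by omega⟩
  obtain ⟨d', rfl⟩ : ∃ d' : ℕ, d = d' := ⟨d.toNat, by omega⟩
  have := fin_check ⟨n, by omega⟩ ⟨k, k8⟩ ⟨a', by omega⟩ ⟨d', by omega⟩ (by simpa using h)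
    (by simpa using h4) h3 (by simpa using hd)
  simp only [List.mem_cons, Prod.mk.injEq, List.not_mem_nil, or_false] at this
  rcases this with ⟨rfl, rfl, rfl⟩ | ⟨rfl, rfl, rfl⟩ | ⟨rfl, rfl, rfl⟩ | ⟨rfl, rfl, rfl⟩ |
    ⟨rfl, rfl, rfl⟩ | ⟨rfl, rfl, rfl⟩ | ⟨rfl, rfl, rfl⟩ <;> norm_num at h5 <;> omega

end Cfsg.Agent.H9.F3
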