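import Cfsg.Agent.H9.F3d
import Cfsg.Agent.H5.GWc4

/-! Groups with a self-centralizing element of order three: counting good involutions. -/

set_option autoImplicit false

namespace Cfsg.Agent.H9.F3

open Subgroup H6 H7 H8 GW MS

variable {G : Type*} [Group G] [Finite G]

theorem ncard_sdiff_one (A : Subgroup G) : ((A : Set G) \ {1}).ncard + 1 = Nat.card A := by
  rw [Set.ncard_sdiff_singleton_add_one (one_mem A), ncard_subgroup]

theorem count2 {w : G} {A B : Subgroup G} (h : ∀ u, Gd w u → u ∈ A ∨ u ∈ B) :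
    {u | Gd w u}.ncard + 2 ≤ Nat.card A + Nat.card B := by
  have h1 : {u | Gd w u}.ncard ≤ (((A : Set G) \ {1}) ∪ ((B : Set G) \ {1})).ncard :=
    Set.ncard_le_ncard fun u hu => (h u hu).imp (fun e => ⟨e, hu.ne⟩) fun e => ⟨e, hu.ne⟩
  have h2 := Set.ncard_union_le ((A : Set G) \ {1}) ((B : Set G) \ {1})
  have := ncard_sdiff_one A
  have := ncard_sdiff_one B
  omega

theorem count3 {w : G} {A B C : Subgroup G} (h : ∀ u, Gd w u → u ∈ A ∨ u ∈ B ∨ u ∈ C) :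
    {u | Gd w u}.ncard + 3 ≤ Nat.card A + Nat.card B + Nat.card C := by
  have h1 : {u | Gd w u}.ncard ≤
      (((A : Set G) \ {1}) ∪ (((B : Set G) \ {1}) ∪ ((C : Set G) \ {1}))).ncard :=
    Set.ncard_le_ncard fun u hu => (h u hu).imp (fun e => ⟨e, hu.ne⟩)
      fun e => e.imp (fun e => ⟨e, hu.ne⟩) fun e => ⟨e, hu.ne⟩
  have h2 := Set.ncard_union_le ((A : Set G) \ {1}) (((B : Set G) \ {1}) ∪ ((C : Set G) \ {1}))
  have h2 := Set.ncard_union_le ((B : Set G) \ {1}) ((C : Set G) \ {1})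
  have := ncard_sdiff_one A
  have := ncard_sdiff_one B
  have := ncard_sdiff_one C
  omega

theorem SC.refl {w u : G} (h : SC w) {L : Subgroup G} (hL : Iv w L) (hu : u ∈ L)
    (u2 : orderOf u = 2) : Refl u (w * u * w⁻¹) :=
  ⟨by rw [H9.orderOf_conj, u2], (h.comm hL hu).symm, h.ne_cj hL hu (ne_one_of_orderOf_two u2)⟩

theorem SC.exists_mq_of_gd {w u : G} (h : SC w) (hu : Gd w u) : ∃ Q, MQ w Q ∧ u ∈ Q := by
  obtain ⟨p1, p2⟩ := h.two_of_gd hu
  obtain ⟨Q, h1, h2⟩ := h.exists_mq p1 p2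
  exact ⟨Q, h1, h2 (mem_sup_left (mem_zpowers u))⟩

theorem e8 {a b y : G} (ha : orderOf a = 2) (hb : Refl a b) (y2 : y * y = 1) (h1 : y * a = a * y)
    (h2 : y * b = b * y) (hy : y ∉ four a b) :
    ∃ E : Subgroup G, (∀ v ∈ E, v * v = 1) ∧ 8 ≤ Nat.card E := by
  have hc : y ∈ centralizer (four a b : Set G) := mem_centralizer_four.mpr ⟨h1, h2⟩
  refine ⟨zpowers y ⊔ four a b, fun v hv => ?_, ?_⟩
  · obtain ⟨p, hp, q, hq, rfl⟩ := (mem_sup_of_le_normalizer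
      (zpowers_le.mpr (centralizer_le_normalizer _ hc))).mp hv
    rcases (mem_zpowers_of_mul_self y2).mp hp with rfl | rfl
    · rw [one_mul]; exact four_sq ha hb hq
    · exact mul_sq y2 (four_sq ha hb hq) (hc q hq).symm
  · have := two_mul_le (H := four a b) (K := zpowers y ⊔ four a b) le_sup_right
      (mem_sup_left (mem_zpowers y)) hy
    rwa [card_four ha hb] at this

namespace MQ

variable {w : G} {Q : Subgroup G} (h : MQ w Q)
include h

omit [Finite G] in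
theorem ne_bot {R : Subgroup G} (hR : MQ w R) (h0 : R ≠ ⊥) : Q ≠ ⊥ := fun e =>
  h0 (eq_bot_iff.mpr (e ▸ h.max R hR.pg hR.nm (e ▸ bot_le)))

omit [Finite G] in
theorem cz_cj {z : G} (hz : Q ≤ Cz z) : Q ≤ Cz (w * z * w⁻¹) := fun q hq => by
  have := conj_mem_Cz (g := w) (hz (h.iv.inv.cj hq))
  simpa [mul_assoc] using this

theorem selfc (h0 : Q ≠ ⊥) (h4 : Nat.card Q ≤ 4) {S : Subgroup G} (hS : IsPGroup 2 S) (hle : Q ≤ S) :
    ∃ a ∈ S, Nat.card S ≤ 2 * orderOf a := by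
  obtain ⟨z, hz, z1, hc, hc'⟩ := exists_ne_one_centralized (P := S ⊓ normalizer (Q : Set G))
    (hS.to_inf_left) h.pg inf_le_right h0
  have k := h.cz_cj fun q hq => mem_centralizer_singleton_iff.mpr (hc' q hq)
  refine mc hS (hle (h.iv.cj hz)) ((card_le_of_le ?_).trans h4)
  by_contra e
  obtain ⟨r, h1, h2, h3⟩ := exists_mem_normalizer_not_mem
    (isNilpotent_of_isPGroup (hS.to_inf_left : IsPGroup 2 ↥(S ⊓ Cz (w * z * w⁻¹)))) (le_inf hle k) e
  exact h2 (h.mem_of_cz h3 (exists_pow_eq_one_of_mem hS h1.1) hz z1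
    (mem_centralizer_singleton_iff.mpr (hc r (mem_inf.mpr ⟨h1.1, h3⟩))) h1.2)

theorem card_of_cyc {S : Subgroup G} {a g : G} (ha : a ∈ S) (hS : Nat.card S ≤ 2 * orderOf a)
    (hg : H8.cj g Q ≤ S) : Nat.card Q ≤ 4 := by
  have h' := h.cj g
  rw [← card_cj g Q]
  generalize H8.cj g Q = R at h' hg
  generalize g * w * g⁻¹ = v at h'
  have k1 : Nat.card R ≤ 2 * Nat.card ↥(R ⊓ zpowers a) := by
    by_cases e : R ≤ zpowers a
    · rw [inf_eq_left.mpr e]; omega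
    obtain ⟨r, hr, hr'⟩ := SetLike.not_le_iff_exists.mp e
    exact card_le_of_mul_mem inf_le_left hr fun s hs hs' => mem_inf.mpr ⟨mul_mem hs hr,
      mul_mem2 (zpowers_le.mpr ha) (by rwa [Nat.card_zpowers]) (hg hs) (hg hr)
        (fun e => hs' (mem_inf.mpr ⟨hs, e⟩)) hr'⟩
  have k2 := card_mul_card_le_of_disjoint (A := R ⊓ zpowers a) (B := H8.cj v⁻¹ (R ⊓ zpowers a)) (K := R)
    inf_le_left (cj_le_of_mem_normalizer (inv_mem h'.nm) inf_le_left) (by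
      by_contra e
      obtain ⟨u, hu, u1, u2⟩ := exists_involution_of_ne_bot (h'.pg.to_inf_left.to_inf_left) e
      have := mem_cj.mp hu.2
      rw [inv_inv] at this
      exact h'.sc.ne_cj h'.iv hu.1.1 u1 (eq_of_mem_zpowers this.2 hu.1.2
        (by rw [H9.orderOf_conj, orderOf_two_of u1 u2]) (orderOf_two_of u1 u2)))
  rw [card_cj] at k2
  have p0 : 0 < Nat.card ↥(R ⊓ zpowers a) := Nat.card_pos
  have : Nat.card ↥(R ⊓ zpowers a) ≤ 2 := by nlinarith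
  omega

theorem real' (hn : ¬ IsSylowIn 2 Q ⊤) : ∃ x ∈ normalizer (Q : Set G), x * w * x⁻¹ = w⁻¹ := by
  obtain ⟨S, hS, hle⟩ := exists_isSylowIn_ge h.pg (le_top : Q ≤ ⊤)
  obtain ⟨r, h1, h2, h3⟩ := exists_mem_normalizer_not_mem (isNilpotent_of_isPGroup hS.pgroup) hle
    fun e => hn (le_antisymm hle e ▸ hS)
  exact h.real h3 (exists_pow_eq_one_of_mem hS.pgroup h1) h2

theorem eq_of_cj (hn : ¬ IsSylowIn 2 Q ⊤) {g : G} {R : Subgroup G} (hR : MQ w R) (e : H8.cj g Q = R) :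
    R = Q := by
  obtain ⟨x, hx, e'⟩ := h.real' hn
  subst e
  rcases h.sc.cj_cases e' h.nm hR.nm with e | e
  · exact e
  · rw [e, cj_eq_self hx]

theorem four_form (h0 : Q ≠ ⊥) {S : Subgroup G} (hS' : IsSylowIn 2 S ⊤) {a z : G} (ha : a ∈ S)
    (hS : Nat.card S ≤ 2 * orderOf a) (hz : z ∈ zpowers a) (z2 : orderOf z = 2) :
    ∃ g s, s ∈ S ∧ s ∉ zpowers a ∧ Refl z s ∧ H8.cj g Q = four z s := by
  obtain ⟨P, hP, hle⟩ := exists_isSylowIn_ge h.pg (le_top : Q ≤ ⊤)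
  obtain ⟨g, -, rfl⟩ := hP.exists_cj_eq hS'
  have h4 := h.card_of_cyc ha hS (cj_mono g hle)
  have h' := h.cj g
  have hg := cj_mono g hle
  rw [← card_cj g Q] at h4
  have h0' : H8.cj g Q ≠ ⊥ := fun e => h0 (cj_eq_bot_iff.mp e)
  refine ⟨g, ?_⟩
  generalize H8.cj g Q = R at h' hg h4 h0'
  generalize g * w * g⁻¹ = v at h'
  obtain ⟨u, hu, u1, u2⟩ := exists_involution_of_ne_bot h'.pg h0'
  have uo := orderOf_two_of u1 u2
  have hr := h'.sc.refl h'.iv hu uo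
  have key : ∀ s ∈ R, s ∉ zpowers a → orderOf s = 2 → ∀ t ∈ R, t ∈ zpowers a → orderOf t = 2 →
      s * t = t * s → ∃ s, s ∈ H8.cj g P ∧ s ∉ zpowers a ∧ Refl z s ∧ R = four z s := by
    intro s hs hs' s2 t ht ht' t2 hc
    obtain rfl := eq_of_mem_zpowers ht' hz t2 z2
    have hr : Refl t s := ⟨s2, hc, fun e => hs' (e ▸ ht')⟩
    exact ⟨s, hg hs, hs', hr, (eq_of_le_of_card_ge (four_le.mpr ⟨ht, hs⟩)
      (by rw [card_four t2 hr]; exact h4)).symm⟩
  have hu' := h'.iv.cj hu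
  by_cases e1 : u ∈ zpowers a <;> by_cases e2 : v * u * v⁻¹ ∈ zpowers a
  · exact absurd (eq_of_mem_zpowers e2 e1 hr.1 uo) hr.2.2
  · exact key _ hu' e2 hr.1 u hu e1 uo hr.2.1
  · exact key u hu e1 uo _ hu' e2 hr.1 hr.2.1.symm
  · exact key u hu e1 uo _ (mul_mem hu hu') (mul_mem2 (zpowers_le.mpr ha) (by rwa [Nat.card_zpowers])
      (hg hu) (hg hu') e1 e2) (hr.mul uo).1 (hr.mul uo).2.1.symm

theorem cyc_case (h0 : Q ≠ ⊥) (h4 : Nat.card Q ≤ 4) (hn : ¬ IsSylowIn 2 Q ⊤) :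
    {u | Gd w u}.ncard ≤ 6 := by
  obtain ⟨S, hS', hle⟩ := exists_isSylowIn_ge h.pg (le_top : Q ≤ ⊤)
  obtain ⟨a, ha, hS⟩ := h.selfc h0 h4 hS'.pgroup hle
  have hlt := card_lt_of_lt hle fun e => hn (le_antisymm hle e ▸ hS')
  have c4 : ∀ R, MQ w R → Nat.card R ≤ 4 := fun R hR => by
    obtain ⟨P, hP, hle'⟩ := exists_isSylowIn_ge hR.pg (le_top : R ≤ ⊤)
    obtain ⟨g, -, e⟩ := hP.exists_cj_eq hS'
    exact hR.card_of_cyc ha hS (e ▸ cj_mono g hle')
  have q1 : 1 < Nat.card Q := (one_lt_card_iff_ne_bot Q).mpr h0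
  have q4 := h.sc.card_mod h.iv
  obtain ⟨z, hz, z1, z2⟩ := exists_involution_of_ne_bot (hS'.pgroup.to_le (zpowers_le.mpr ha))
    fun e => by rw [zpowers_eq_bot.mp e, orderOf_one] at hS; omega
  have zo := orderOf_two_of z1 z2
  have ns : ∀ R, MQ w R → ¬ IsSylowIn 2 R ⊤ := fun R hR e => by
    have := e.card_eq_card hS'
    have := c4 R hR
    omega
  have key : ∀ {R R' : Subgroup G} {g g' s s' : G}, MQ w R → MQ w R' → s ∈ S → Refl z s → Refl z s' →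
      H8.cj g R = four z s → H8.cj g' R' = four z s' → s * s' ∈ zpowers (a * a) → R' = R := by
    intro R R' g g' s s' hR hR' hs r1 r2 e1 e2 hm
    obtain ⟨k, k1, k2⟩ := four_cj ha hS hz zo hs r1.sq r2.sq hm
    refine hR.eq_of_cj (ns R hR) (g := g'⁻¹ * k * g) hR' ?_
    rw [cj_mul, cj_mul, e1, ← cj_inv_cj g' R', e2]
    congr 1
    refine (eq_of_le_of_card_ge (four_le.mpr ⟨by simpa [k1] using conj_mem_cj k (left_mem_four z s), ?_⟩)
      (by rw [card_cj, card_four zo r1, card_four zo r2])).symm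
    rcases k2 with k2 | k2
    · exact k2 ▸ conj_mem_cj k (right_mem_four z s)
    · have := conj_mem_cj k (mul_mem_four z s)
      rwa [show k * (z * s) * k⁻¹ = k * z * k⁻¹ * (k * s * k⁻¹) by group, k1, k2, ← mul_assoc, z2,
        one_mul] at this
  obtain ⟨g1, s1, a1, b1, c1, d1⟩ := h.four_form h0 hS' ha hS hz zo
  by_cases e : ∃ R, MQ w R ∧ R ≠ Q
  · obtain ⟨R, hR, hne⟩ := e
    obtain ⟨g2, s2, a2, b2, c2, d2⟩ := hR.four_form (hR.ne_bot h h0) hS' ha hS hz zo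
    have := count2 (w := w) (A := Q) (B := R) fun u hu => by
      obtain ⟨U, hU, uU⟩ := h.sc.exists_mq_of_gd hu
      obtain ⟨g3, s3, a3, b3, c3, d3⟩ := hU.four_form (hU.ne_bot h h0) hS' ha hS hz zo
      by_cases e : s2 * s3 ∈ zpowers (a * a)
      · exact Or.inr (key hR hU a2 c2 c3 d2 d3 e ▸ uU)
      · have m := fun {x y : G} => mul_mem2 (zpowers_le.mpr ha) (by rwa [Nat.card_zpowers]) (x := x) (y := y)
        have := sq_pigeon (m a1 a2 b1 b2) (m a2 a3 b2 b3) (fun e => hne (key h hR a1 c1 c2 d1 d2 e)) e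
        rw [mul_assoc, ← mul_assoc s2, c2.sq, one_mul] at this
        exact Or.inl (key h hU a1 c1 c3 d1 d3 this ▸ uU)
    have := c4 R hR
    omega
  · have := count2 (w := w) (A := Q) (B := Q) fun u hu => by
      obtain ⟨U, hU, uU⟩ := h.sc.exists_mq_of_gd hu
      exact Or.inl ((by_contra fun e' => e ⟨U, hU, e'⟩ : U = Q) ▸ uU)
    omega

theorem sylow_le (h0 : Q ≠ ⊥) (h4 : 4 < Nat.card Q) {S : Subgroup G} (hS : IsPGroup 2 S) (hle : Q ≤ S) :
    Nat.card S ≤ 2 * Nat.card Q := by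
  have hT : IsPGroup 2 ↥(S ⊓ normalizer (Q : Set G)) := hS.to_inf_left
  have h1 : Q ≤ S ⊓ normalizer (Q : Set G) := le_inf hle le_normalizer
  have c := h.card_le hT h1 inf_le_right
  by_cases e : S ≤ S ⊓ normalizer (Q : Set G)
  · exact (card_le_of_le e).trans c
  obtain ⟨s, s1, s2, s3⟩ := exists_mem_normalizer_not_mem (isNilpotent_of_isPGroup hS) inf_le_left e
  have := pu h (h.cj s) hT h1 (cj_le_of_mem_normalizer s3 h1) c (by rwa [card_cj])
    (fun e => s2 (mem_inf.mpr ⟨s1, mem_normalizer_of_cj_le e⟩)) h0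
  rw [card_cj] at this
  omega

theorem exists_z (h0 : Q ≠ ⊥) : ∃ z ∈ Q, orderOf z = 2 ∧ Q ≤ Cz z := by
  obtain ⟨z, hz, z2, -, hc⟩ := exists_orderOf_centralized h.pg h.pg le_normalizer h0
  exact ⟨z, hz, z2, fun q hq => mem_centralizer_singleton_iff.mpr (hc q hq)⟩

theorem e8' {z y : G} (hz : z ∈ Q) (z2 : orderOf z = 2) (hc : Q ≤ Cz z) (hy : y ∈ Q) (y2 : y * y = 1)
    (hy' : y ∉ four z (w * z * w⁻¹)) : ∃ E : Subgroup G, (∀ v ∈ E, v * v = 1) ∧ 8 ≤ Nat.card E :=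
  e8 z2 (h.sc.refl h.iv hz z2) y2 (mem_centralizer_singleton_iff.mp (hc hy))
    (mem_centralizer_singleton_iff.mp (h.cz_cj hc hy)) hy'

theorem no_inv (hS : IsSylowIn 2 Q ⊤) {x : G} (hx : x ∈ normalizer (Q : Set G)) :
    x * w * x⁻¹ ≠ w⁻¹ := fun e => by
  have h1 : x ∈ Q := hS.le_of_le_normalizer' (Q := zpowers x)
    (isPGroup_zpowers ⟨1, by rw [pow_one, pow_two, h.sc.inverter_sq e]⟩) le_top (zpowers_le.mpr hx)
    (mem_zpowers x)
  have := mul_mem h1 (h.iv.cj (inv_mem h1))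
  rw [← mul_assoc, ← mul_assoc, e, h.sc.inv.sq, inv_inv] at this
  exact h.iv.out this

theorem central (hS : IsSylowIn 2 Q ⊤) {z y : G} (hz : z ∈ Q) (z2 : orderOf z = 2) (hc : Q ≤ Cz z)
    (hc' : Q ≤ Cz y) (hy : IsConj z y) : y ∈ four z (w * z * w⁻¹) := by
  obtain ⟨P, rfl⟩ := hS.exists_sylow_top
  obtain ⟨g, rfl⟩ := isConj_iff.mp hy
  obtain ⟨n, hn, e⟩ := burnside_fusion P (fun t ht => mem_centralizer_singleton_iff.mp (hc ht))
    fun t ht => mem_centralizer_singleton_iff.mp (hc' ht)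
  obtain ⟨K, K1, K2, K3, K4⟩ := h.sc.nr h.nm fun x hx => h.no_inv hS hx
  obtain ⟨k, hk, p, hp, rfl⟩ := K4 n hn
  have zz := mul_self_of_orderOf_two z2
  have zK := K3 z (le_normalizer hz) (by rw [z2]; decide)
  have kz : k ∈ Cz z := by
    obtain ⟨a, ha, b, hb, rfl, a2, b2⟩ := exists_two_odd_decomp k
    refine mul_mem (hc (mem_sylow_of_mem_normalizer P (K1 (zpowers_le.mpr hk ha)) a2)) (mem_of_conj ?_)
    have bK := zpowers_le.mpr hk hb
    have c1 := h.sc.engel K2 zK bK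
    have c2 : Commute b (z * b⁻¹ * z⁻¹) := by
      have : Commute b (z * b * z⁻¹) := h.sc.engel K2 bK zK
      simpa [mul_assoc] using this.inv_right
    have c3 := mul_sq (sq_of_isConj zz (isConj_iff.mpr ⟨b, rfl⟩)) zz c1.symm
    have c4 : (b * z * b⁻¹ * z) ^ orderOf b = 1 := by
      rw [show b * z * b⁻¹ * z = b * (z * b⁻¹ * z⁻¹) by rw [H9.inv_eq_of_orderOf_two z2]; group,
        c2.mul_pow, conj_pow, inv_pow, pow_orderOf_eq_one]
      group
    have c5 := eq_one_of_odd_of_two (b2.of_dvd_nat (orderOf_dvd_of_pow_eq_one c4))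
      ⟨1, by rw [pow_one, pow_two, c3]⟩
    rw [eq_inv_of_mul_eq_one_left c5, H9.inv_eq_of_orderOf_two z2]
  rw [← e, show p * k * z * (p * k)⁻¹ = p * (k * z * k⁻¹) * p⁻¹ by group, conj_eq kz]
  rcases h.sc.mem_zp.mp hp with rfl | rfl | rfl
  · simpa using left_mem_four _ _
  · exact right_mem_four _ _
  · rw [inv_inv, eq_inv_of_mul_eq_one_right (h.sc.rel h.iv hz)]
    exact inv_mem (mul_mem_four _ _)

end MQ

end Cfsg.Agent.H9.F3
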