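import Cfsg.Agent.H9.F3f
import Cfsg.Agent.H4.TP6
import Cfsg.Agent.H7.BrauerSuzuki

/-! Simple groups with a self-centralizing element of order four. -/

set_option autoImplicit false

namespace Cfsg.Agent.H9.F3

open Subgroup H6 H7 H8 GW MS

variable {G : Type*} [Group G] [Finite G]

theorem cd_mono {P S : Subgroup G} (h : CD S) (hle : P ≤ S) : CD P := by
  obtain ⟨ρ, -, h1, h2⟩ := h
  have : IsCyclic ↥(P ⊓ zpowers ρ) := isCyclic_of_le inf_le_right
  obtain ⟨σ, hσ⟩ := (Subgroup.isCyclic_iff_exists_zpowers_eq_top _).1 this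
  have key : ∀ x ∈ P, x ∉ zpowers σ → x ∉ zpowers ρ := fun x hx h3 h4 => h3 (hσ ▸ ⟨hx, h4⟩)
  exact ⟨σ, (hσ ▸ mem_zpowers σ : σ ∈ P ⊓ zpowers ρ).1, fun x hx h3 => h1 x (hle hx) (key x hx h3),
    fun x hx y hy h3 h4 => hσ ▸ ⟨mul_mem hx hy, h2 x (hle hx) y (hle hy) (key x hx h3) (key y hy h4)⟩⟩

theorem ds_of_cd {S : Subgroup G} (hS : IsSylowIn 2 S ⊤) (h : CD S) : DS G := by
  intro P hP
  obtain ⟨T, hT, hPT⟩ := exists_isSylowIn_ge hP (le_top : P ≤ ⊤)
  obtain ⟨k, -, rfl⟩ := hS.exists_cj_eq hT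
  refine cd_mono ?_ hPT
  obtain ⟨ρ, h0, h1, h2⟩ := h
  have key : ∀ x, x ∈ zpowers (k * ρ * k⁻¹) ↔ k⁻¹ * x * k ∈ zpowers ρ := fun x => by
    rw [← mem_cj, cj, MonoidHom.map_zpowers]; rfl
  refine ⟨k * ρ * k⁻¹, conj_mem_cj k h0, fun x hx h3 => ?_, fun x hx y hy h3 h4 => ?_⟩
  · have := h1 _ (mem_cj.1 hx) fun e => h3 ((key x).2 e)
    calc x * x = k * (k⁻¹ * x * k * (k⁻¹ * x * k)) * k⁻¹ := by group
      _ = 1 := by rw [this]; group
  · have := h2 _ (mem_cj.1 hx) _ (mem_cj.1 hy) (fun e => h3 ((key x).2 e)) fun e => h4 ((key y).2 e)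
    exact (key _).2 (by simpa [mul_assoc] using this)

theorem exists_invol_out [IsSimpleGroup G] {T : Subgroup G} (hT : IsSylowIn 2 T ⊤) (hc : ¬ IsCyclic T)
    {t : G} (ht : t ∈ T) (t2 : orderOf t = 2) (a : G) : ∃ s ∈ T, s ∉ zpowers a ∧ s * s = 1 := by
  by_contra e
  obtain ⟨P, rfl⟩ := hT.exists_sylow_top
  have k : ∀ x ∈ (P : Subgroup G), orderOf x = 2 → x ∈ zpowers a := fun x hx x2 =>
    by_contra fun b => e ⟨x, hx, b, mul_self_of_orderOf_two x2⟩
  obtain ⟨N, n1, n2, n3⟩ := exists_normal_ne_top_of_unique_involution P hc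
    (fun x hx y hy x2 y2 => eq_of_mem_zpowers (k x hx x2) (k y hy y2) x2 y2) ht t2
  rcases n1.eq_bot_or_eq_top with e | e
  · exact ne_one_of_orderOf_two t2 (by rwa [e, mem_bot] at n3)
  · exact n2 e

omit [Finite G] in
theorem sq_order {w : G} (hw : orderOf w = 4) : orderOf (w * w) = 2 := by
  rw [← pow_two, orderOf_pow' _ (by norm_num), hw]; rfl

theorem sylow_le_eight [IsSimpleGroup G] (hp : commutator G = ⊤) {w : G} (hw : orderOf w = 4)
    (hC : Nat.card (Cz w) ≤ 4) {T : Subgroup G} (hT : IsSylowIn 2 T ⊤) (hc : ¬ IsCyclic T)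
    (wT : w ∈ T) : Nat.card T ≤ 8 := by
  obtain ⟨a, aT, ha⟩ := mc hT.pgroup wT ((card_le_of_le inf_le_right).trans hC)
  by_contra h8
  have t2 := sq_order hw
  obtain ⟨s, sT, sK, s2⟩ := exists_invol_out hT hc (mul_mem wT wT) t2 a
  have KT : zpowers a ≤ T := zpowers_le.mpr aT
  have hK : Nat.card T ≤ 2 * Nat.card (zpowers a) := by rwa [Nat.card_zpowers]
  have big : ∀ y ∈ zpowers a, 4 < Nat.card (Cz y) := fun y hy => by
    have : zpowers a ≤ Cz y := fun b hb => mem_centralizer_singleton_iff.mpr (comm_of_mem_zpowers hb hy)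
    have := card_le_of_le this
    omega
  have wK : w ∉ zpowers a := fun e => absurd (big w e) (by omega)
  have ws := mul_mem2 KT hK wT sT wK sK
  have tK := mul_mem2 KT hK wT wT wK wK
  have si : s⁻¹ = s := inv_eq_of_mul_eq_one_right s2
  have sN := le_nm_of_card KT hK sT
  have a2 : a * a ≠ 1 := fun e => by
    have := orderOf_le_of_pow_eq_one two_pos ((pow_two a).trans e)
    omega
  obtain ⟨j, hj⟩ := four_dvd_orderOf (exists_pow_eq_one_of_mem hT.pgroup aT) a2
  have o2 : orderOf (a * a) = 2 * j := by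
    rw [← pow_two, orderOf_pow' _ (by norm_num), hj, show 4 * j = 2 * j * 2 by ring,
      Nat.gcd_mul_left_left, Nat.mul_div_cancel _ two_pos]
  have j0 : 0 < j := by have := orderOf_pos a; omega
  have IK : zpowers (a * a) ≤ zpowers a := zpowers_le.mpr (mul_mem (mem_zpowers a) (mem_zpowers a))
  have inv2 : s * (a * a) * s⁻¹ = (a * a)⁻¹ := by
    have h1 := conj_mem_of_mem_normalizer sN (mem_zpowers a)
    have h2 := mul_mem h1 (mem_zpowers a)
    have h3 : s * a * s⁻¹ * a ∈ Cz s := mem_centralizer_singleton_iff.mpr (by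
      calc s * a * s⁻¹ * a * s = a * (s * a * s⁻¹) * s := by rw [comm_of_mem_zpowers h1 (mem_zpowers a)]
        _ = s * s * a * s * a := by rw [s2]; group
        _ = _ := by rw [si]; group)
    have h4 : s * a * s⁻¹ * a ∈ Cz w := by
      have := mul_mem (Cz_symm (mem_centralizer_singleton_iff.mpr (comm_of_mem_zpowers h2 ws)))
        (Cz_symm h3)
      rw [mul_assoc w, s2, mul_one] at this
      exact Cz_symm this
    have h5 := two_mul_le (H := zpowers a ⊓ Cz w) inf_le_right (self_mem w) fun e => wK e.1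
    have h6 : s * a * s⁻¹ * a * (s * a * s⁻¹ * a) = 1 := by
      rcases eq_one_or_eq_of_card_le_two (H := zpowers a ⊓ Cz w) (by omega)
        (mem_inf.mpr ⟨tK, mul_mem (self_mem w) (self_mem w)⟩) (ne_one_of_orderOf_two t2)
        (mem_inf.mpr ⟨h2, h4⟩) with e | e <;> rw [e]
      · exact mul_one _
      · exact mul_self_of_orderOf_two t2
    refine eq_inv_of_mul_eq_one_left ?_
    rw [← h6, mul_assoc _ a, ← mul_assoc a _ a, ← comm_of_mem_zpowers h1 (mem_zpowers a)]
    group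
  have invI : ∀ b ∈ zpowers (a * a), s * b * s⁻¹ = b⁻¹ := by
    rintro _ ⟨i, rfl⟩
    simp only
    rw [← conj_zpow, inv2, inv_zpow]
  have sq1 : ∀ y, y * s ∈ zpowers (a * a) → y * y = 1 := fun y hy => by
    have := invI _ hy
    rw [mul_inv_rev, mul_assoc, mul_inv_cancel_right, si, mul_left_cancel_iff] at this
    exact mul_eq_one_iff_eq_inv.mpr this
  have sM : zpowers s ≤ normalizer ((zpowers (a * a) : Subgroup G) : Set G) :=
    zpowers_le.mpr (mem_normalizer_of_conj_mem fun b hb => by rw [invI b hb]; exact inv_mem hb)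
  have memM : ∀ y, y ∈ zpowers (a * a) ⊔ zpowers s ↔ y ∈ zpowers (a * a) ∨ y * s ∈ zpowers (a * a) :=
    fun y => by
    rw [mem_sup_of_le_normalizer' sM]
    constructor
    · rintro ⟨b, hb, c, hc, rfl⟩
      rcases (mem_zpowers_of_mul_self s2).mp hc with rfl | rfl
      · exact Or.inl (by simpa using hb)
      · exact Or.inr (by rwa [mul_assoc, s2, mul_one])
    · rintro (e | e)
      · exact ⟨y, e, 1, one_mem _, mul_one _⟩
      · exact ⟨_, e, s, mem_zpowers s, by rw [mul_assoc, s2, mul_one]⟩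
  have MT : zpowers (a * a) ⊔ zpowers s ≤ T := sup_le (IK.trans KT) (zpowers_le.mpr sT)
  have aM : a ∉ zpowers (a * a) ⊔ zpowers s := fun e => by
    rcases (memM a).mp e with e | e
    · have := Nat.le_of_dvd (orderOf_pos _) (orderOf_dvd_of_mem_zpowers e)
      omega
    · exact a2 (sq1 a e)
  have cM := two_mul_le (H := zpowers (a * a)) (K := zpowers (a * a) ⊔ zpowers s) le_sup_left
    (mem_sup_right (mem_zpowers s)) fun e => sK (IK e)
  rw [Nat.card_zpowers] at cM
  obtain ⟨N, hN, -⟩ := exists_index_two_of_not_conj (H := T) (M := zpowers (a * a) ⊔ zpowers s) (x := w)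
    (by obtain ⟨P, rfl⟩ := hT.exists_sylow_top; exact sylow_two_index_odd P)
    (idx2 MT (by omega) aT aM) (exists_pow_eq_one_of_mem hT.pgroup wT) (fun g e => by
      have hcj : IsConj w (g⁻¹ * w * g) := isConj_iff.mpr ⟨g⁻¹, by rw [inv_inv]⟩
      rcases (memM _).mp e with e | e
      · have := big _ (IK e)
        rw [← card_centralizer_eq_of_isConj hcj] at this
        exact absurd (this.trans_le hC) (lt_irrefl _)
      · exact ne_one_of_orderOf_two t2 (sq_of_isConj (sq1 _ e) hcj.symm)) fun k g k0 hy => by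
      have y2 : g⁻¹ * w ^ 2 ^ k * g * (g⁻¹ * w ^ 2 ^ k * g) = 1 := by
        refine sq_of_isConj ?_ (isConj_iff.mpr ⟨g⁻¹, by rw [inv_inv]⟩)
        obtain ⟨k, rfl⟩ : ∃ l, k = l + 1 := ⟨k - 1, by omega⟩
        rw [← pow_add, ← orderOf_dvd_iff_pow_eq_one, hw]
        exact ⟨2 ^ k, by ring⟩
      generalize g⁻¹ * w ^ 2 ^ k * g = y at hy y2
      refine (memM y).mpr ?_
      by_cases e : y ∈ zpowers a
      · have b2 : orderOf ((a * a) ^ j) = 2 := by
          rw [orderOf_pow' _ j0.ne', o2, Nat.gcd_mul_left_left, Nat.mul_div_cancel _ j0]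
        rcases mem_zpowers_cases e (IK (pow_mem (mem_zpowers _) j)) y2 b2 with rfl | rfl
        · exact Or.inl (one_mem _)
        · exact Or.inl (pow_mem (mem_zpowers _) j)
      · refine Or.inr (by_contra fun e' => ne_one_of_orderOf_two t2 ?_)
        have ys := mul_mem2 KT hK hy sT e sK
        by_cases e2 : w * s ∈ zpowers (a * a)
        · exact sq1 w e2
        · have h1 := invI _ (sq_pigeon ws ys e2 e')
          have h2 : s * (y * s) * s⁻¹ = (y * s)⁻¹ := by
            rw [mul_inv_rev, si, inv_eq_of_mul_eq_one_right y2, mul_assoc, mul_assoc, s2, mul_one]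
          rw [show s * (w * s * (y * s)) * s⁻¹ = s * (w * s) * s⁻¹ * (s * (y * s) * s⁻¹) by group, h2,
            comm_of_mem_zpowers ws ys, mul_inv_rev (y * s), mul_right_cancel_iff, mul_inv_rev, mul_assoc,
            mul_inv_cancel_right, si, mul_left_cancel_iff] at h1
          exact mul_eq_one_iff_eq_inv.mpr h1
  exact index_ne_two_of_perfect hp N hN

theorem psl7_of_card [IsSimpleGroup G] (h : Nat.card G = 168) :
    ∃ (F : Type) (_ : Field F) (_ : Fintype F), Fintype.card F = 7 ∧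
      Nonempty (G ≃* Matrix.ProjectiveSpecialLinearGroup (Fin 2) F) :=
  ⟨ZMod 7, inferInstance, inferInstance, ZMod.card 7,
    psl_of_card_sylow (p := 7) (ZMod.card 7) (O168.na h) (O168.n7 h) (by rw [h])⟩

theorem four_main [IsSimpleGroup G] (hG : ¬ IsMulCommutative G) {w : G} (hw : orderOf w = 4)
    (hC : Nat.card (Cz w) ≤ 4) : Nonempty (G ≃* alternatingGroup (Fin 6)) ∨ Nat.card G = 2520 ∨
      Nat.card G = 168 := by
  have hp := perfect_of_simple hG
  have t2 := sq_order hw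
  have w4 : w ^ 2 ^ 2 = 1 := by rw [← orderOf_dvd_iff_pow_eq_one, hw]; rfl
  obtain ⟨T, hT, wT⟩ := exists_isSylowIn_ge (isPGroup_zpowers ⟨2, w4⟩) (le_top : zpowers w ≤ ⊤)
  have hc := not_cyclic_sylow hp (t2 ▸ orderOf_dvd_natCard _) hT
  have wT' := wT (mem_zpowers w)
  have h8 := sylow_le_eight hp hw hC hT hc wT'
  have hK : Nat.card T ≤ 2 * Nat.card (zpowers w) := by rw [Nat.card_zpowers, hw]; exact h8
  have eC : zpowers w = Cz w := eq_of_le_of_card_ge (zpowers_le.mpr (self_mem w))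
    (by rw [Nat.card_zpowers, hw]; exact hC)
  obtain ⟨s, sT, sK, s2⟩ := exists_invol_out hT hc (mul_mem wT' wT') t2 w
  have inv : s * w * s⁻¹ = w⁻¹ := by
    rcases O168.eq_sq_of_mem hw (conj_mem_of_mem_normalizer (le_nm_of_card wT hK sT) (mem_zpowers w))
      with e | e | e | e
    · have := H9.orderOf_conj s w
      rw [e, hw, orderOf_one] at this; omega
    · exact absurd (eC ▸ mem_of_conj e) sK
    · have := H9.orderOf_conj s w
      rw [e, hw, pow_two, t2] at this; omega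
    · exact e
  have hd : DS G := ds_of_cd hT ⟨w, wT', fun x hx hx' => by
    obtain ⟨i, hi⟩ := mul_mem2 wT hK hx sT hx' sK
    have : x = w ^ i * s := by simp only at hi; rw [hi, mul_assoc, s2, mul_one]
    rw [this]
    calc w ^ i * s * (w ^ i * s) = w ^ i * (s * w * s⁻¹) ^ i * (s * s) := by rw [conj_zpow]; group
      _ = 1 := by rw [inv, s2]; group, fun x hx y hy a b => mul_mem2 wT hK hx hy a b⟩
  rcases gw hG hd with ⟨t, s', K', h'⟩ | h'
  swap
  · exact Or.inr (Or.inl h'.1)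
  obtain ⟨u, K, h, -⟩ := H5.exists_bsw h' t2
  have wK : w ∈ K := (h.cent w (mul_assoc w w w).symm).resolve_right fun e =>
    ne_one_of_orderOf_two t2 (h.mul_self_of_mul_mem e)
  have K4 : Nat.card K = 4 := by
    have h1 : K ≤ Cz w := fun k hk => mem_centralizer_singleton_iff.mpr (h.comm k hk w wK)
    rw [le_antisymm h1 (eC ▸ zpowers_le.mpr wK), ← eC, Nat.card_zpowers, hw]
  obtain ⟨F, _, _, ho, hq, ⟨e⟩⟩ := psl_of_bsw h hp
  have := H5.card_of_psl ho e
  rw [K4] at hq
  rcases hq with hq | hq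
  · rw [hq] at this
    exact Or.inl (H4.alt_six_of_cent hp (by omega) h.t1 (fun s a b => h.fus s (orderOf_two_of b a))
      (by rw [h.card_cent, K4]) ⟨w * w, mem_top _, u, mem_top _, ⟨h.tt, h.t1⟩,
        ⟨h.hs, fun e => h.sK (e ▸ one_mem K)⟩, fun e => h.sK (e ▸ h.tK), h.st.symm⟩)
  · rw [show Fintype.card F = 7 by omega] at this
    exact Or.inr (Or.inr (by omega))

end Cfsg.Agent.H9.F3
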