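import Cfsg.Agent.H7.ZStar
import Cfsg.Agent.H8.SylowIn
import Cfsg.Agent.H5.PBasic
import Cfsg.Agent.L0.Fitting

/-!
# Groups generated by subgroups of order `p` pairwise generating a fixed odd group: basics
-/

set_option autoImplicit false
set_option linter.unusedSectionVars false

namespace Cfsg.Agent.H9.Fs

open Subgroup
open scoped commutatorElement
open Cfsg.Agent.H8 (cj mem_cj IsSylowIn CopAct)

variable {G : Type*} [Group G]

theorem qe_of_mem {q : ℕ} {M : Subgroup G} (hM : IsPGroup q M) {y : G} (hy : y ∈ M) :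
    ∃ k : ℕ, y ^ q ^ k = 1 := by
  obtain ⟨k, hk⟩ := hM ⟨y, hy⟩
  exact ⟨k, congrArg Subtype.val hk⟩

theorem eq_one_of_pow {p q : ℕ} (hp : p.Prime) (hq : q.Prime) (hpq : p ≠ q) {y : G}
    (h1 : y ^ p = 1) {k : ℕ} (h2 : y ^ q ^ k = 1) : y = 1 := by
  have hc : Nat.Coprime p (q ^ k) := ((Nat.coprime_primes hp hq).mpr hpq).pow_right k
  have := Nat.dvd_gcd (orderOf_dvd_of_pow_eq_one h1) (orderOf_dvd_of_pow_eq_one h2)
  rw [hc] at this
  exact orderOf_eq_one_iff.mp (Nat.dvd_one.mp this)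

theorem pow_eq_one_of_mem_zpowers {p : ℕ} {x y : G} (hx : orderOf x = p) (hy : y ∈ zpowers x) :
    y ^ p = 1 := by
  obtain ⟨i, rfl⟩ := mem_zpowers_iff.mp hy
  rw [← zpow_natCast, ← zpow_mul, mul_comm, zpow_mul, zpow_natCast, ← hx, pow_orderOf_eq_one,
    one_zpow]

theorem orderOf_of_mem_zpowers {p : ℕ} (hp : p.Prime) {x y : G} (hx : orderOf x = p)
    (hy : y ∈ zpowers x) (h1 : y ≠ 1) : orderOf y = p := by
  haveI := Fact.mk hp
  exact orderOf_eq_prime (pow_eq_one_of_mem_zpowers hx hy) h1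

theorem mem_zpowers_symm [Finite G] {p : ℕ} (hp : p.Prime) {x y : G} (hx : orderOf x = p)
    (hy : y ∈ zpowers x) (h1 : y ≠ 1) : x ∈ zpowers y := by
  have h2 : zpowers y = zpowers x := eq_of_le_of_card_ge (zpowers_le.mpr hy) (by
    rw [Nat.card_zpowers, Nat.card_zpowers, hx, orderOf_of_mem_zpowers hp hx hy h1])
  rw [h2]; exact mem_zpowers x

theorem ne_one_of_orderOf {p : ℕ} (hp : p.Prime) {x : G} (hx : orderOf x = p) : x ≠ 1 := by
  rintro rfl
  rw [orderOf_one] at hx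
  exact hp.one_lt.ne hx

theorem commute_of_mem_zpowers {g x y : G} (h : Commute g x) (hy : y ∈ zpowers x) :
    Commute g y := by
  obtain ⟨i, rfl⟩ := mem_zpowers_iff.mp hy
  exact h.zpow_right i

theorem conj_mem_of_norm {M : Subgroup G} {g y : G} (hg : g ∈ normalizer (M : Set G))
    (hy : y ∈ M) : g * y * g⁻¹ ∈ M := (mem_normalizer_iff.mp hg y).mp hy

theorem conj_mem_of_norm' {M : Subgroup G} {g y : G} (hg : g ∈ normalizer (M : Set G))
    (hy : y ∈ M) : g⁻¹ * y * g ∈ M := by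
  simpa using conj_mem_of_norm (inv_mem hg) hy

theorem mem_norm_of [Finite G] {M : Subgroup G} {g : G} (h : ∀ y ∈ M, g * y * g⁻¹ ∈ M) :
    g ∈ normalizer (M : Set G) := H8.mem_normalizer_of_cj_le fun y hy => by
  have := h _ (mem_cj.mp hy)
  simpa [mul_assoc] using this

theorem mem_norm_closure [Finite G] {S : Set G} {g : G}
    (h : ∀ y ∈ S, g * y * g⁻¹ ∈ closure S) : g ∈ normalizer ((closure S : Subgroup G) : Set G) := by
  refine mem_norm_of fun y hy => ?_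
  induction hy using closure_induction with
  | mem y hy => exact h y hy
  | one => simpa using one_mem _
  | mul y z _ _ h1 h2 => simpa [mul_assoc] using mul_mem h1 h2
  | inv y _ h1 => simpa [mul_assoc] using inv_mem h1

theorem mem_norm_sup [Finite G] {A B : Subgroup G} {g : G}
    (h1 : ∀ y ∈ A, g * y * g⁻¹ ∈ A ⊔ B) (h2 : ∀ y ∈ B, g * y * g⁻¹ ∈ A ⊔ B) :
    g ∈ normalizer ((A ⊔ B : Subgroup G) : Set G) := by
  rw [sup_eq_closure] at *
  exact mem_norm_closure fun y hy => hy.elim (h1 y) (h2 y)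

theorem mem_norm_of_commute {M : Subgroup G} {g : G} (h : ∀ y ∈ M, Commute g y) :
    g ∈ normalizer (M : Set G) :=
  centralizer_le_normalizer _ (mem_centralizer_iff.mpr fun y hy => (h y hy).symm.eq)

theorem decomp {M : Subgroup G} {x t : G} (hx : x ∈ normalizer (M : Set G))
    (ht : t ∈ M ⊔ zpowers x) : ∃ m ∈ M, ∃ i : ℤ, t = m * x ^ i := by
  obtain ⟨m, hm, a, ha, rfl⟩ := (H8.mem_sup_of_le_normalizer (zpowers_le.mpr hx)).mp ht
  obtain ⟨i, rfl⟩ := mem_zpowers_iff.mp ha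
  exact ⟨m, hm, i, rfl⟩

theorem comm_le {M T : Subgroup G} {x : G} (hx : x ∈ normalizer (M : Set G))
    (hT : T ≤ M ⊔ zpowers x) : ⁅T, T⁆ ≤ M := by
  refine commutator_le.mpr fun s hs t ht => ?_
  obtain ⟨m₁, h1, i, rfl⟩ := decomp hx (hT hs)
  obtain ⟨m₂, h2, j, rfl⟩ := decomp hx (hT ht)
  have e : ⁅m₁ * x ^ i, m₂ * x ^ j⁆ =
      m₁ * (x ^ i * m₂ * (x ^ i)⁻¹) * (x ^ j * m₁⁻¹ * (x ^ j)⁻¹) * m₂⁻¹ := by
    rw [commutatorElement_def]; group
  rw [e]
  exact mul_mem (mul_mem (mul_mem h1 (conj_mem_of_norm (zpow_mem hx i) h2))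
    (conj_mem_of_norm (zpow_mem hx j) (inv_mem h1))) (inv_mem h2)

theorem Q_le (T : Subgroup G) : ⁅T, T⁆ ≤ T := commutator_le.mpr fun s hs t ht => by
  rw [commutatorElement_def]
  exact mul_mem (mul_mem (mul_mem hs ht) (inv_mem hs)) (inv_mem ht)

theorem norm_Q {T : Subgroup G} {g : G} (hg : g ∈ normalizer (T : Set G)) :
    g ∈ normalizer ((⁅T, T⁆ : Subgroup G) : Set G) :=
  H8.le_normalizer_commutator (A := normalizer (T : Set G)) le_rfl le_rfl hg

theorem norm_Q' {T : Subgroup G} {g : G} (hg : g ∈ T) :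
    g ∈ normalizer ((⁅T, T⁆ : Subgroup G) : Set G) := norm_Q (le_normalizer hg)

theorem comm_mem_Q {T : Subgroup G} {s t : G} (hs : s ∈ T) (ht : t ∈ T) :
    s * t * s⁻¹ * t⁻¹ ∈ ⁅T, T⁆ := commutator_mem_commutator hs ht

theorem cj_zpowers (g x : G) : cj g (zpowers x) = zpowers (g * x * g⁻¹) := by
  simp only [cj, MonoidHom.map_zpowers]; rfl

section SC

variable [Finite G] {p q : ℕ}

theorem pg_zpowers (hp : p.Prime) {x : G} (hx : orderOf x = p) : IsPGroup p (zpowers x) := by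
  haveI := Fact.mk hp
  exact H7.isPGroup_zpowers_of_orderOf (k := 1) (by rw [hx, pow_one])

theorem pg_zpowers_of_pow (hp : p.Prime) {x : G} {k : ℕ} (hx : x ^ p ^ k = 1) :
    IsPGroup p (zpowers x) := by
  haveI := Fact.mk hp
  obtain ⟨j, -, hj⟩ := (Nat.dvd_prime_pow hp).mp (orderOf_dvd_of_pow_eq_one hx)
  exact H7.isPGroup_zpowers_of_orderOf hj

theorem not_dvd_card (hp : p.Prime) (hq : q.Prime) (hpq : p ≠ q) {M : Subgroup G}
    (hM : IsPGroup q M) : ¬ p ∣ Nat.card M := by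
  haveI := Fact.mk hq
  obtain ⟨k, hk⟩ := hM.exists_card_eq
  rw [hk]
  exact fun h => hpq ((Nat.prime_dvd_prime_iff_eq hp hq).mp (hp.dvd_of_dvd_pow h))

theorem sylow_zpowers (hp : p.Prime) {M : Subgroup G} (hM : ¬ p ∣ Nat.card M) {x : G}
    (hx : x ∈ normalizer (M : Set G)) (hxp : orderOf x = p) :
    IsSylowIn p (zpowers x) (M ⊔ zpowers x) := by
  haveI := Fact.mk hp
  refine IsSylowIn.of_not_dvd_relIndex le_sup_right (pg_zpowers hp hxp) fun h => hM ?_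
  rw [sup_comm] at h
  exact h.trans (H7.relIndex_sup_dvd_card (Or.inl (zpowers_le.mpr hx)))

theorem sylow_conj (hp : p.Prime) {M P : Subgroup G} (hM : ¬ p ∣ Nat.card M) {x : G}
    (hx : x ∈ normalizer (M : Set G)) (hxp : orderOf x = p) (hP : IsPGroup p P)
    (hle : P ≤ M ⊔ zpowers x) : ∃ m ∈ M, P ≤ zpowers (m * x * m⁻¹) := by
  haveI := Fact.mk hp
  obtain ⟨S, hS, hPS⟩ := H8.exists_isSylowIn_ge hP hle
  obtain ⟨k, hk, e⟩ := (sylow_zpowers hp hM hx hxp).exists_cj_eq hS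
  obtain ⟨m, hm, i, rfl⟩ := decomp hx hk
  refine ⟨m, hm, hPS.trans ?_⟩
  rw [← e, cj_zpowers, show m * x ^ i * x * (m * x ^ i)⁻¹ = m * x * m⁻¹ by group]

theorem sc (hp : p.Prime) {M : Subgroup G} (hM : ¬ p ∣ Nat.card M) {x x' : G}
    (hx : x ∈ normalizer (M : Set G)) (hxp : orderOf x = p) (hx' : x' ^ p = 1)
    (hle : x' ∈ M ⊔ zpowers x) : ∃ m ∈ M, x' ∈ zpowers (m * x * m⁻¹) := by
  obtain ⟨m, hm, h⟩ := sylow_conj hp hM hx hxp (pg_zpowers_of_pow (k := 1) hp (by rwa [pow_one]))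
    (zpowers_le.mpr hle)
  exact ⟨m, hm, h (mem_zpowers _)⟩

theorem eq_one_of_mem (hp : p.Prime) {M : Subgroup G} (hM : ¬ p ∣ Nat.card M) {y : G}
    (hy : y ∈ M) (h : y ^ p = 1) : y = 1 := by
  by_contra h1
  haveI := Fact.mk hp
  exact hM (orderOf_eq_prime h h1 ▸ M.orderOf_dvd_natCard hy)

theorem sc' (hp : p.Prime) {M : Subgroup G} (hM : ¬ p ∣ Nat.card M) {x x' : G}
    (hx : x ∈ normalizer (M : Set G)) (hxp : orderOf x = p) (hx' : x' ^ p = 1)
    (hle : x' * x⁻¹ ∈ M) : ∃ m ∈ M, m * x * m⁻¹ = x' := by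
  obtain ⟨m, hm, h⟩ := sc hp hM hx hxp hx' (by
    have := mul_mem (mem_sup_left hle : _ ∈ M ⊔ zpowers x) (mem_sup_right (mem_zpowers x))
    simpa using this)
  refine ⟨m, hm, ?_⟩
  have h1 : x' * (m * x * m⁻¹)⁻¹ ∈ M := by
    have e : x' * (m * x * m⁻¹)⁻¹ = x' * x⁻¹ * (x * m * x⁻¹) * m⁻¹ := by group
    rw [e]
    exact mul_mem (mul_mem hle (conj_mem_of_norm hx hm)) (inv_mem hm)
  have h2 : x' * (m * x * m⁻¹)⁻¹ ∈ zpowers (m * x * m⁻¹) := mul_mem h (inv_mem (mem_zpowers _))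
  have h3 := eq_one_of_mem hp hM h1 (pow_eq_one_of_mem_zpowers
    (by rw [← hxp]; exact (MulAut.conj m).orderOf_eq x) h2)
  exact (mul_inv_eq_one.mp h3).symm

/-- A `q`-group acting on a `q`-group has a fixed point modulo any proper part. -/
theorem fp (hq : q.Prime) {R K : Subgroup G} (hR : IsPGroup q R) (n : ℕ) :
    ∀ M : Subgroup G, Nat.card M = n → IsPGroup q M → R ≤ normalizer (M : Set G) → ¬ M ≤ K →
    ∃ m ∈ M, m ∉ K ∧ ∀ r ∈ R, m⁻¹ * r * m * r⁻¹ ∈ K := by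
  haveI := Fact.mk hq
  induction n using Nat.strong_induction_on with
  | _ n ih =>
  intro M hn hM hRM hK
  have hlt : ⁅M, R⁆ < M := H5.commutator_lt_of_isPGroup hM hR hRM (by rintro rfl; simp at hK)
  by_cases h : ⁅M, R⁆ ≤ K
  · obtain ⟨m, hm, hmK⟩ := SetLike.not_le_iff_exists.mp hK
    refine ⟨m, hm, hmK, fun r hr => h ?_⟩
    simpa [commutatorElement_def] using commutator_mem_commutator (inv_mem hm) hr
  · obtain ⟨m, hm, h1⟩ := ih _ (hn ▸ H5.card_lt_of_lt hlt) _ rfl (hM.to_le hlt.le)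
      (normalizer_commutator_ge_right _ _) h
    exact ⟨m, hlt.le hm, h1⟩

/-- Factorization of an element of an odd order subgroup normalized by an involution. -/
theorem factor {T : Subgroup G} (hT : Odd (Nat.card T)) {s t : G} (hs : s * s = 1)
    (hn : s ∈ normalizer (T : Set G)) (ht : t ∈ T) :
    ∃ i ∈ T, ∃ c ∈ T, s * i * s⁻¹ = i⁻¹ ∧ Commute s c ∧ t = i * c := by
  have hs' : s⁻¹ = s := inv_eq_of_mul_eq_one_right hs
  set w := t * (s * t * s⁻¹)⁻¹ with hw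
  have hwT : w ∈ T := mul_mem ht (inv_mem (conj_mem_of_norm hn ht))
  obtain ⟨n, hn'⟩ := hT
  have h1 : w ^ (2 * n + 1) = 1 := by
    rw [← hn']; exact orderOf_dvd_iff_pow_eq_one.mp (T.orderOf_dvd_natCard hwT)
  have h2 : s * w * s⁻¹ = w⁻¹ := by
    rw [hw, hs']
    calc s * (t * (s * t * s)⁻¹) * s = s * t * s⁻¹ * t⁻¹ * (s⁻¹ * s) := by group
      _ = _ := by rw [hs', hs]; group
  have h3 : s * w ^ (n + 1) * s⁻¹ = (w ^ (n + 1))⁻¹ := by
    rw [← conj_pow, h2, inv_pow]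
  have h4 : w ^ (n + 1) * w ^ (n + 1) = w := by
    rw [← pow_add, show n + 1 + (n + 1) = 2 * n + 1 + 1 by ring, pow_succ, h1, one_mul]
  refine ⟨w ^ (n + 1), pow_mem hwT _, (w ^ (n + 1))⁻¹ * t, mul_mem (inv_mem (pow_mem hwT _)) ht,
    h3, ?_, by group⟩
  generalize w ^ (n + 1) = i at h3 h4
  have h5 : s * i⁻¹ * s⁻¹ = i := by
    calc _ = (s * i * s⁻¹)⁻¹ := by group
      _ = i := by rw [h3, inv_inv]
  have h6 : s * t * s⁻¹ = i⁻¹ * i⁻¹ * t := by
    rw [← mul_inv_rev, h4, hw]; group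
  have h7 : s * (i⁻¹ * t) * s⁻¹ = i⁻¹ * t := by
    calc _ = (s * i⁻¹ * s⁻¹) * (s * t * s⁻¹) := by group
      _ = _ := by rw [h5, h6]; group
  exact mul_inv_eq_iff_eq_mul.mp h7

theorem commute_of_sq {T : Subgroup G} (hT : Odd (Nat.card T)) {i w : G} (hi : i ∈ T)
    (h : Commute (i * i) w) : Commute i w := by
  obtain ⟨n, hn'⟩ := hT
  have h1 : i ^ (2 * n + 1) = 1 := by
    rw [← hn']; exact orderOf_dvd_iff_pow_eq_one.mp (T.orderOf_dvd_natCard hi)
  have h2 : i = (i * i) ^ (n + 1) := by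
    rw [← pow_two, ← pow_mul, show 2 * (n + 1) = 2 * n + 1 + 1 by ring, pow_succ, h1, one_mul]
  rw [h2]; exact h.pow_left _

end SC

end Cfsg.Agent.H9.Fs
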