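import Cfsg.Agent.H9.Fs1

/-!
# Nice subgroups and subgroups generated by conjugates
-/

set_option autoImplicit false
set_option linter.unusedSectionVars false

namespace Cfsg.Agent.H9.Fs

open Subgroup
open scoped commutatorElement
open Cfsg.Agent.H8 (cj mem_cj IsSylowIn CopAct)

variable {G : Type*} [Group G]

/-- The two primes. -/
structure PQ (p q : ℕ) : Prop where
  hp : p.Prime
  hq : q.Prime
  ne : p ≠ q
  po : Odd p
  qo : Odd q

/-- `T = T' ⟨x⟩` with `T'` a `q`-group, `x` of order `p`, and `C_{T'}(x)` central. -/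
structure Nice (p q : ℕ) (T : Subgroup G) (x : G) : Prop where
  pq : PQ p q
  mem : x ∈ T
  ord : orderOf x = p
  pg : IsPGroup q ↥⁅T, T⁆
  le : T ≤ ⁅T, T⁆ ⊔ zpowers x
  cent : ∀ y ∈ ⁅T, T⁆, Commute y x → ∀ t ∈ T, Commute y t

/-- No fixed points. -/
def ZT (T : Subgroup G) (x : G) : Prop := ∀ y ∈ ⁅T, T⁆, Commute y x → y = 1

/-- Class two. -/
def Cl2 (T : Subgroup G) : Prop :=
  ∀ u ∈ ⁅T, T⁆, ∀ v ∈ ⁅T, T⁆, ∀ t ∈ T, Commute (u * v * u⁻¹ * v⁻¹) t

theorem orderOf_cj (g x : G) : orderOf (g * x * g⁻¹) = orderOf x := (MulAut.conj g).orderOf_eq x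

namespace Nice

variable [Finite G] {p q : ℕ} {T : Subgroup G} {x : G} (h : Nice p q T x)
include h

theorem ndvd : ¬ p ∣ Nat.card ↥⁅T, T⁆ := not_dvd_card h.pq.hp h.pq.hq h.pq.ne h.pg

theorem xn : x ∈ normalizer ((⁅T, T⁆ : Subgroup G) : Set G) := norm_Q' h.mem

theorem dec {t : G} (ht : t ∈ T) : ∃ y ∈ ⁅T, T⁆, ∃ i : ℤ, t = y * x ^ i := decomp h.xn (h.le ht)

theorem eq_one {y : G} (hy : y ∈ ⁅T, T⁆) (h1 : y ^ p = 1) : y = 1 :=
  eq_one_of_mem h.pq.hp h.ndvd hy h1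

theorem conj {x' : G} (hx' : x' ∈ T) (ho : x' ^ p = 1) :
    ∃ m ∈ ⁅T, T⁆, x' ∈ zpowers (m * x * m⁻¹) := sc h.pq.hp h.ndvd h.xn h.ord ho (h.le hx')

theorem conj' {x' : G} (ho : x' ^ p = 1) (hx' : x' * x⁻¹ ∈ ⁅T, T⁆) :
    ∃ m ∈ ⁅T, T⁆, m * x * m⁻¹ = x' := sc' h.pq.hp h.ndvd h.xn h.ord ho hx'

theorem sylow : IsSylowIn p (zpowers x) T :=
  (sylow_zpowers h.pq.hp h.ndvd h.xn h.ord).of_le (zpowers_le.mpr h.mem) h.le

theorem change {x' : G} (hx' : x' ∈ T) (ho : orderOf x' = p) : Nice p q T x' := by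
  obtain ⟨m, hm, h1⟩ := h.conj hx' (ho ▸ pow_orderOf_eq_one x')
  have h2 := mem_zpowers_symm h.pq.hp ((orderOf_cj m x).trans h.ord) h1
    (ne_one_of_orderOf h.pq.hp ho)
  refine ⟨h.pq, hx', ho, h.pg, h.le.trans (sup_le le_sup_left (zpowers_le.mpr ?_)), ?_⟩
  · have := mul_mem (mul_mem (mem_sup_left (inv_mem hm) : _ ∈ ⁅T, T⁆ ⊔ zpowers x')
      (mem_sup_right h2)) (mem_sup_left hm)
    simpa [mul_assoc] using this
  · intro y hy hc t ht
    have h3 := commute_of_mem_zpowers hc h2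
    have h4 : Commute (m⁻¹ * y * m) x := by
      simpa [mul_assoc] using h3.conj m⁻¹
    have h5 := h.cent _ (conj_mem_of_norm' (le_normalizer hm) hy) h4 (m⁻¹ * t * m)
      (conj_mem_of_norm' (le_normalizer (Q_le T hm)) ht)
    simpa [mul_assoc] using h5.conj m

theorem oddQ : Odd (Nat.card ↥⁅T, T⁆) := by
  haveI := Fact.mk h.pq.hq
  obtain ⟨k, hk⟩ := h.pg.exists_card_eq
  rw [hk]; exact h.pq.qo.pow

theorem odd : Odd (Nat.card T) := by
  haveI := Fact.mk Nat.prime_two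
  rw [← Nat.not_even_iff_odd, even_iff_two_dvd]
  refine L0.not_dvd_card_of_le (h.le.trans (sup_comm _ _).le)
    (L0.not_dvd_card_sup (zpowers_le.mpr h.xn) ?_ ?_)
  · rw [Nat.card_zpowers, h.ord, ← even_iff_two_dvd, Nat.not_even_iff_odd]; exact h.pq.po
  · rw [← even_iff_two_dvd, Nat.not_even_iff_odd]; exact h.oddQ

theorem mem_Q {t : G} (ht : t ∈ T) {k : ℕ} (hk : t ^ q ^ k = 1) : t ∈ ⁅T, T⁆ := by
  have h1 : zpowers t ≤ ⁅T, T⁆ := by
    refine L0.le_of_le_sup_of_coprime (zpowers_le.mpr h.xn) ((zpowers_le.mpr ht).trans h.le) ?_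
    haveI := Fact.mk h.pq.hq
    refine L0.IsPGroup.card_coprime_of_not_dvd (pg_zpowers_of_pow h.pq.hq hk) ?_
    rw [Nat.card_zpowers, h.ord]
    exact fun hd => h.pq.ne ((Nat.prime_dvd_prime_iff_eq h.pq.hq h.pq.hp).mp hd).symm
  exact h1 (mem_zpowers t)

theorem lift {G' : Type*} [Group G'] (f : G →* G') {y : G} (hy : y ∈ ⁅T, T⁆)
    (hc : Commute (f y) (f x)) : ∃ z ∈ ⁅T, T⁆, Commute z x ∧ f z = f y := by
  have hn : x ∈ normalizer ((⁅T, T⁆ ⊓ f.ker : Subgroup G) : Set G) := mem_norm_of fun w hw =>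
    ⟨conj_mem_of_norm h.xn hw.1, (inferInstance : f.ker.Normal).conj_mem _ hw.2 _⟩
  obtain ⟨m, hm, e⟩ := sc' (x' := y * x * y⁻¹) h.pq.hp
    (L0.not_dvd_card_of_le inf_le_left h.ndvd) hn h.ord
    (by rw [conj_pow, ← h.ord, pow_orderOf_eq_one]; group)
    ⟨comm_mem_Q (Q_le T hy) h.mem, by
      show f _ = 1
      simp only [map_mul, map_inv]
      rw [hc.eq]; group⟩
  refine ⟨m⁻¹ * y, mul_mem (inv_mem hm.1) hy, ?_, ?_⟩
  · show m⁻¹ * y * x = x * (m⁻¹ * y)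
    calc _ = m⁻¹ * (y * x * y⁻¹) * y := by group
      _ = _ := by rw [← e]; group
  · have : f m = 1 := hm.2
    simp [this]

theorem map {G' : Type*} [Group G'] (f : G →* G') (h1 : f x ≠ 1) :
    Nice p q (T.map f) (f x) := by
  haveI := Fact.mk h.pq.hp
  refine ⟨h.pq, mem_map_of_mem f h.mem, orderOf_eq_prime (by
    rw [← map_pow, ← h.ord, pow_orderOf_eq_one, map_one]) h1, ?_, ?_, ?_⟩
  · rw [← map_commutator]; exact h.pg.map f
  · rw [← map_commutator, ← MonoidHom.map_zpowers, ← Subgroup.map_sup]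
    exact map_mono h.le
  · rw [← map_commutator]
    rintro _ ⟨y, hy, rfl⟩ hc _ ⟨t, ht, rfl⟩
    obtain ⟨z, hz, h2, h3⟩ := h.lift f hy hc
    rw [← h3]
    exact (h.cent z hz h2 t ht).map f

theorem map_ZT {G' : Type*} [Group G'] (f : G →* G') (h1 : ZT T x) : ZT (T.map f) (f x) := by
  unfold ZT
  rw [← map_commutator]
  rintro _ ⟨y, hy, rfl⟩ hc
  obtain ⟨z, hz, h2, h3⟩ := h.lift f hy hc
  rw [← h3, h1 z hz h2, map_one]

/-- An element of `T'` normalizing the point centralizes it. -/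
theorem commute_of_norm {y : G} (hy : y ∈ ⁅T, T⁆) (hn : y * x * y⁻¹ ∈ zpowers x) :
    Commute y x := by
  have := h.eq_one (comm_mem_Q (Q_le T hy) h.mem)
    (pow_eq_one_of_mem_zpowers h.ord (mul_mem hn (inv_mem (mem_zpowers x))))
  exact mul_inv_eq_iff_eq_mul.mp (mul_inv_eq_one.mp this)

end Nice

theorem Cl2.map {G' : Type*} [Group G'] (f : G →* G') {T : Subgroup G} (h : Cl2 T) :
    Cl2 (T.map f) := by
  unfold Cl2
  rw [← map_commutator]
  rintro _ ⟨u, hu, rfl⟩ _ ⟨v, hv, rfl⟩ _ ⟨t, ht, rfl⟩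
  simpa using (h u hu v hv t ht).map f

/-- The subgroup generated by the conjugates of `a` in `X`. -/
def ds (a : G) (X : Subgroup G) : Subgroup G := closure {x | IsConj a x ∧ x ∈ X}

/-- Generated by conjugates of `a`. -/
def DS (a : G) (T : Subgroup G) : Prop := T ≤ ds a T

/-- The line through two points. -/
def ln (x y : G) : Subgroup G := closure {x, y}

theorem ds_le (a : G) (X : Subgroup G) : ds a X ≤ X := (closure_le _).mpr fun _ h => h.2

theorem mem_ds {a x : G} {X : Subgroup G} (h1 : IsConj a x) (h2 : x ∈ X) : x ∈ ds a X :=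
  subset_closure ⟨h1, h2⟩

theorem ds_le_iff {a : G} {X Y : Subgroup G} :
    ds a X ≤ Y ↔ ∀ x, IsConj a x → x ∈ X → x ∈ Y := by
  rw [ds, closure_le]
  exact ⟨fun h x h1 h2 => h ⟨h1, h2⟩, fun h x hx => h x hx.1 hx.2⟩

theorem ds_mono (a : G) {X Y : Subgroup G} (h : X ≤ Y) : ds a X ≤ ds a Y :=
  ds_le_iff.mpr fun _ h1 h2 => mem_ds h1 (h h2)

theorem DS_ds (a : G) (X : Subgroup G) : DS a (ds a X) :=
  ds_le_iff.mpr fun _ h1 h2 => mem_ds h1 (mem_ds h1 h2)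

theorem DS.le_ds {a : G} {T X : Subgroup G} (h : DS a T) (hX : T ≤ X) : T ≤ ds a X :=
  h.trans (ds_mono a hX)

theorem DS.le_of {a : G} {T Y : Subgroup G} (h : DS a T)
    (hY : ∀ x, IsConj a x → x ∈ T → x ∈ Y) : T ≤ Y := h.trans (ds_le_iff.mpr hY)

theorem isConj_cj {a x : G} (h : IsConj a x) (g : G) : IsConj a (g * x * g⁻¹) :=
  h.trans (isConj_iff.mpr ⟨g, rfl⟩)

theorem isConj_cj' {a x : G} (h : IsConj a x) (g : G) : IsConj a (g⁻¹ * x * g) := by
  simpa using isConj_cj h g⁻¹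

theorem norm_ds [Finite G] {a g : G} {X : Subgroup G} (hg : g ∈ normalizer (X : Set G)) :
    g ∈ normalizer ((ds a X : Subgroup G) : Set G) :=
  mem_norm_closure fun _ hy => subset_closure ⟨isConj_cj hy.1 g, conj_mem_of_norm hg hy.2⟩

theorem left_mem_ln (x y : G) : x ∈ ln x y := subset_closure (by simp)

theorem right_mem_ln (x y : G) : y ∈ ln x y := subset_closure (by simp)

theorem ln_le {x y : G} {T : Subgroup G} (hx : x ∈ T) (hy : y ∈ T) : ln x y ≤ T := by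
  rw [ln, closure_le]
  rintro _ (rfl | rfl)
  · exact hx
  · exact hy

theorem DS_ln {a x y : G} (hx : IsConj a x) (hy : IsConj a y) : DS a (ln x y) :=
  ln_le (mem_ds hx (left_mem_ln x y)) (mem_ds hy (right_mem_ln x y))

theorem norm_ln [Finite G] {g x y : G} (hx : g * x * g⁻¹ ∈ ln x y) (hy : g * y * g⁻¹ ∈ ln x y) :
    g ∈ normalizer ((ln x y : Subgroup G) : Set G) := by
  refine mem_norm_closure ?_
  rintro _ (rfl | rfl)
  · exact hx
  · exact hy

theorem map_ln {G' : Type*} [Group G'] (f : G →* G') (x y : G) :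
    (ln x y).map f = ln (f x) (f y) := by
  rw [ln, ln, MonoidHom.map_closure, Set.image_pair]

theorem DS.cj {a : G} {T : Subgroup G} (h : DS a T) (g : G) : DS a (cj g T) := by
  rw [DS, H8.cj_le_iff]
  refine h.le_of fun x hx hT => mem_cj.mpr ?_
  rw [inv_inv]
  exact mem_ds (isConj_cj hx g) (H8.conj_mem_cj g hT)

theorem orderOf_isConj {a x : G} (h : IsConj a x) : orderOf x = orderOf a := by
  obtain ⟨g, rfl⟩ := isConj_iff.mp h
  exact orderOf_cj g a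

end Cfsg.Agent.H9.Fs
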