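import Cfsg.Agent.H9.Fs2
import Cfsg.Agent.FT.Main

/-!
# The minimal configuration: blocks
-/

set_option autoImplicit false
set_option linter.unusedSectionVars false

namespace Cfsg.Agent.H9.Fs

open Subgroup
open scoped commutatorElement
open Cfsg.Agent.H8 (cj mem_cj IsSylowIn CopAct)

variable {G : Type*} [Group G]

/-- Central part of the commutator subgroup. -/
def ZZ (T : Subgroup G) : Subgroup G := ⁅T, T⁆ ⊓ centralizer (T : Set G)

theorem mem_ZZ {T : Subgroup G} {z : G} : z ∈ ZZ T ↔ z ∈ ⁅T, T⁆ ∧ ∀ t ∈ T, Commute z t := by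
  rw [ZZ, mem_inf, mem_centralizer_iff]
  exact and_congr_right fun _ => forall₂_congr fun _ _ => ⟨fun h => h.symm, fun h => h.symm⟩

theorem ZZ_comm {T : Subgroup G} {z t : G} (hz : z ∈ ZZ T) (ht : t ∈ T) : Commute z t :=
  (mem_ZZ.mp hz).2 t ht

theorem norm_ZZ [Finite G] {T : Subgroup G} {g : G} (hg : g ∈ normalizer (T : Set G)) :
    g ∈ normalizer ((ZZ T : Subgroup G) : Set G) := mem_norm_of fun y hy =>
  mem_ZZ.mpr ⟨conj_mem_of_norm (norm_Q hg) hy.1, fun t ht => by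
    simpa [mul_assoc] using (ZZ_comm hy (conj_mem_of_norm' hg ht)).conj g⟩

theorem dec_ZZ {T W : Subgroup G} (hW : W ≤ T) {y : G} (hy : y ∈ W ⊔ ZZ T) :
    ∃ w ∈ W, ∃ z ∈ ZZ T, y = w * z := by
  obtain ⟨w, hw, z, hz, rfl⟩ := (H8.mem_sup_of_le_normalizer (fun z hz =>
    mem_norm_of_commute fun w hw => ZZ_comm hz (hW hw))).mp hy
  exact ⟨w, hw, z, hz, rfl⟩

theorem Cl2.mem {T : Subgroup G} (h : Cl2 T) {u v : G} (hu : u ∈ ⁅T, T⁆) (hv : v ∈ ⁅T, T⁆) :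
    u * v * u⁻¹ * v⁻¹ ∈ ZZ T :=
  mem_ZZ.mpr ⟨comm_mem_Q (Q_le T hu) (Q_le T hv), h u hu v hv⟩

theorem Nice.mem_ZZ [Finite G] {p q : ℕ} {T : Subgroup G} {x y : G} (h : Nice p q T x)
    (hy : y ∈ ⁅T, T⁆) (hc : Commute y x) : y ∈ ZZ T := Fs.mem_ZZ.mpr ⟨hy, h.cent y hy hc⟩

theorem lemM [Finite G] {p q : ℕ} {T W R : Subgroup G} {x : G} (hT : Nice p q T x) (hc : Cl2 T)
    (hWQ : W ≤ ⁅T, T⁆) (hxW : x ∈ normalizer (W : Set G)) (hW : ∀ u ∈ W, ∀ v ∈ W, Commute u v)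
    (hR : IsPGroup q R) (hRT : R ≤ normalizer (T : Set G)) (hRW : ∀ r ∈ R, ∀ w ∈ W, Commute r w)
    (hRx : ∀ r ∈ R, Commute r x) (hn : ¬ ⁅T, T⁆ ≤ W ⊔ ZZ T) :
    ∃ m ∈ ⁅T, T⁆, m ∉ W ⊔ ZZ T ∧ m * x * m⁻¹ ∈ normalizer
      ((W ⊔ (ZZ T ⊓ centralizer (R : Set G)) ⊔ R : Subgroup G) : Set G) := by
  obtain ⟨m, hm, hmK, hfp⟩ := fp hT.pq.hq hR _ _ rfl hT.pg (fun r hr => norm_Q (hRT hr)) hn
  refine ⟨m, hm, hmK, ?_⟩
  have hWT : W ≤ T := hWQ.trans (Q_le T)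
  have key0 : ∀ r ∈ R, ∃ w ∈ W, ∃ z ∈ ZZ T, m⁻¹ * r * m = w * (z * r) := fun r hr => by
    obtain ⟨w, hw, z, hz, e⟩ := dec_ZZ hWT (hfp r hr)
    exact ⟨w, hw, z, hz, by rw [← mul_assoc, ← e]; group⟩
  have key3 : ∀ w ∈ W, m * w * m⁻¹ ∈ W ⊔ (ZZ T ⊓ centralizer (R : Set G)) := fun w hw => by
    have h1 := hc.mem (inv_mem (hWQ hw)) hm
    rw [inv_inv] at h1
    have h2 : w⁻¹ * m * w * m⁻¹ ∈ centralizer (R : Set G) := mem_centralizer_iff.mpr fun r hr => by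
      obtain ⟨w₁, hw₁, z, hz, e⟩ := key0 r hr
      have h3 : Commute (m⁻¹ * r * m) w := by
        rw [e]
        exact (hW _ hw₁ _ hw).mul_left ((ZZ_comm hz (hWT hw)).mul_left (hRW r hr w hw))
      have h4 : Commute r (m * w * m⁻¹) := by simpa [mul_assoc] using h3.conj m
      have h5 := (hRW r hr w hw).inv_right.mul_right h4
      simpa [mul_assoc] using h5.eq
    have := mul_mem (mem_sup_left hw : _ ∈ W ⊔ (ZZ T ⊓ centralizer (R : Set G)))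
      (mem_sup_right ⟨h1, h2⟩)
    simpa [mul_assoc] using this
  have key1 : ∀ e ∈ W ⊔ (ZZ T ⊓ centralizer (R : Set G)) ⊔ R, ∀ w ∈ W, ∀ c, Commute x c →
      m⁻¹ * e * m = w * c → m * x * m⁻¹ * e * (m * x * m⁻¹)⁻¹ ∈
        W ⊔ (ZZ T ⊓ centralizer (R : Set G)) ⊔ R := fun e he w hw c hxc h => by
    have e1 : m * x * m⁻¹ * e * (m * x * m⁻¹)⁻¹ = m * (x * w * x⁻¹ * w⁻¹) * m⁻¹ * e := by
      calc _ = m * (x * (m⁻¹ * e * m) * x⁻¹) * m⁻¹ := by group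
        _ = m * (x * w * (c * x⁻¹)) * m⁻¹ := by rw [h]; group
        _ = m * (x * w * x⁻¹ * w⁻¹ * (w * c)) * m⁻¹ := by rw [← hxc.inv_left.eq]; group
        _ = _ := by rw [← h]; group
    rw [e1]
    exact mul_mem (mem_sup_left (key3 _ (mul_mem (conj_mem_of_norm hxW hw) (inv_mem hw)))) he
  refine mem_norm_sup (fun y hy => ?_) (fun r hr => ?_)
  · obtain ⟨w, hw, z, hz, rfl⟩ := (H8.mem_sup_of_le_normalizer (fun z hz =>
      mem_norm_of_commute fun w hw => ZZ_comm (mem_inf.mp hz).1 (hWT hw))).mp hy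
    have h1 := hc.mem (inv_mem (hWQ hw)) (inv_mem hm)
    rw [inv_inv, inv_inv] at h1
    refine key1 _ (mem_sup_left hy) w hw (w⁻¹ * m⁻¹ * w * m * z)
      (ZZ_comm (mul_mem h1 hz.1) hT.mem).symm ?_
    calc _ = m⁻¹ * w * (z * m) := by group
      _ = _ := by rw [(ZZ_comm hz.1 (Q_le T hm)).eq]; group
  · obtain ⟨w₁, hw₁, z, hz, e⟩ := key0 r hr
    exact key1 _ (mem_sup_right hr) w₁ hw₁ (z * r)
      ((ZZ_comm hz hT.mem).symm.mul_right (hRx r hr).symm) e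

theorem Nice.le_of_Q_le [Finite G] {p q : ℕ} {T J : Subgroup G} {a x : G} (h : Nice p q T x)
    (ha : orderOf a = p) (hD : DS a T) (hx : x ∈ J) (hJ : J ≤ T)
    (hle : ⁅T, T⁆ ≤ ⁅J, J⁆ ⊔ ZZ T) : T ≤ J := by
  refine hD.le_of fun x' h1 h2 => ?_
  obtain ⟨m, hm, h3⟩ := h.conj h2 (by rw [← ha, ← orderOf_isConj h1, pow_orderOf_eq_one])
  obtain ⟨w, hw, z, hz, rfl⟩ := dec_ZZ ((Q_le J).trans hJ) (hle hm)
  refine zpowers_le.mpr ?_ h3
  have e : w * z * x * (w * z)⁻¹ = w * x * w⁻¹ := by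
    rw [mul_assoc w, (ZZ_comm hz h.mem).eq]; group
  rw [e]
  exact mul_mem (mul_mem (Q_le J hw) hx) (inv_mem (Q_le J hw))

/-- The quotient-closed class. -/
structure K (p q : ℕ) (a : G) : Prop where
  pq : PQ p q
  ord : orderOf a = p
  gen : DS a ⊤
  nice : ∀ T x, DS a T → T ≠ ⊤ → IsConj a x → x ∈ T → Nice p q T x
  line : ∀ x y, IsConj a x → IsConj a y → Nice p q (ln x y) x
  flag : (∀ x y, IsConj a x → IsConj a y → ZT (ln x y) x) ∨ (∀ T, DS a T → T ≠ ⊤ → Cl2 T)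

/-- No nontrivial solvable normal subgroup. -/
def NS (G : Type*) [Group G] : Prop :=
  ∀ N : Subgroup G, N.Normal → Group.IsSolvable N → N = ⊥

/-- Maximal proper subgroups generated by conjugates of `a`. -/
structure Blk (a : G) (H : Subgroup G) : Prop where
  ds : DS a H
  ne : H ≠ ⊤
  max : ∀ T, DS a T → T ≠ ⊤ → H ≤ T → T ≤ H

theorem Blk.cj {a : G} {H : Subgroup G} (h : Blk a H) (g : G) : Blk a (cj g H) := by
  refine ⟨h.ds.cj g, fun e => h.ne (H8.cj_injective g (e.trans (H8.cj_top g).symm)),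
    fun T h1 h2 h3 => ?_⟩
  have := h.max (H8.cj g⁻¹ T) (h1.cj _)
    (fun e => h2 (H8.cj_injective g⁻¹ (e.trans (H8.cj_top _).symm))) (H8.cj_le_iff.mp h3)
  have h4 := H8.cj_mono g this
  rwa [H8.cj_cj_inv] at h4

namespace K

variable [Finite G] {p q : ℕ} {a : G} (k : K p q a)
include k

theorem ordC {x : G} (h : IsConj a x) : orderOf x = p := (orderOf_isConj h).trans k.ord

theorem powC {x : G} (h : IsConj a x) : x ^ p = 1 := by rw [← k.ordC h, pow_orderOf_eq_one]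

theorem neC {x : G} (h : IsConj a x) : x ≠ 1 := ne_one_of_orderOf k.pq.hp (k.ordC h)

theorem line' {x y z : G} (hx : IsConj a x) (hy : IsConj a y) (hz : IsConj a z)
    (h : z ∈ ln x y) : Nice p q (ln x y) z := (k.line x y hx hy).change h (k.ordC hz)

theorem central {g : G} (h : ∀ x, IsConj a x → Commute g x) (t : G) : Commute g t :=
  (mem_centralizer_singleton_iff.mp (k.gen.le_of (Y := centralizer {g})
    (fun x hx _ => mem_centralizer_singleton_iff.mpr (h x hx).symm) (mem_top t))).symm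

theorem commute_of_norm {g b x : G} (hb : IsConj a b) (hx : IsConj a x) (hgb : Commute g b)
    (hn : g * x * g⁻¹ ∈ zpowers x) : Commute g x := by
  have n := k.line b x hb hx
  have hg : g ∈ normalizer ((ln b x : Subgroup G) : Set G) :=
    norm_ln (by rw [hgb.eq, mul_inv_cancel_right]; exact left_mem_ln b x)
      (zpowers_le.mpr (right_mem_ln b x) hn)
  obtain ⟨y, hy, i, e⟩ := n.dec (right_mem_ln b x)
  have h1 : g * x * g⁻¹ * x⁻¹ = g * y * g⁻¹ * y⁻¹ := by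
    rw [e]
    calc _ = g * y * (b ^ i * g⁻¹) * (b ^ i)⁻¹ * y⁻¹ := by group
      _ = _ := by rw [← (hgb.zpow_right i).inv_left.eq]; group
  have h2 := n.eq_one (h1 ▸ mul_mem (conj_mem_of_norm (norm_Q hg) hy) (inv_mem hy))
    (pow_eq_one_of_mem_zpowers (k.ordC hx) (mul_mem hn (inv_mem (mem_zpowers x))))
  exact mul_inv_eq_iff_eq_mul.mp (mul_inv_eq_one.mp h2)

theorem split {T : Subgroup G} {x y : G} (n : Nice p q T x) (hx : IsConj a x) (hy : y ∈ ⁅T, T⁆) :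
    ∃ h ∈ ⁅ln x (y * x * y⁻¹), ln x (y * x * y⁻¹)⁆, ∃ z ∈ ZZ T, y = h * z := by
  have n' := k.line x _ hx (isConj_cj hx y)
  have hL : ln x (y * x * y⁻¹) ≤ T :=
    ln_le n.mem (mul_mem (mul_mem (Q_le T hy) n.mem) (inv_mem (Q_le T hy)))
  obtain ⟨j, hj⟩ := qe_of_mem n.pg (comm_mem_Q (Q_le T hy) n.mem)
  obtain ⟨h, hh, e⟩ := n'.conj' (k.powC (isConj_cj hx y))
    (n'.mem_Q (mul_mem (right_mem_ln _ _) (inv_mem (left_mem_ln _ _))) hj)
  refine ⟨h, hh, h⁻¹ * y, n.mem_ZZ (mul_mem (inv_mem (commutator_mono hL hL hh)) hy) ?_, by group⟩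
  show h⁻¹ * y * x = x * (h⁻¹ * y)
  calc _ = h⁻¹ * (y * x * y⁻¹) * y := by group
    _ = _ := by rw [← e]; group

theorem mem_sup_of_conj {T J : Subgroup G} {x y : G} (n : Nice p q T x) (hx : IsConj a x)
    (hy : y ∈ ⁅T, T⁆) (hJ : x ∈ J) (hJ' : y * x * y⁻¹ ∈ J) : y ∈ ⁅J, J⁆ ⊔ ZZ T := by
  obtain ⟨h, hh, z, hz, e⟩ := k.split n hx hy
  rw [e]
  exact mul_mem (mem_sup_left (commutator_mono (ln_le hJ hJ') (ln_le hJ hJ') hh)) (mem_sup_right hz)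

variable (ns : NS G)
include ns

theorem eq_one {g : G} (h : ∀ x, IsConj a x → Commute g x) : g = 1 := by
  have hN : (zpowers g).Normal := ⟨fun y hy t => by
    rwa [← (commute_of_mem_zpowers (k.central h t).symm hy).eq.symm, mul_inv_cancel_right]⟩
  simpa using ns _ hN inferInstance

theorem ds_cent_ne {z : G} (hz : z ≠ 1) : ds a (centralizer {z}) ≠ ⊤ := fun e =>
  hz (k.eq_one ns fun x _ =>
    (mem_centralizer_singleton_iff.mp (ds_le a _ (e ▸ mem_top x))).symm)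

theorem ds_norm_ne {E : Subgroup G} (hE : E ≠ ⊥) (hq : IsPGroup q E) :
    ds a (normalizer (E : Set G)) ≠ ⊤ := fun e => by
  haveI := Fact.mk k.pq.hq
  haveI := hq.isNilpotent
  exact hE (ns E (normalizer_eq_top_iff.mp (top_le_iff.mp (e ▸ ds_le a _))) inferInstance)

theorem nice_ne {T : Subgroup G} {x : G} (n : Nice p q T x) : T ≠ ⊤ := fun e => by
  have h1 := ns T (e ▸ inferInstance) (FT.odd_solvable n.odd)
  exact ne_one_of_orderOf k.pq.hp n.ord (by simpa [h1] using n.mem)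

theorem blk_of_Z {T : Subgroup G} {x z : G} (hD : DS a T) (hx : IsConj a x) (hxT : x ∈ T)
    (hz : z ∈ ZZ T) (h1 : z ≠ 1) : Blk a (ds a (centralizer {z})) ∧ T ≤ ds a (centralizer {z}) ∧
      z ∈ ZZ (ds a (centralizer {z})) := by
  have h2 : T ≤ ds a (centralizer {z}) :=
    hD.le_ds fun t ht => mem_centralizer_singleton_iff.mpr (ZZ_comm hz ht).symm
  refine ⟨⟨DS_ds _ _, k.ds_cent_ne ns h1, fun T' hD' hne hle => ?_⟩, h2,
    mem_ZZ.mpr ⟨commutator_mono h2 h2 hz.1, fun t ht =>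
      (mem_centralizer_singleton_iff.mp (ds_le a _ ht)).symm⟩⟩
  have n := k.nice T' x hD' hne hx (hle (h2 hxT))
  have h3 := n.mem_ZZ (commutator_mono (h2.trans hle) (h2.trans hle) hz.1) (ZZ_comm hz hxT)
  exact hD'.le_ds fun t ht => mem_centralizer_singleton_iff.mpr (ZZ_comm h3 ht).symm

theorem blk_eq {H : Subgroup G} {z : G} (hH : Blk a H) (hz : z ∈ ZZ H) (h1 : z ≠ 1) :
    ds a (centralizer {z}) = H := by
  have h2 : H ≤ ds a (centralizer {z}) :=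
    hH.ds.le_ds fun t ht => mem_centralizer_singleton_iff.mpr (ZZ_comm hz ht).symm
  exact le_antisymm (hH.max _ (DS_ds _ _) (k.ds_cent_ne ns h1) h2) h2

theorem blk_mem {H : Subgroup G} {z x : G} (hH : Blk a H) (hz : z ∈ ZZ H) (h1 : z ≠ 1)
    (hx : IsConj a x) (hc : Commute z x) : x ∈ H :=
  k.blk_eq ns hH hz h1 ▸ mem_ds hx (mem_centralizer_singleton_iff.mpr hc.symm)

theorem blk_norm {H : Subgroup G} {z g : G} (hH : Blk a H) (hz : z ∈ ZZ H) (h1 : z ≠ 1)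
    (hc : Commute z g) : g ∈ normalizer (H : Set G) :=
  k.blk_eq ns hH hz h1 ▸ norm_ds (le_normalizer (mem_centralizer_singleton_iff.mpr hc.symm))

theorem lemX (hc : ∀ T, DS a T → T ≠ ⊤ → Cl2 T) {H T₀ : Subgroup G} {z x : G} (hH : Blk a H)
    (hz : z ∈ ZZ H) (h1 : z ≠ 1) (hx : IsConj a x) (hxH : x ∈ H) (hD₀ : DS a T₀) (hne₀ : T₀ ≠ ⊤)
    (hz₀ : z ∈ normalizer (T₀ : Set G)) (hx₀ : x ∈ T₀) : T₀ ≤ H := by
  haveI := Fact.mk k.pq.hq
  by_contra hcon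
  obtain ⟨T, ⟨hD, hne, hzT, hxT, hTH⟩, hmax⟩ := Set.exists_max_image
    {T : Subgroup G | DS a T ∧ T ≠ ⊤ ∧ z ∈ normalizer (T : Set G) ∧ x ∈ T ∧ ¬ T ≤ H}
    (fun T => Nat.card (ds a (T ⊓ H)) + Nat.card ↥(ZZ H ⊓ normalizer (T : Set G)))
    (Set.toFinite _) ⟨T₀, hD₀, hne₀, hz₀, hx₀, hcon⟩
  obtain ⟨J, hJ⟩ : ∃ J, J = ds a (T ⊓ H) := ⟨_, rfl⟩
  obtain ⟨R, hR⟩ : ∃ R, R = ZZ H ⊓ normalizer (T : Set G) := ⟨_, rfl⟩
  obtain ⟨R', hR'⟩ : ∃ R', R' = ZZ T ⊓ centralizer (R : Set G) := ⟨_, rfl⟩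
  have hJT : J ≤ T := hJ ▸ (ds_le _ _).trans inf_le_left
  have hJH : J ≤ H := hJ ▸ (ds_le _ _).trans inf_le_right
  have hDJ : DS a J := hJ ▸ DS_ds _ _
  have hJne : J ≠ ⊤ := fun e => hne (top_le_iff.mp (e ▸ hJT))
  have hxJ : x ∈ J := hJ ▸ mem_ds hx ⟨hxT, hxH⟩
  have nT := k.nice T x hD hne hx hxT
  have nH := k.nice H x hH.ds hH.ne hx hxH
  have hRZ : R ≤ ZZ H := hR ▸ inf_le_left
  have hRZ' : R' ≤ ZZ T := hR' ▸ inf_le_left
  have hzR : z ∈ R := hR ▸ ⟨hz, hzT⟩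
  have hRR : ∀ r ∈ R, ∀ r' ∈ R', Commute r r' := fun r hr r' hr' => by
    rw [hR'] at hr'
    exact mem_centralizer_iff.mp hr'.2 r hr
  have hW : ∀ u ∈ ⁅J, J⁆, ∀ v ∈ ⁅J, J⁆, Commute u v := fun u hu v hv => by
    have h2 := (hc J hDJ hJne).mem hu hv
    by_contra h3
    have h4 : u * v * u⁻¹ * v⁻¹ ≠ 1 := fun e =>
      h3 (mul_inv_eq_iff_eq_mul.mp (mul_inv_eq_one.mp e))
    have h5 := nT.mem_ZZ (commutator_mono hJT hJT h2.1) (ZZ_comm h2 hxJ)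
    have h6 := nH.mem_ZZ (commutator_mono hJH hJH h2.1) (ZZ_comm h2 hxJ)
    exact hTH (hD.le_of fun y hy hyT => k.blk_mem ns hH h6 h4 hy (ZZ_comm h5 hyT))
  have hRq : IsPGroup q R := nH.pg.to_le (hRZ.trans inf_le_left)
  have hRq' : IsPGroup q R' := nT.pg.to_le (hRZ'.trans inf_le_left)
  have hRT : R ≤ normalizer (T : Set G) := hR ▸ inf_le_right
  obtain ⟨m, hm, hmn, hE⟩ := lemM nT (hc T hD hne) (commutator_mono hJT hJT) (norm_Q' hxJ) hW hRq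
    hRT (fun r hr w hw => ZZ_comm (hRZ hr) (hJH (Q_le J hw))) (fun r hr => ZZ_comm (hRZ hr) hxH)
    (fun h => hTH ((nT.le_of_Q_le k.ord hD hxJ hJT h).trans hJH))
  rw [← hR'] at hE
  obtain ⟨E, hEd⟩ : ∃ E, E = ⁅J, J⁆ ⊔ R' ⊔ R := ⟨_, rfl⟩
  rw [← hEd] at hE
  have hEq : IsPGroup q E := by
    refine (nT.pg.to_sup_of_normal_left' hRq fun r hr => norm_Q (hRT hr)).to_le ?_
    rw [hEd]
    exact sup_le_sup_right (sup_le (commutator_mono hJT hJT) (hRZ'.trans inf_le_left)) _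
  have hzE : z ∈ E := hEd ▸ mem_sup_right hzR
  have hnE : ∀ g : G, g ∈ normalizer ((⁅J, J⁆ : Subgroup G) : Set G) → (∀ r ∈ R', Commute g r) →
      (∀ r ∈ R, Commute g r) → g ∈ normalizer (E : Set G) := fun g g1 g2 g3 => by
    rw [hEd]
    exact H7.le_normalizer_sup (C := zpowers g) (H7.le_normalizer_sup (zpowers_le.mpr g1)
      (zpowers_le.mpr (mem_norm_of_commute g2))) (zpowers_le.mpr (mem_norm_of_commute g3))
      (mem_zpowers g)
  have hJ5 : J ≤ ds a (normalizer (E : Set G)) := hDJ.le_ds fun j hj =>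
    hnE j (norm_Q' hj) (fun r hr => (ZZ_comm (hRZ' hr) (hJT hj)).symm)
      (fun r hr => (ZZ_comm (hRZ hr) (hJH hj)).symm)
  have hP := hmax (ds a (normalizer (E : Set G))) ⟨DS_ds _ _,
    k.ds_norm_ne ns (fun e => h1 (by simpa [e] using hzE)) hEq,
    norm_ds (le_normalizer (le_normalizer hzE)), hJ5 hxJ, fun h => hmn (k.mem_sup_of_conj nT hx hm
      hxJ (hJ ▸ mem_ds (isConj_cj hx m) ⟨conj_mem_of_norm (le_normalizer (Q_le T hm)) hxT,
        h (mem_ds (isConj_cj hx m) hE)⟩))⟩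
  simp only [← hJ, ← hR] at hP
  have hJle : J ≤ ds a (ds a (normalizer (E : Set G)) ⊓ H) := hDJ.le_ds (le_inf hJ5 hJH)
  have hRle1 : R ≤ ZZ H ⊓ centralizer (R' : Set G) := fun r hr =>
    ⟨hRZ hr, mem_centralizer_iff.mpr fun r' hr' => (hRR r hr r' hr').symm⟩
  have hRle2 : ZZ H ⊓ centralizer (R' : Set G) ≤
      ZZ H ⊓ normalizer ((ds a (normalizer (E : Set G)) : Subgroup G) : Set G) := fun r hr =>
    ⟨hr.1, norm_ds (le_normalizer (hnE r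
      (mem_norm_of_commute fun w hw => ZZ_comm hr.1 (hJH (Q_le J hw)))
      (fun r' hr' => (mem_centralizer_iff.mp hr.2 r' hr').symm)
      (fun r' hr' => ZZ_comm hr.1 (Q_le H (hRZ hr').1))))⟩
  have c1 := card_le_of_le hJle
  have c2 := card_le_of_le (hRle1.trans hRle2)
  have e1 := eq_of_le_of_card_ge hJle (by omega)
  have e2 := eq_of_le_of_card_ge (hRle1.trans hRle2) (by omega)
  have e3 : ZZ H ⊓ centralizer (R' : Set G) = R := le_antisymm (e2 ▸ hRle2) hRle1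
  obtain ⟨m', hm', hmn', hE'⟩ := lemM nH (hc H hH.ds hH.ne) (commutator_mono hJH hJH) (norm_Q' hxJ)
    hW hRq' (fun r hr => k.blk_norm ns hH hz h1 (hRR z hzR r hr))
    (fun r hr w hw => ZZ_comm (hRZ' hr) (hJT (Q_le J hw))) (fun r hr => ZZ_comm (hRZ' hr) hxT)
    (fun h => hTH (hH.max T hD hne ((nH.le_of_Q_le k.ord hH.ds hxJ hJH h).trans hJT)))
  rw [e3, sup_right_comm, ← hEd] at hE'
  refine hmn' (k.mem_sup_of_conj nH hx hm' hxJ ?_)
  rw [e1]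
  exact mem_ds (isConj_cj hx m') ⟨mem_ds (isConj_cj hx m') hE',
    conj_mem_of_norm (le_normalizer (Q_le H hm')) hxH⟩

end K

end Cfsg.Agent.H9.Fs
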