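import Cfsg.Agent.H9.Fs3

/-!
# The minimal configuration: involutions
-/

set_option autoImplicit false
set_option linter.unusedSectionVars false

namespace Cfsg.Agent.H9.Fs

open Subgroup
open scoped commutatorElement
open Cfsg.Agent.H8 (cj mem_cj IsSylowIn CopAct)

variable {G : Type*} [Group G]

theorem norm_ln_inv [Finite G] {s : G} (hs : s * s = 1) (x : G) :
    s ∈ normalizer ((ln x (s * x * s⁻¹) : Subgroup G) : Set G) :=
  norm_ln (right_mem_ln _ _) (by
    rw [show s * (s * x * s⁻¹) * s⁻¹ = (s * s) * x * (s * s)⁻¹ by group, hs]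
    simpa using left_mem_ln x _)

theorem conj_mem_zpowers {g x y : G} (h : y ∈ zpowers x) : g * y * g⁻¹ ∈ zpowers (g * x * g⁻¹) :=
  cj_zpowers g x ▸ H8.conj_mem_cj g h

theorem pg_inv [Finite G] {s : G} (hs : s * s = 1) : IsPGroup 2 (zpowers s) :=
  pg_zpowers_of_pow (k := 1) Nat.prime_two (by rw [pow_one, pow_two, hs])

theorem Nice.fix_point [Finite G] {p q : ℕ} {L U : Subgroup G} {a x : G} (n : Nice p q L x)
    (hx : IsConj a x) (hU : IsPGroup 2 U) (hn : U ≤ normalizer (L : Set G)) :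
    ∃ b, IsConj a b ∧ b ∈ L ∧ ∀ u ∈ U, u * b * u⁻¹ ∈ zpowers b := by
  haveI := Fact.mk n.pq.hp
  haveI := Fact.mk Nat.prime_two
  have h : CopAct U L := ⟨hn, L0.IsPGroup.card_coprime_of_not_dvd hU (by
    rw [← even_iff_two_dvd, Nat.not_even_iff_odd]; exact n.odd), Or.inr (FT.odd_solvable n.odd)⟩
  obtain ⟨P, hP, hUP⟩ := h.exists_invariant_sylow p
  obtain ⟨l, hl, e⟩ := n.sylow.exists_cj_eq hP
  rw [cj_zpowers] at e
  subst e
  exact ⟨l * x * l⁻¹, isConj_cj hx l, conj_mem_of_norm (le_normalizer hl) n.mem,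
    fun u hu => conj_mem_of_norm (hUP hu) (mem_zpowers _)⟩

/-- An element of the coset `L s` is conjugate to `s y` with `y ∈ C_L(s)`. -/
theorem conj_to_cent [Finite G] {L : Subgroup G} (hL : Odd (Nat.card L)) {s x : G} (hs : s * s = 1)
    (hn : s ∈ normalizer (L : Set G)) (hx : x ∈ L) :
    ∃ y ∈ L, Commute s y ∧ IsConj (s * y) (x * s) := by
  have hs' : s⁻¹ = s := inv_eq_of_mul_eq_one_right hs
  obtain ⟨n, hn'⟩ := hL
  have hpow : ∀ w ∈ L, w ^ (2 * n + 1) = 1 := fun w hw => by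
    rw [← hn']; exact orderOf_dvd_iff_pow_eq_one.mp (L.orderOf_dvd_natCard hw)
  obtain ⟨u, hu⟩ : ∃ u, u = x * s := ⟨_, rfl⟩
  have h1 : u ^ 2 ∈ L := by
    have := mul_mem hx (conj_mem_of_norm hn hx)
    rw [hs'] at this
    rw [hu, pow_two]; simpa [mul_assoc] using this
  obtain ⟨t, ht⟩ : ∃ t, t = u ^ (2 * n + 1) := ⟨_, rfl⟩
  have ht2 : t * t = 1 := by rw [ht, ← pow_add, ← two_mul, pow_mul, hpow _ h1]
  have ht' : t⁻¹ = t := inv_eq_of_mul_eq_one_right ht2
  have hw : t * s ∈ L := by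
    rw [ht, pow_succ, pow_mul, mul_assoc]
    refine mul_mem (pow_mem h1 n) ?_
    rwa [hu, mul_assoc, hs, mul_one]
  have h2 : s * (t * s) * s⁻¹ = (t * s)⁻¹ := by
    rw [mul_inv_rev, hs', ht', mul_assoc, mul_assoc, hs, mul_one]
  obtain ⟨e, he⟩ : ∃ e, e = (t * s) ^ (n + 1) := ⟨_, rfl⟩
  have h3 : s * e * s⁻¹ = e⁻¹ := by rw [he, ← conj_pow, h2, inv_pow]
  have h4 : e * e = t * s := by
    rw [he, ← pow_add, show n + 1 + (n + 1) = 2 * n + 1 + 1 by ring, pow_succ, hpow _ hw, one_mul]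
  have heL : e ∈ L := he ▸ pow_mem hw _
  have h5 : e * s * e⁻¹ = t := by
    rw [← h3]
    calc _ = e * (s * s) * e * s⁻¹ := by group
      _ = e * e * s⁻¹ := by rw [hs]; group
      _ = t := by rw [h4]; group
  have h6 : t * (u ^ 2) ^ (n + 1) = u := by
    rw [ht, ← pow_mul, ← pow_add, show 2 * n + 1 + 2 * (n + 1) = 2 * (2 * n + 1) + 1 by ring,
      pow_succ, pow_mul, hpow _ h1, one_mul]
  have h7 : Commute t ((u ^ 2) ^ (n + 1)) := by
    rw [ht, ← pow_mul]; exact Commute.pow_pow_self _ _ _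
  refine ⟨e⁻¹ * (u ^ 2) ^ (n + 1) * e, conj_mem_of_norm' (le_normalizer heL) (pow_mem h1 _), ?_,
    isConj_iff.mpr ⟨e, ?_⟩⟩
  · have := h7.conj e⁻¹
    rw [← h5] at this
    simpa [mul_assoc] using this
  · rw [← hu]
    calc _ = e * s * e⁻¹ * (u ^ 2) ^ (n + 1) := by group
      _ = u := by rw [h5, h6]

namespace K

variable [Finite G] {p q : ℕ} {a : G} (k : K p q a)
include k

theorem fix_line {s b x : G} {L : Subgroup G} (hs : s * s = 1) (hb : IsConj a b)
    (hsb : Commute s b) (n : Nice p q L x) (hx : IsConj a x) (hn : s ∈ normalizer (L : Set G)) :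
    ∃ b', IsConj a b' ∧ b' ∈ L ∧ Commute s b' := by
  obtain ⟨b', h1, h2, h3⟩ := n.fix_point hx (pg_inv hs) (zpowers_le.mpr hn)
  exact ⟨b', h1, h2, k.commute_of_norm hb h1 hsb (h3 s (mem_zpowers s))⟩

theorem norm_of_fix {s b : G} {T : Subgroup G} (hs : s * s = 1) (hb : IsConj a b)
    (hsb : Commute s b) (hD : DS a T) (hT : ∀ x, IsConj a x → Commute s x → x ∈ T) :
    s ∈ normalizer (T : Set G) := by
  have e : ds a T = T := le_antisymm (ds_le a T) hD
  rw [← e]
  refine mem_norm_closure fun x hx => ?_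
  change _ ∈ ds a T
  rw [e]
  have hn := norm_ln_inv hs x
  have n := k.line x _ hx.1 (isConj_cj hx.1 s)
  obtain ⟨b', h1, h2, h3⟩ := k.fix_line hs hb hsb n hx.1 hn
  have n' := n.change h2 (k.ordC h1)
  obtain ⟨m, hm, h4⟩ := n'.conj (left_mem_ln _ _) (k.powC hx.1)
  obtain ⟨i, hi, c, hc, h5, h6, rfl⟩ := factor n.oddQ hs (norm_Q hn) hm
  have h7 : IsConj a (c * b' * c⁻¹) := isConj_cj h1 c
  have h8 : Commute s (c * b' * c⁻¹) := (h6.mul_right h3).mul_right h6.inv_right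
  have h9 : c * b' * c⁻¹ ∈ ln x (s * x * s⁻¹) := conj_mem_of_norm (le_normalizer (Q_le _ hc)) h2
  rw [show i * c * b' * (i * c)⁻¹ = i * (c * b' * c⁻¹) * i⁻¹ by group] at h4
  generalize c * b' * c⁻¹ = d at h4 h7 h8 h9
  have h10 : i * d * i⁻¹ ∈ T := zpowers_le.mpr hx.2
    (mem_zpowers_symm k.pq.hp (k.ordC (isConj_cj h7 i)) h4 (k.neC hx.1))
  obtain ⟨h, hh, z, hz, e1⟩ := k.split (n.change h9 (k.ordC h7)) h7 hi
  have hhT : h ∈ T := ln_le (hT d h7 h8) h10 (Q_le _ hh)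
  refine zpowers_le.mpr ?_ (conj_mem_zpowers (g := s) h4)
  have hhL : h ∈ ln x (s * x * s⁻¹) :=
    ln_le h9 (conj_mem_of_norm (le_normalizer (Q_le _ hi)) h9) (Q_le _ hh)
  have e2 : s * (i * d * i⁻¹) * s⁻¹ = h⁻¹ * d * h := by
    calc _ = (s * i * s⁻¹) * (s * d * s⁻¹) * (s * i * s⁻¹)⁻¹ := by group
      _ = z⁻¹ * (h⁻¹ * d * h) * z := by rw [h5, h8.eq, e1]; group
      _ = _ := by
        rw [mul_assoc, ← (ZZ_comm hz (conj_mem_of_norm' (le_normalizer hhL) h9)).eq]; group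
  rw [e2]
  exact conj_mem_of_norm' (le_normalizer hhT) (hT d h7 h8)

variable (ns : NS G)
include ns

theorem not_isolated {s : G} (hs : s * s = 1) (h1 : s ≠ 1) :
    ∃ g : G, Commute s (g * s * g⁻¹) ∧ g * s * g⁻¹ ≠ s := by
  haveI := Fact.mk Nat.prime_two
  by_contra h
  push Not at h
  have h0 : pPrimeCore 2 G = ⊥ := ns _ inferInstance (FT.odd_solvable (by
    rw [← Nat.not_even_iff_odd, even_iff_two_dvd]; exact L0.not_dvd_card_pPrimeCore))
  refine h1 (k.eq_one ns fun x _ => ?_)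
  have := H7.zstar_commute hs h x
  rwa [h0, mem_bot, commutatorElement_eq_one_iff_commute] at this

theorem exists_plus : ∃ s b : G, s * s = 1 ∧ s ≠ 1 ∧ IsConj a b ∧ Commute s b := by
  haveI := Fact.mk Nat.prime_two
  have h2 : 2 ∣ Nat.card G := by
    by_contra h
    have h1 := ns ⊤ inferInstance (FT.odd_solvable (by
      rw [card_top, ← Nat.not_even_iff_odd, even_iff_two_dvd]; exact h))
    exact k.neC (IsConj.refl a) (mem_bot.mp (h1 ▸ mem_top a))
  obtain ⟨s, hs⟩ := exists_prime_orderOf_dvd_card' 2 h2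
  have hs2 : s * s = 1 := by rw [← pow_two, ← hs, pow_orderOf_eq_one]
  have hs1 : s ≠ 1 := ne_one_of_orderOf Nat.prime_two hs
  obtain ⟨g, hc, hne⟩ := k.not_isolated ns hs2 hs1
  have ht2 : g * s * g⁻¹ * (g * s * g⁻¹) = 1 := by
    calc _ = g * (s * s) * g⁻¹ := by group
      _ = 1 := by rw [hs2]; group
  have ht1 : g * s * g⁻¹ ≠ 1 := by simpa using hs1
  generalize g * s * g⁻¹ = t at hc hne ht2 ht1
  obtain ⟨b, h1, -, h3⟩ := (k.line a _ (IsConj.refl a) (isConj_cj (IsConj.refl a) s)).fix_point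
    (IsConj.refl a) (pg_inv hs2) (zpowers_le.mpr (norm_ln_inv hs2 a))
  have h4 := h3 s (mem_zpowers s)
  have h5 : s ∈ normalizer ((ln b (t * b * t⁻¹) : Subgroup G) : Set G) := by
    refine norm_ln (zpowers_le.mpr (left_mem_ln _ _) h4) (zpowers_le.mpr (right_mem_ln _ _) ?_)
    have := conj_mem_zpowers (g := t) h4
    rwa [show t * (s * b * s⁻¹) * t⁻¹ = (t * s) * b * (t * s)⁻¹ by group, ← hc.eq,
      show (s * t) * b * (s * t)⁻¹ = s * (t * b * t⁻¹) * s⁻¹ by group] at this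
  obtain ⟨c, h6, -, h7⟩ := (k.line b _ h1 (isConj_cj h1 t)).fix_point h1
    ((pg_inv hs2).to_sup_of_normal_left' (pg_inv ht2) (zpowers_le.mpr (mem_norm_of_commute
      fun y hy => commute_of_mem_zpowers hc.symm hy)))
    (sup_le (zpowers_le.mpr h5) (zpowers_le.mpr (norm_ln_inv ht2 b)))
  have key : ∀ u : G, u * u = 1 → u * c * u⁻¹ ∈ zpowers c → Commute u c ∨ u * c * u⁻¹ = c⁻¹ :=
    fun u hu hn => by
    by_cases h : c * (u * c * u⁻¹) = 1
    · exact Or.inr (eq_inv_of_mul_eq_one_right h)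
    · left
      refine commute_of_mem_zpowers ?_
        (mem_zpowers_symm k.pq.hp (k.ordC h6) (mul_mem (mem_zpowers c) hn) h)
      have h8 := commute_of_mem_zpowers (Commute.refl c) hn
      have : u * (c * (u * c * u⁻¹)) * u⁻¹ = c * (u * c * u⁻¹) := by
        calc _ = (u * c * u⁻¹) * ((u * u) * c * (u * u)⁻¹) := by group
          _ = _ := by rw [hu, h8.eq]; group
      exact mul_inv_eq_iff_eq_mul.mp this
  rcases key s hs2 (h7 s (mem_sup_left (mem_zpowers s))) with h | h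
  · exact ⟨s, c, hs2, hs1, h6, h⟩
  rcases key t ht2 (h7 t (mem_sup_right (mem_zpowers t))) with h' | h'
  · exact ⟨t, c, ht2, ht1, h6, h'⟩
  refine ⟨s * t, c, ?_, fun e => hne ?_, h6, ?_⟩
  · rw [← pow_two, hc.mul_pow, pow_two, pow_two, hs2, ht2, one_mul]
  · rw [← inv_eq_of_mul_eq_one_right e, inv_eq_of_mul_eq_one_right hs2]
  · have : s * t * c * (s * t)⁻¹ = c := by
      calc _ = s * (t * c * t⁻¹) * s⁻¹ := by group
        _ = (s * c * s⁻¹)⁻¹ := by rw [h']; group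
        _ = c := by rw [h, inv_inv]
    exact mul_inv_eq_iff_eq_mul.mp this

theorem two_fix {s b : G} (hs : s * s = 1) (h1 : s ≠ 1) (hb : IsConj a b) (hsb : Commute s b) :
    ∃ x, IsConj a x ∧ Commute s x ∧ x ∉ zpowers b := by
  by_contra hcon
  push Not at hcon
  have key : ∀ t : G, t * t = 1 → Commute t b → (∀ x, IsConj a x → Commute t x → x ∈ zpowers b) →
      ∀ x, IsConj a x → ∀ y ∈ ⁅ln b x, ln b x⁆, t * (y * b * y⁻¹) * t⁻¹ = y⁻¹ * b * y := by
    intro t ht htb hf x hx y hy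
    have n := k.line b x hb hx
    have hn := k.norm_of_fix ht hb htb (DS_ln hb hx) fun x' h2 h3 =>
      zpowers_le.mpr (left_mem_ln b x) (hf x' h2 h3)
    obtain ⟨i, hi, c, hc, h5, h6, rfl⟩ := factor n.oddQ ht (norm_Q hn) hy
    have h7 := n.commute_of_norm hc (hf _ (isConj_cj hb c)
      ((h6.mul_right htb).mul_right h6.inv_right))
    have h8 := n.cent c hc h7 _ (conj_mem_of_norm' (le_normalizer (Q_le _ hi)) n.mem)
    calc _ = (t * i * t⁻¹) * (t * (c * b * c⁻¹) * t⁻¹) * (t * i * t⁻¹)⁻¹ := by group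
      _ = c⁻¹ * (c * (i⁻¹ * b * i)) := by rw [h5, h7.eq, mul_inv_cancel_right, htb.eq]; group
      _ = _ := by rw [h8.eq]; group
  obtain ⟨g, hc, hne⟩ := k.not_isolated ns hs h1
  have ht2 : g * s * g⁻¹ * (g * s * g⁻¹) = 1 := by
    calc _ = g * (s * s) * g⁻¹ := by group
      _ = 1 := by rw [hs]; group
  have h2 : Commute (g * s * g⁻¹) b := k.commute_of_norm (isConj_cj hb g) hb (hsb.conj g)
    (hcon _ (isConj_cj hb _) ((hc.mul_right hsb).mul_right hc.inv_right))
  have h3 : ∀ x, IsConj a x → Commute (g * s * g⁻¹) x → x ∈ zpowers (g * b * g⁻¹) :=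
    fun x hx h => by
    have := conj_mem_zpowers (g := g) (hcon _ (isConj_cj' hx g)
      (by simpa [mul_assoc] using h.conj g⁻¹))
    simpa [mul_assoc] using this
  have h4 : g * b * g⁻¹ ∈ zpowers b :=
    mem_zpowers_symm k.pq.hp (k.ordC (isConj_cj hb g)) (h3 b hb h2) (k.neC hb)
  have h5 : ∀ x, IsConj a x → Commute (g * s * g⁻¹) x → x ∈ zpowers b := fun x hx h =>
    zpowers_le.mpr h4 (h3 x hx h)
  generalize g * s * g⁻¹ = t at hc hne ht2 h2 h5
  refine hne (inv_mul_eq_one.mp (k.eq_one ns fun x hx => ?_))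
  obtain ⟨m, hm, h6⟩ := (k.line b x hb hx).conj (right_mem_ln b x) (k.powC hx)
  refine commute_of_mem_zpowers ?_ h6
  have h7 := (key s hs hsb hcon x hx m hm).trans (key t ht2 h2 h5 x hx m hm).symm
  generalize m * b * m⁻¹ = w at h7
  show t⁻¹ * s * w = w * (t⁻¹ * s)
  calc _ = t⁻¹ * (s * w * s⁻¹) * s := by group
    _ = _ := by rw [h7]; group

theorem blk_unique (hc : ∀ T, DS a T → T ≠ ⊤ → Cl2 T) {s b : G} (hs : s * s = 1) (h1 : s ≠ 1)
    (hb : IsConj a b) (hsb : Commute s b) {H H' : Subgroup G} (hH : Blk a H) (hH' : Blk a H')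
    (hle : ds a (centralizer {s}) ≤ H) (hle' : ds a (centralizer {s}) ≤ H') : H = H' := by
  by_contra hne
  obtain ⟨S, hS⟩ : ∃ S, S = ds a (centralizer {s}) := ⟨_, rfl⟩
  have hmem : ∀ x, IsConj a x → Commute s x → x ∈ S := fun x hx h =>
    hS ▸ mem_ds hx (mem_centralizer_singleton_iff.mpr h.symm)
  have hSs : ∀ x ∈ S, Commute s x := fun x hx =>
    (mem_centralizer_singleton_iff.mp (ds_le a _ (hS ▸ hx))).symm
  have nS := k.nice S b (hS ▸ DS_ds _ _) (hS ▸ k.ds_cent_ne ns h1) hb (hmem b hb hsb)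
  rw [← hS] at hle hle'
  have hW : ⁅S, S⁆ ≠ ⊥ := fun e => by
    obtain ⟨x, h2, h3, h4⟩ := k.two_fix ns hs h1 hb hsb
    have := nS.le (hmem x h2 h3)
    rw [e, bot_sup_eq] at this
    exact h4 this
  have key : ∀ H H' : Subgroup G, Blk a H → Blk a H' → S ≤ H → S ≤ H' → H ≠ H' →
      ds a (normalizer ((⁅S, S⁆ : Subgroup G) : Set G)) = H := by
    intro H H' hH hH' hle hle' hne
    have nH := k.nice H b hH.ds hH.ne hb (hle nS.mem)
    have hsH := k.norm_of_fix hs hb hsb hH.ds fun x hx h => hle (hmem x hx h)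
    have hsH' := k.norm_of_fix hs hb hsb hH'.ds fun x hx h => hle' (hmem x hx h)
    have hZ : ∀ z ∈ ZZ H, Commute s z := fun z hz => by
      have h2 : z * s * z⁻¹ ∈ normalizer (H' : Set G) := by
        refine k.norm_of_fix ?_ hb ?_ hH'.ds fun x hx h => ?_
        · calc _ = z * (s * s) * z⁻¹ := by group
            _ = 1 := by rw [hs]; group
        · exact ((ZZ_comm hz nH.mem).mul_left hsb).mul_left (ZZ_comm hz nH.mem).inv_left
        · have h3 := hmem _ (isConj_cj' hx z) (by simpa [mul_assoc] using h.conj z⁻¹)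
          have h4 := (ZZ_comm hz (hle h3)).eq
          have h5 : x = z⁻¹ * x * z := by
            calc x = z * (z⁻¹ * x * z) * z⁻¹ := by group
              _ = _ := by rw [h4]; group
          exact hle' (h5 ▸ h3)
      have h3 : z * s * z⁻¹ * s⁻¹ ∈ ZZ H := by
        have := mul_mem hz (conj_mem_of_norm (norm_ZZ hsH) (inv_mem hz))
        simpa [mul_assoc] using this
      by_contra h4
      have h5 := k.lemX ns hc hH h3 (fun e => h4
        (mul_inv_eq_iff_eq_mul.mp (mul_inv_eq_one.mp e)).symm) hb nH.mem hH'.ds hH'.ne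
        (mul_mem h2 (inv_mem hsH')) (hle' nS.mem)
      exact hne (le_antisymm (hH'.max H hH.ds hH.ne h5) h5)
    have h6 : H ≤ normalizer ((⁅S, S⁆ : Subgroup G) : Set G) := by
      refine nH.le.trans (sup_le (fun y hy => ?_) (zpowers_le.mpr nS.xn))
      obtain ⟨i, hi, c, hc', h5, h6, rfl⟩ := factor nH.oddQ hs (norm_Q hsH) hy
      refine mul_mem (mem_norm_of_commute fun w hw => ?_)
        (norm_Q (hS ▸ norm_ds (le_normalizer (mem_centralizer_singleton_iff.mpr h6.symm))))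
      have h7 := hZ _ ((hc H hH.ds hH.ne).mem hi (commutator_mono hle hle hw))
      have h8 := hSs w (Q_le S hw)
      refine commute_of_sq nH.oddQ hi ?_
      have h9 : i⁻¹ * w * i * w⁻¹ = i * w * i⁻¹ * w⁻¹ := by
        calc _ = (s * i * s⁻¹) * (s * w * s⁻¹) * (s * i * s⁻¹)⁻¹ * (s * w * s⁻¹)⁻¹ := by
              rw [h5, h8.eq]; group
          _ = s * (i * w * i⁻¹ * w⁻¹) * s⁻¹ := by group
          _ = _ := by rw [h7.eq]; group
      show i * i * w = w * (i * i)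
      calc _ = i * (i * w * i⁻¹ * w⁻¹) * w * i := by group
        _ = _ := by rw [← h9]; group
    exact le_antisymm (hH.max _ (DS_ds _ _) (k.ds_norm_ne ns hW nS.pg) (hH.ds.le_ds h6))
      (hH.ds.le_ds h6)
  exact hne ((key H H' hH hH' hle hle' hne).symm.trans (key H' H hH' hH hle' hle (Ne.symm hne)))

theorem exists_M {s b : G} (hs : s * s = 1) (h1 : s ≠ 1) (hb : IsConj a b) (hsb : Commute s b) :
    ∃ M : Subgroup G, DS a M ∧ M ≠ ⊤ ∧ ds a (centralizer {s}) ≤ M ∧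
      (∀ g, Commute s g → g ∈ normalizer (M : Set G)) ∧ ∀ x y d, IsConj a x → IsConj a y →
        IsConj a d → d ∈ ln x y → Commute s d → ∀ z ∈ ZZ (ln x y), Commute s z → z ∈ M := by
  have h0 : ∀ g, Commute s g → g ∈ normalizer ((ds a (centralizer {s}) : Subgroup G) : Set G) :=
    fun g hg => norm_ds (le_normalizer (mem_centralizer_singleton_iff.mpr hg.symm))
  rcases k.flag with hf | hc
  · refine ⟨_, DS_ds _ _, k.ds_cent_ne ns h1, le_rfl, h0, fun x y d hx hy _ _ _ z hz _ => ?_⟩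
    rw [hf x y hx hy z hz.1 (ZZ_comm hz (left_mem_ln x y))]
    exact one_mem _
  have key : ∀ x y d, IsConj a x → IsConj a y → IsConj a d → d ∈ ln x y → Commute s d →
      ∀ z ∈ ZZ (ln x y), Commute s z → z ≠ 1 → ∃ H, Blk a H ∧ ds a (centralizer {s}) ≤ H ∧ z ∈ H :=
    fun x y d hx hy hd hdL hsd z hz hsz hz1 => by
    obtain ⟨h2, h3, h4⟩ := k.blk_of_Z ns (DS_ln hx hy) hd hdL hz hz1
    exact ⟨_, h2, k.lemX ns hc h2 h4 hz1 hd (h3 hdL) (DS_ds _ _) (k.ds_cent_ne ns h1) (h0 z hsz)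
      (mem_ds hd (mem_centralizer_singleton_iff.mpr hsd.symm)), Q_le _ h4.1⟩
  by_cases hex : ∃ H, Blk a H ∧ ds a (centralizer {s}) ≤ H
  · obtain ⟨H, hH, hle⟩ := hex
    refine ⟨H, hH.ds, hH.ne, hle, fun g hg => H8.cj_eq_self_iff.mp
      (k.blk_unique ns hc hs h1 hb hsb (hH.cj g) hH ?_ hle), fun x y d hx hy hd hdL hsd z hz hsz => ?_⟩
    · rw [← H8.cj_eq_self (h0 g hg)]; exact H8.cj_mono g hle
    · by_cases hz1 : z = 1
      · rw [hz1]; exact one_mem _
      obtain ⟨H', h2, h3, h4⟩ := key x y d hx hy hd hdL hsd z hz hsz hz1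
      exact k.blk_unique ns hc hs h1 hb hsb h2 hH h3 hle ▸ h4
  · refine ⟨_, DS_ds _ _, k.ds_cent_ne ns h1, le_rfl, h0, fun x y d hx hy hd hdL hsd z hz hsz => ?_⟩
    by_cases hz1 : z = 1
    · rw [hz1]; exact one_mem _
    obtain ⟨H', h2, h3, -⟩ := key x y d hx hy hd hdL hsd z hz hsz hz1
    exact absurd ⟨H', h2, h3⟩ hex

theorem conj_opp {s b : G} (hs : s * s = 1) (h1 : s ≠ 1) (hb : IsConj a b) (hsb : Commute s b)
    {x : G} (hx : IsConj a x) :
    ∃ y ∈ H7.opp 2 (centralizer ({s} : Set G)), IsConj (s * y) (x * s) := by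
  haveI := Fact.mk Nat.prime_two
  obtain ⟨M, hD, hne, hle, hn, hZ⟩ := k.exists_M ns hs h1 hb hsb
  have hmem : ∀ x, IsConj a x → Commute s x → x ∈ M := fun x hx h =>
    hle (mem_ds hx (mem_centralizer_singleton_iff.mpr h.symm))
  have hopp : M ⊓ centralizer {s} ≤ H7.opp 2 (centralizer ({s} : Set G)) := by
    refine L0.le_map_pPrimeCore inf_le_right (H7.le_normalizer_inf
      (fun g hg => hn g (mem_centralizer_singleton_iff.mp hg).symm) le_normalizer)
      (L0.not_dvd_card_of_le inf_le_left ?_)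
    rw [← even_iff_two_dvd, Nat.not_even_iff_odd]
    exact (k.nice M b hD hne hb (hmem b hb hsb)).odd
  have n := k.line x _ hx (isConj_cj hx s)
  have hsL := norm_ln_inv hs x
  obtain ⟨y, hy, hsy, hconj⟩ := conj_to_cent n.odd hs hsL (left_mem_ln _ _)
  refine ⟨y, hopp ⟨?_, mem_centralizer_singleton_iff.mpr hsy.symm⟩, hconj⟩
  obtain ⟨d, hd, hdL, hsd⟩ := k.fix_line hs hb hsb n hx hsL
  have n' := n.change hdL (k.ordC hd)
  obtain ⟨y', hy', i, rfl⟩ := n'.dec hy
  have h2 : Commute s y' := by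
    simpa using hsy.mul_right (hsd.zpow_right i).inv_right
  obtain ⟨h, hh, z, hz, e⟩ := k.split n' hd hy'
  have h3 : h ∈ ds a (centralizer {s}) := ln_le
    (mem_ds hd (mem_centralizer_singleton_iff.mpr hsd.symm))
    (mem_ds (isConj_cj hd y') (mem_centralizer_singleton_iff.mpr
      ((h2.mul_right hsd).mul_right h2.inv_right).symm)) (Q_le _ hh)
  have h4 : Commute s z := by
    have h5 : Commute s h := (mem_centralizer_singleton_iff.mp (ds_le a _ h3)).symm
    have := h5.inv_right.mul_right h2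
    rw [e] at this
    simpa using this
  refine mul_mem ?_ (zpow_mem (hmem d hd hsd) i)
  rw [e]
  exact mul_mem (hle h3) (hZ x _ d hx (isConj_cj hx s) hd hdL hsd z hz h4)

theorem false_of_NS : False := by
  classical
  haveI := Fact.mk Nat.prime_two
  obtain ⟨s, b, hs, h1, hb, hsb⟩ := k.exists_plus ns
  have := Fintype.ofFinite G
  obtain ⟨V, hV⟩ := H7.exists_valuationSubring Nat.prime_two
  have h2 := H7.sum_inB0_degree_mul hV (s := s) (H4.orderOf_eq_two_of hs h1 ▸ dvd_rfl)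
  rw [Finset.sum_eq_single (L0.irrOne G) _ (by simp)] at h2
  · have : (L0.irrOne G).1 = 1 := rfl
    simp only [this, if_pos (H7.inB0_one hV), Pi.one_apply] at h2
    norm_num at h2
  · intro χ _ hχ
    by_cases hB : H7.InB0 V 2 χ.1
    swap
    · simp [hB]
    have hcl := L0.IsIrrCharacter.isClassFunction χ.2
    have key : ∀ g : G, χ.1 (g * a * g⁻¹ * s) = χ.1 s := fun g => by
      obtain ⟨y, hy, hc⟩ := k.conj_opp ns hs h1 hb hsb (isConj_cj (IsConj.refl a) g)
      rw [← L0.IsClassFunction.eq_of_isConj hcl hc]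
      exact hB.apply_mul hV (a := 1) (by rw [pow_one, pow_two, hs]) hy
    have e1 := L0.IsIrrCharacter.sum_conj_mul χ.2 a s
    simp only [key, Finset.sum_const, Finset.card_univ, nsmul_eq_mul,
      ← Nat.card_eq_fintype_card] at e1
    have e2 := L0.IsIrrCharacter.apply_one_ne_zero χ.2
    have e3 := L0.natCard_ne_zero G
    field_simp at e1
    have e4 : χ.1 a ≠ χ.1 1 := fun e => hχ (Subtype.ext
      (L0.IsIrrCharacter.eq_one_of_charKer_eq_top χ.2 (top_le_iff.mp (k.gen.le_of fun x hx _ =>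
        ((L0.IsCharacter.mem_charKer_iff (L0.IsIrrCharacter.isCharacter χ.2)).mpr
          ((L0.IsClassFunction.eq_of_isConj hcl hx).symm.trans e))))))
    have e5 : χ.1 s = 0 :=
      (mul_eq_zero.mp (show (χ.1 a - χ.1 1) * χ.1 s = 0 by
        linear_combination -e1)).resolve_left (sub_ne_zero.mpr e4)
    rw [if_pos hB, e5, mul_zero]

end K

end Cfsg.Agent.H9.Fs
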