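import Cfsg.Agent.H9.Fs4

/-!
# Quotients, and the solvable case
-/

set_option autoImplicit false
set_option linter.unusedSectionVars false

namespace Cfsg.Agent.H9.Fs

open Subgroup
open scoped commutatorElement
open Cfsg.Agent.H8 (cj mem_cj IsSylowIn CopAct)

universe u

variable {G : Type*} [Group G]

theorem isConj_lift {G' : Type*} [Group G'] {f : G →* G'} (hf : Function.Surjective f) {a : G}
    {y : G'} (h : IsConj (f a) y) : ∃ x, IsConj a x ∧ f x = y := by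
  obtain ⟨g, rfl⟩ := isConj_iff.mp h
  obtain ⟨g, rfl⟩ := hf g
  exact ⟨g * a * g⁻¹, isConj_cj (IsConj.refl a) g, by simp⟩

theorem DS_top_map {G' : Type*} [Group G'] {f : G →* G'} (hf : Function.Surjective f) {a : G}
    (h : DS a ⊤) : DS (f a) ⊤ := fun y _ => by
  obtain ⟨t, rfl⟩ := hf y
  exact h.le_of (Y := (ds (f a) ⊤).comap f) (fun x hx _ => mem_ds (f.map_isConj hx) (mem_top _))
    (mem_top t)

theorem map_ds_comap {G' : Type*} [Group G'] {f : G →* G'} (hf : Function.Surjective f) {a : G}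
    {T : Subgroup G'} (h : DS (f a) T) : (ds a (T.comap f)).map f = T := by
  refine le_antisymm (map_le_iff_le_comap.mpr (ds_le _ _)) (h.le_of fun y hy hT => ?_)
  obtain ⟨x, hx, rfl⟩ := isConj_lift hf hy
  exact mem_map_of_mem f (mem_ds hx hT)

theorem K.map [Finite G] {G' : Type*} [Group G'] {f : G →* G'} (hf : Function.Surjective f)
    {p q : ℕ} {a : G} (k : K p q a) (h1 : f a ≠ 1) : K p q (f a) := by
  have hne : ∀ x, IsConj a x → f x ≠ 1 := fun x hx e =>
    h1 (isConj_one_left.mp (e ▸ f.map_isConj hx))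
  have hT : ∀ T : Subgroup G', DS (f a) T → T ≠ ⊤ → ds a (T.comap f) ≠ ⊤ := fun T hD hT e =>
    hT (by rw [← map_ds_comap hf hD, e, map_top_of_surjective f hf])
  refine ⟨k.pq, ((k.line a a (IsConj.refl a) (IsConj.refl a)).map f h1).ord, DS_top_map hf k.gen,
    fun T y hD hne' hy hyT => ?_, fun x y hx hy => ?_, k.flag.imp (fun h x y hx hy => ?_)
      fun h T hD hne' => ?_⟩
  · obtain ⟨x, hx, rfl⟩ := isConj_lift hf hy
    rw [← map_ds_comap hf hD]
    exact (k.nice _ x (DS_ds _ _) (hT T hD hne') hx (mem_ds hx hyT)).map f (hne x hx)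
  · obtain ⟨x, hx', rfl⟩ := isConj_lift hf hx
    obtain ⟨y, hy', rfl⟩ := isConj_lift hf hy
    rw [← map_ln]
    exact (k.line x y hx' hy').map f (hne x hx')
  · obtain ⟨x, hx', rfl⟩ := isConj_lift hf hx
    obtain ⟨y, hy', rfl⟩ := isConj_lift hf hy
    rw [← map_ln]
    exact (k.line x y hx' hy').map_ZT f (h x y hx' hy')
  · rw [← map_ds_comap hf hD]
    exact (h _ (DS_ds _ _) (hT T hD hne')).map f

theorem K.solvable {p q : ℕ} (n : ℕ) : ∀ (G : Type u) [Group G] [Finite G] (a : G),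
    Nat.card G = n → K p q a → Group.IsSolvable G := by
  induction n using Nat.strong_induction_on with
  | _ n ih =>
  intro G _ _ a hn k
  by_cases ns : NS G
  · exact (k.false_of_NS ns).elim
  unfold NS at ns
  push Not at ns
  obtain ⟨N, hN, hs, hne⟩ := ns
  have hq : Group.IsSolvable (G ⧸ N) := by
    by_cases h1 : QuotientGroup.mk' N a = 1
    · have h2 := DS_top_map (QuotientGroup.mk'_surjective N) k.gen
      have : Subsingleton (G ⧸ N) := ⟨fun x y => by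
        have h3 : ∀ x : G ⧸ N, x = 1 := fun x => mem_bot.mp (h2.le_of (Y := ⊥)
          (fun z hz _ => mem_bot.mpr (isConj_one_right.mp (h1 ▸ hz))) (mem_top x))
        rw [h3 x, h3 y]⟩
      infer_instance
    · exact ih _ (hn ▸ H5.card_quotient_lt hne) _ _ rfl (k.map (QuotientGroup.mk'_surjective N) h1)
  exact Group.isSolvable_of_ker_le_range N.subtype (QuotientGroup.mk' N) (by simp)

theorem comm_pg {q : ℕ} (hq : q.Prime) (n : ℕ) : ∀ (G : Type u) [Group G] [Finite G]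
    [Group.IsSolvable G] (a : G), Nat.card G = n → DS a ⊤ →
    (∀ g : G, ∃ k : ℕ, (g * a * g⁻¹ * a⁻¹) ^ q ^ k = 1) →
    IsPGroup q ↥⁅(⊤ : Subgroup G), (⊤ : Subgroup G)⁆ := by
  haveI := Fact.mk hq
  induction n using Nat.strong_induction_on with
  | _ n ih =>
  intro G _ _ _ a hn hD hQ
  by_cases h0 : pCore q G = ⊥
  · have h1 : a ∈ centralizer (fittingSubgroup G : Set G) := by
      have : fittingSubgroup G ≤ centralizer {a} := by
        rw [L0.fitting_eq_iSup_pCore]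
        refine iSup_le fun r y hy => mem_centralizer_singleton_iff.mpr ?_
        by_cases hr : (r : ℕ) = q
        · rw [hr, h0, mem_bot] at hy
          simp [hy]
        obtain ⟨k, hk⟩ := hQ y
        have h2 : y * a * y⁻¹ * a⁻¹ ∈ pCore r G := by
          have := mul_mem hy ((inferInstance : (pCore r G).Normal).conj_mem _ (inv_mem hy) a)
          simpa [mul_assoc] using this
        obtain ⟨j, hj⟩ := qe_of_mem L0.pCore_isPGroup h2
        have h3 : Nat.Coprime ((r : ℕ) ^ j) (q ^ k) :=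
          Nat.Coprime.pow _ _ ((Nat.coprime_primes r.2 hq).mpr hr)
        have h4 := Nat.dvd_gcd (orderOf_dvd_of_pow_eq_one hj) (orderOf_dvd_of_pow_eq_one hk)
        rw [h3] at h4
        exact mul_inv_eq_iff_eq_mul.mp (mul_inv_eq_one.mp
          (orderOf_eq_one_iff.mp (Nat.dvd_one.mp h4)))
      exact mem_centralizer_iff.mpr fun y hy => mem_centralizer_singleton_iff.mp (this hy)
    have h2 : ⊤ ≤ centralizer (fittingSubgroup G : Set G) := hD.le_of fun x hx _ => by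
      obtain ⟨g, rfl⟩ := isConj_iff.mp hx
      exact (inferInstance : (centralizer (fittingSubgroup G : Set G)).Normal).conj_mem _ h1 g
    have h3 : ⁅(⊤ : Subgroup G), (⊤ : Subgroup G)⁆ = ⊥ :=
      le_bot_iff.mp (commutator_le.mpr fun s hs t ht => mem_bot.mpr
        (commutatorElement_eq_one_iff_commute.mpr
          (mem_centralizer_iff.mp (h2 ht) s (L0.centralizer_fitting_le (h2 hs)))))
    rw [h3]; exact IsPGroup.of_bot
  · have h1 := ih _ (hn ▸ H5.card_quotient_lt h0) _ (QuotientGroup.mk' (pCore q G) a) rfl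
      (DS_top_map (QuotientGroup.mk'_surjective _) hD) (fun g => by
        obtain ⟨g, rfl⟩ := QuotientGroup.mk'_surjective _ g
        obtain ⟨k, hk⟩ := hQ g
        exact ⟨k, by simpa using congrArg (QuotientGroup.mk' (pCore q G)) hk⟩)
    refine (h1.comap_of_ker_isPGroup (QuotientGroup.mk' (pCore q G)) (by
      rw [QuotientGroup.ker_mk']; exact L0.pCore_isPGroup)).to_le ?_
    rw [← map_le_iff_le_comap, map_commutator]
    exact commutator_mono le_top le_top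

/-- The hypothesis on lines. -/
structure Hy (p q : ℕ) (a : G) : Prop where
  pq : PQ p q
  ord : orderOf a = p
  gen : DS a ⊤
  pg : ∀ x y, IsConj a x → IsConj a y → IsPGroup q ↥⁅ln x y, ln x y⁆
  le : ∀ x y, IsConj a x → IsConj a y → y ∈ ⁅ln x y, ln x y⁆ ⊔ zpowers x

/-- Lines are metabelian. -/
def Ab (a : G) : Prop := ∀ x y, IsConj a x → IsConj a y →
  ∀ u ∈ ⁅ln x y, ln x y⁆, ∀ v ∈ ⁅ln x y, ln x y⁆, Commute u v

/-- Lines are not metabelian. -/
def NAb (a : G) : Prop := ∀ x y, IsConj a x → IsConj a y → y ∉ zpowers x →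
  ¬ ∀ u ∈ ⁅ln x y, ln x y⁆, ∀ v ∈ ⁅ln x y, ln x y⁆, Commute u v

namespace Hy

variable [Finite G] {p q : ℕ} {a : G} (h : Hy p q a)
include h

theorem ordC {x : G} (hx : IsConj a x) : orderOf x = p := (orderOf_isConj hx).trans h.ord

theorem powC {x : G} (hx : IsConj a x) : x ^ p = 1 := by rw [← h.ordC hx, pow_orderOf_eq_one]

theorem central {g : G} (hc : ∀ x, IsConj a x → Commute g x) : g ∈ center G :=
  mem_center_iff.mpr fun t => mem_centralizer_singleton_iff.mp (h.gen.le_of (Y := centralizer {g})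
    (fun x hx _ => mem_centralizer_singleton_iff.mpr (hc x hx).symm) (mem_top t))

theorem top_le : (⊤ : Subgroup G) ≤ ⁅(⊤ : Subgroup G), (⊤ : Subgroup G)⁆ ⊔ zpowers a := h.gen.le_of fun x hx _ => by
  obtain ⟨g, rfl⟩ := isConj_iff.mp hx
  have := mul_mem (mem_sup_left (comm_mem_Q (mem_top g) (mem_top a)) : _ ∈ _ ⊔ zpowers a)
    (mem_sup_right (mem_zpowers a))
  simpa using this

variable [Group.IsSolvable G]

theorem mem_Q {x y : G} (hx : IsConj a x) (hy : IsConj a y) : y * x⁻¹ ∈ ⁅ln x y, ln x y⁆ := by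
  obtain ⟨m, hm, i, e⟩ := decomp (norm_Q' (left_mem_ln x y)) (h.le x y hx hy)
  have h1 : y * x⁻¹ ∈ ⁅(⊤ : Subgroup G), (⊤ : Subgroup G)⁆ := by
    obtain ⟨g, rfl⟩ := isConj_iff.mp (hx.symm.trans hy)
    exact comm_mem_Q (mem_top g) (mem_top x)
  have h2 : x ^ (i - 1) = m⁻¹ * (y * x⁻¹) := by rw [e]; group
  by_cases h3 : x ^ (i - 1) = 1
  · rw [h2, inv_mul_eq_one] at h3
    exact h3 ▸ hm
  exfalso
  have h4 : x ∈ ⁅(⊤ : Subgroup G), (⊤ : Subgroup G)⁆ := by
    refine zpowers_le.mpr ?_ (mem_zpowers_symm h.pq.hp (h.ordC hx) (zpow_mem_zpowers x _) h3)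
    rw [h2]
    exact mul_mem (inv_mem (commutator_mono le_top le_top hm)) h1
  have h5 : a ∈ ⁅(⊤ : Subgroup G), (⊤ : Subgroup G)⁆ := by
    obtain ⟨g, rfl⟩ := isConj_iff.mp hx.symm
    exact conj_mem_of_norm (norm_Q' (mem_top g)) h4
  have h6 := Group.IsSolvable.commutator_lt_of_ne_bot (H := (⊤ : Subgroup G)) (fun e =>
    ne_one_of_orderOf h.pq.hp h.ord (mem_bot.mp (e ▸ mem_top a)))
  exact h6.not_ge (h.top_le.trans (sup_le le_rfl (zpowers_le.mpr h5)))

theorem pgQ : IsPGroup q ↥⁅(⊤ : Subgroup G), (⊤ : Subgroup G)⁆ :=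
  comm_pg h.pq.hq _ G a rfl h.gen fun g => qe_of_mem
    (h.pg a _ (IsConj.refl a) (isConj_cj (IsConj.refl a) g))
    (h.mem_Q (IsConj.refl a) (isConj_cj (IsConj.refl a) g))

theorem sq (hA : Ab a) {c d : G} (hc : IsConj a c) (hd : IsConj a d) :
    ∃ e, IsConj a e ∧ e * e = c * d := by
  have hn := norm_Q' (left_mem_ln c d)
  have hM := h.pg c d hc hd
  have hab := hA c d hc hd
  obtain ⟨m, hm, e1⟩ := sc' h.pq.hp (not_dvd_card h.pq.hp h.pq.hq h.pq.ne hM) hn (h.ordC hc)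
    (h.powC hd) (h.mem_Q hc hd)
  generalize ⁅ln c d, ln c d⁆ = M at hn hM hab hm
  have hinj : Function.Injective fun t : M =>
      (⟨t * (c * t * c⁻¹), mul_mem t.2 (conj_mem_of_norm hn t.2)⟩ : M) := by
    rintro ⟨t, ht⟩ ⟨t', ht'⟩ e
    have e : t * (c * t * c⁻¹) = t' * (c * t' * c⁻¹) := congrArg Subtype.val e
    have h1 : c * (t'⁻¹ * t) * c⁻¹ = (t'⁻¹ * t)⁻¹ := by
      calc _ = (c * t' * c⁻¹)⁻¹ * (c * t * c⁻¹) := by group
        _ = (c * t * c⁻¹) * (c * t' * c⁻¹)⁻¹ :=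
          (hab _ (inv_mem (conj_mem_of_norm hn ht')) _ (conj_mem_of_norm hn ht)).eq
        _ = t⁻¹ * (t * (c * t * c⁻¹)) * (c * t' * c⁻¹)⁻¹ := by group
        _ = _ := by rw [e]; group
    have hu : t'⁻¹ * t ∈ M := mul_mem (inv_mem ht') ht
    refine Subtype.ext (inv_mul_eq_one.mp ?_).symm
    change t'⁻¹ * t = 1
    generalize t'⁻¹ * t = w at h1 hu
    have h2 : Commute c w := by
      refine commute_of_sq (T := zpowers c) (by rw [Nat.card_zpowers, h.ordC hc]; exact h.pq.po)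
        (mem_zpowers c) ?_
      have : c * c * w * (c * c)⁻¹ = w := by
        calc _ = c * (c * w * c⁻¹) * c⁻¹ := by group
          _ = c * w⁻¹ * c⁻¹ := by rw [h1]
          _ = (c * w * c⁻¹)⁻¹ := by group
          _ = w := by rw [h1, inv_inv]
      exact mul_inv_eq_iff_eq_mul.mp this
    rw [h2.eq, mul_inv_cancel_right] at h1
    refine eq_one_of_mem Nat.prime_two (not_dvd_card Nat.prime_two h.pq.hq ?_ hM) hu ?_
    · rintro rfl
      exact absurd h.pq.qo (by decide)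
    · rw [pow_two]; nth_rewrite 2 [h1]; rw [mul_inv_cancel]
  obtain ⟨⟨t, ht⟩, e2⟩ := Finite.injective_iff_surjective.mp hinj ⟨_, conj_mem_of_norm hn hm⟩
  have e2 : t * (c * t * c⁻¹) = c * m * c⁻¹ := congrArg Subtype.val e2
  refine ⟨t * c * t⁻¹, isConj_cj hc t, ?_⟩
  have e3 : m = c⁻¹ * t * c * t := by
    calc m = c⁻¹ * (c * m * c⁻¹) * c := by group
      _ = _ := by rw [← e2]; group
  rw [← e1, e3]
  calc _ = t * c * ((c * t⁻¹ * c⁻¹) * t) * t⁻¹ * c := by group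
    _ = _ := by rw [(hab _ (conj_mem_of_norm hn (inv_mem ht)) _ ht).eq]; group

theorem zt (hA : Ab a) : ZT ⊤ a := by
  have key : ∀ c c' d, IsConj a c → IsConj a c' → IsConj a d → IsConj a (c'⁻¹ * c * d) := by
    intro c c' d hc hc' hd
    choose ψ hψ1 hψ2 using fun d : {x // IsConj a x} => h.sq hA hc' d.2
    have hinj : Function.Injective fun d : {x // IsConj a x} => (⟨ψ d, hψ1 d⟩ : {x // IsConj a x}) :=
      fun d d' e => Subtype.ext (mul_left_cancel (a := c') (by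
        rw [← hψ2, ← hψ2, show ψ d = ψ d' from congrArg Subtype.val e]))
    obtain ⟨e, he, e1⟩ := h.sq hA hc hd
    obtain ⟨d', e2⟩ := Finite.injective_iff_surjective.mp hinj ⟨e, he⟩
    have e3 : ψ d' = e := congrArg Subtype.val e2
    rw [mul_assoc, ← e1, ← e3, hψ2, inv_mul_cancel_left]
    exact d'.2
  let N : Subgroup G :=
    { carrier := {n | ∀ d, IsConj a d ↔ IsConj a (n * d)}
      one_mem' := fun d => by rw [one_mul]
      mul_mem' := fun {x y} hx hy d => by rw [mul_assoc, ← hx, ← hy]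
      inv_mem' := fun {x} hx d => by rw [hx (x⁻¹ * d), mul_inv_cancel_left] }
  have hN : ∀ n, n ∈ N ↔ ∀ d, IsConj a d ↔ IsConj a (n * d) := fun n => Iff.rfl
  have hn : a ∈ normalizer (N : Set G) := mem_norm_of fun y hy => (hN _).mpr fun d => by
    have h1 : ∀ w, IsConj a w ↔ IsConj a (a⁻¹ * w * a) := fun w =>
      ⟨fun hw => isConj_cj' hw a, fun hw => by simpa [mul_assoc] using isConj_cj hw a⟩
    rw [h1 d, (hN y).mp hy, h1 (a * y * a⁻¹ * d)]
    exact iff_of_eq (congrArg _ (by group))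
  have hle : (⊤ : Subgroup G) ≤ N ⊔ zpowers a := h.gen.le_of fun x hx _ => by
    have h1 : a⁻¹ * x ∈ N := (hN _).mpr fun d => ⟨key x a d hx (IsConj.refl a), fun hd => by
      simpa [mul_assoc] using key a x _ (IsConj.refl a) hx hd⟩
    have := mul_mem (mem_sup_right (mem_zpowers a) : _ ∈ N ⊔ zpowers a) (mem_sup_left h1)
    simpa using this
  intro y hy hc
  have h1 := h.powC (((hN y).mp (comm_le hn hle hy) a).mp (IsConj.refl a))
  rw [hc.mul_pow, h.powC (IsConj.refl a), mul_one] at h1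
  exact eq_one_of_mem h.pq.hp (not_dvd_card h.pq.hp h.pq.hq h.pq.ne h.pgQ) hy h1

theorem z2 {t : G} (h1 : ∀ r ∈ ⁅(⊤ : Subgroup G), (⊤ : Subgroup G)⁆, t⁻¹ * r * t * r⁻¹ ∈ center G)
    (h2 : Commute t a) : t ∈ center G := by
  refine h.central fun x hx => ?_
  obtain ⟨g, rfl⟩ := isConj_iff.mp hx
  obtain ⟨y, hy, i, rfl⟩ := decomp (norm_Q' (mem_top a)) (h.top_le (mem_top g))
  have h3 : Commute (t⁻¹ * y⁻¹ * t * y⁻¹⁻¹) a := (mem_center_iff.mp (h1 _ (inv_mem hy)) a).symm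
  have h4 := (h2.mul_left h3).conj y
  rw [show y * a ^ i * a * (y * a ^ i)⁻¹ = y * a * y⁻¹ by group]
  simpa [mul_assoc] using h4

theorem cl2 (hA : NAb a) :
    ⁅⁅(⊤ : Subgroup G), (⊤ : Subgroup G)⁆, ⁅(⊤ : Subgroup G), (⊤ : Subgroup G)⁆⁆ ≤ center G := by
  by_contra hcon
  have hQ := h.pgQ
  have hz := fun t => h.z2 (t := t)
  have hnQ : ∀ g : G, g ∈ normalizer ((⁅(⊤ : Subgroup G), (⊤ : Subgroup G)⁆ : Subgroup G) : Set G) :=
    fun g => norm_Q' (mem_top g)
  generalize ⁅(⊤ : Subgroup G), (⊤ : Subgroup G)⁆ = Q at hcon hQ hz hnQ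
  obtain ⟨m, hm, hmZ, h1⟩ := fp h.pq.hq hQ _ _ rfl (hQ.to_le (Q_le Q)) (fun r hr => norm_Q' hr) hcon
  have h2 : ⁅Q, Q⁆ ≤ centralizer {m} := commutator_le.mpr fun r hr s hs => by
    rw [mem_centralizer_singleton_iff, commutatorElement_def]
    obtain ⟨z, hz⟩ : ∃ z, z = m⁻¹ * r * m * r⁻¹ := ⟨_, rfl⟩
    obtain ⟨w, hw⟩ : ∃ w, w = m⁻¹ * s * m * s⁻¹ := ⟨_, rfl⟩
    have h3 := mem_center_iff.mp (hz ▸ h1 r hr)
    have h4 := mem_center_iff.mp (hw ▸ h1 s hs)
    calc _ = m * ((z * r) * (w * s) * (z * r)⁻¹ * (w * s)⁻¹) := by rw [hz, hw]; group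
      _ = m * (z * (r * w * s * r⁻¹) * z⁻¹ * s⁻¹ * w⁻¹) := by group
      _ = m * (r * w * (s * r⁻¹ * s⁻¹) * w⁻¹) := by rw [← h3]; group
      _ = _ := by rw [mul_assoc r w, ← h4]; group
  have hU : a ∈ normalizer ((⁅Q, Q⁆ ⊓ centralizer (⁅Q, Q⁆ : Subgroup G) : Subgroup G) : Set G) :=
    H7.le_normalizer_inf (C := zpowers a) (zpowers_le.mpr (norm_Q (hnQ a)))
      (zpowers_le.mpr (H8.normalizer_le_normalizer_centralizer _ (norm_Q (hnQ a))))
      (mem_zpowers a)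
  have hmU : m ∈ (⁅Q, Q⁆ ⊓ centralizer (⁅Q, Q⁆ : Subgroup G) : Subgroup G) :=
    ⟨hm, mem_centralizer_iff.mpr fun y hy => mem_centralizer_singleton_iff.mp (h2 hy)⟩
  refine hmZ (hz m h1 ?_)
  by_contra h3
  refine hA a _ (IsConj.refl a) (isConj_cj (IsConj.refl a) m) (fun h4 => h3 ?_) fun u hu v hv => ?_
  · have h5 : m * a * m⁻¹ * a⁻¹ ∈ Q := by
      have := mul_mem (Q_le Q hm) (conj_mem_of_norm (hnQ a) (inv_mem (Q_le Q hm)))
      simpa [mul_assoc] using this
    exact mul_inv_eq_iff_eq_mul.mp (mul_inv_eq_one.mp (eq_one_of_mem h.pq.hp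
      (not_dvd_card h.pq.hp h.pq.hq h.pq.ne hQ) h5
      (pow_eq_one_of_mem_zpowers h.ord (mul_mem h4 (inv_mem (mem_zpowers a))))))
  · have h5 := comm_le hU (ln_le (mem_sup_right (mem_zpowers a)) (mul_mem (mul_mem
      (mem_sup_left hmU) (mem_sup_right (mem_zpowers a))) (mem_sup_left (inv_mem hmU))))
    exact mem_centralizer_iff.mp (h5 hv).2 u (h5 hu).1

theorem solv : (Ab a → Nice p q ⊤ a ∧ ZT ⊤ a) ∧ (NAb a → Nice p q ⊤ a ∧ Cl2 (⊤ : Subgroup G)) := by
  refine ⟨fun hA => ⟨⟨h.pq, mem_top a, h.ord, h.pgQ, h.top_le, fun y hy hc t _ => ?_⟩, h.zt hA⟩,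
    fun hA => ⟨⟨h.pq, mem_top a, h.ord, h.pgQ, h.top_le, fun y hy hc t _ => ?_⟩,
      fun u hu v hv t _ => (mem_center_iff.mp (h.cl2 hA (comm_mem_Q hu hv)) t).symm⟩⟩
  · rw [h.zt hA y hy hc]; exact Commute.one_left t
  · refine (mem_center_iff.mp (h.z2 (fun r hr => h.cl2 hA ?_) hc) t).symm
    simpa using comm_mem_Q (inv_mem hy) hr

end Hy

end Cfsg.Agent.H9.Fs
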