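import Cfsg.Agent.H9.Fs5

/-!
# The main induction and the reduction to lines
-/

set_option autoImplicit false
set_option linter.unusedSectionVars false

namespace Cfsg.Agent.H9.Fs

open Subgroup
open scoped commutatorElement
open Cfsg.Agent.H8 (cj mem_cj IsSylowIn CopAct)

universe u

variable {G : Type*} [Group G]

theorem top_map_subtype (T : Subgroup G) : (⊤ : Subgroup T).map T.subtype = T := by
  rw [← MonoidHom.range_eq_map, range_subtype]

theorem Hy.restrict [Finite G] {p q : ℕ} {a : G} (h : Hy p q a) {T : Subgroup G} {x : G}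
    (hD : DS a T) (hx : IsConj a x) (hxT : x ∈ T) :
    Hy p q (⟨x, hxT⟩ : T) ∧ (Ab a → Ab (⟨x, hxT⟩ : T)) ∧ (NAb a → NAb (⟨x, hxT⟩ : T)) := by
  have h1 : ∀ u : T, IsConj (⟨x, hxT⟩ : T) u → IsConj a (u : G) := fun u hu =>
    hx.trans (T.subtype.map_isConj hu)
  have h2 : ∀ u v : T, ⁅ln (u : G) v, ln (u : G) v⁆ = ⁅ln u v, ln u v⁆.map T.subtype :=
    fun u v => by rw [map_commutator, map_ln]; rfl
  have h3 : ∀ u v w : T, w ∈ ⁅ln u v, ln u v⁆ ↔ (w : G) ∈ ⁅ln (u : G) v, ln (u : G) v⁆ :=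
    fun u v w => by rw [h2]; exact (mem_map_iff_mem T.subtype_injective).symm
  refine ⟨⟨h.pq, by rw [← h.ordC hx]; exact (orderOf_coe _).symm, fun t _ => ?_,
    fun u v hu hv => ?_, fun u v hu hv => ?_⟩, fun hA u v hu hv s hs t ht => ?_,
    fun hA u v hu hv hn hc => ?_⟩
  · rw [← mem_map_iff_mem T.subtype_injective]
    refine hD.le_of (fun y hy hyT => ?_) t.2
    obtain ⟨m, hm, h4⟩ := sc h.pq.hp (not_dvd_card h.pq.hp h.pq.hq h.pq.ne (h.pg x y hx hy))
      (norm_Q' (left_mem_ln x y)) (h.ordC hx) (h.powC hy) (h.le x y hx hy)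
    refine zpowers_le.mpr ?_ h4
    exact ⟨_, mem_ds (isConj_cj (IsConj.refl _) ⟨m, ln_le hxT hyT (Q_le _ hm)⟩) (mem_top _), rfl⟩
  · exact ((h.pg u v (h1 u hu) (h1 v hv)).comap_of_injective T.subtype T.subtype_injective).to_le
      fun w hw => (h3 u v w).mp hw
  · have := h.le u v (h1 u hu) (h1 v hv)
    rw [h2] at this
    rw [← mem_map_iff_mem T.subtype_injective, Subgroup.map_sup, MonoidHom.map_zpowers]
    exact this
  · exact Subtype.ext (hA u v (h1 u hu) (h1 v hv) s ((h3 u v s).mp hs) t ((h3 u v t).mp ht)).eq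
  · refine hA u v (h1 u hu) (h1 v hv) (fun h4 => hn ?_) fun s hs t ht => ?_
    · rw [← mem_map_iff_mem T.subtype_injective, MonoidHom.map_zpowers]
      exact h4
    · rw [h2] at hs ht
      obtain ⟨s, hs, rfl⟩ := hs
      obtain ⟨t, ht, rfl⟩ := ht
      exact (hc s hs t ht).map _

theorem Hy.solvable {p q : ℕ} (n : ℕ) : ∀ (G : Type u) [Group G] [Finite G] (a : G),
    Nat.card G = n → Hy p q a → Ab a ∨ NAb a → Group.IsSolvable G := by
  induction n using Nat.strong_induction_on with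
  | _ n ih =>
  intro G _ _ a hn h hf
  by_cases hl : ∃ x y, IsConj a x ∧ IsConj a y ∧ ln x y = ⊤
  · obtain ⟨x, y, hx, hy, e⟩ := hl
    haveI := Fact.mk Nat.prime_two
    haveI := Fact.mk h.pq.hq
    refine FT.odd_solvable ?_
    rw [← card_top, ← e, ← Nat.not_even_iff_odd, even_iff_two_dvd]
    refine L0.not_dvd_card_of_le
      ((ln_le (mem_sup_right (mem_zpowers x)) (h.le x y hx hy)).trans (sup_comm _ _).le)
      (L0.not_dvd_card_sup (zpowers_le.mpr (norm_Q' (left_mem_ln x y))) ?_ ?_)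
    · rw [Nat.card_zpowers, h.ordC hx, ← even_iff_two_dvd, Nat.not_even_iff_odd]; exact h.pq.po
    · obtain ⟨k, hk⟩ := (h.pg x y hx hy).exists_card_eq
      rw [hk, ← even_iff_two_dvd, Nat.not_even_iff_odd]; exact h.pq.qo.pow
  push Not at hl
  have key : ∀ T x, DS a T → T ≠ ⊤ → IsConj a x → x ∈ T →
      (Ab a → Nice p q T x ∧ ZT T x) ∧ (NAb a → Nice p q T x ∧ Cl2 T) := fun T x hD hne hx hxT => by
    obtain ⟨h1, h2, h3⟩ := h.restrict hD hx hxT
    haveI := ih _ (hn ▸ H5.card_lt_of_ne_top hne) _ _ rfl h1 (hf.imp h2 h3)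
    have h4 : T.subtype ⟨x, hxT⟩ ≠ 1 := ne_one_of_orderOf h.pq.hp (h.ordC hx)
    constructor
    · intro hA
      obtain ⟨h5, h6⟩ := h1.solv.1 (h2 hA)
      have h7 := h5.map T.subtype h4
      have h8 := h5.map_ZT T.subtype h6
      rw [top_map_subtype] at h7 h8
      exact ⟨h7, h8⟩
    · intro hA
      obtain ⟨h5, h6⟩ := h1.solv.2 (h3 hA)
      have h7 := h5.map T.subtype h4
      have h8 := h6.map T.subtype
      rw [top_map_subtype] at h7 h8
      exact ⟨h7, h8⟩
  have key2 : ∀ T x, DS a T → T ≠ ⊤ → IsConj a x → x ∈ T → Nice p q T x :=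
    fun T x hD hne hx hxT => hf.elim (fun hA => ((key T x hD hne hx hxT).1 hA).1)
      fun hA => ((key T x hD hne hx hxT).2 hA).1
  refine K.solvable (p := p) (q := q) _ G a rfl ⟨h.pq, h.ord, h.gen, key2, fun x y hx hy =>
    key2 _ x (DS_ln hx hy) (hl x y hx hy) hx (left_mem_ln x y), hf.imp (fun hA x y hx hy =>
      ((key _ x (DS_ln hx hy) (hl x y hx hy) hx (left_mem_ln x y)).1 hA).2) fun hA T hD hne => ?_⟩
  by_cases hx : ∃ x, IsConj a x ∧ x ∈ T
  · obtain ⟨x, hx, hxT⟩ := hx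
    exact ((key T x hD hne hx hxT).2 hA).2
  · intro u _ v _ t ht
    rw [mem_bot.mp (hD.le_of (Y := ⊥) (fun x h1 h2 => absurd ⟨x, h1, h2⟩ hx) ht)]
    exact Commute.one_right _

theorem Hy.nice [Finite G] {p q : ℕ} {a : G} (h : Hy p q a) (hf : Ab a ∨ NAb a) :
    Nice p q ⊤ a := by
  haveI := Hy.solvable _ G a rfl h hf
  exact hf.elim (fun hA => (h.solv.1 hA).1) fun hA => (h.solv.2 hA).1

theorem commute_of_norm_p [Finite G] {p : ℕ} (hp : p.Prime) {x y : G} (hx : orderOf x = p) {k : ℕ}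
    (hy : y ^ p ^ k = 1) (hn : y * x * y⁻¹ ∈ zpowers x) : Commute y x := by
  haveI := Fact.mk hp
  have h1 : y ∈ normalizer ((zpowers x : Subgroup G) : Set G) := mem_norm_of fun w hw =>
    zpowers_le.mpr hn (cj_zpowers y x ▸ H8.conj_mem_cj y hw)
  haveI := ((pg_zpowers hp hx).to_sup_of_normal_left' (pg_zpowers_of_pow hp hy)
    (zpowers_le.mpr h1)).isNilpotent
  have h2 := L0.inf_centralizer_ne_bot_of_isNilpotent (N := zpowers x)
    (P := zpowers x ⊔ zpowers y) le_sup_left (sup_le le_normalizer (zpowers_le.mpr h1))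
    (by simpa using ne_one_of_orderOf hp hx)
  obtain ⟨⟨w, hw⟩, h3⟩ := ne_bot_iff_exists_ne_one.mp h2
  exact commute_of_mem_zpowers (mem_centralizer_iff.mp hw.2 y (mem_sup_right (mem_zpowers y)))
    (mem_zpowers_symm hp hx hw.1 fun e => h3 (Subtype.ext e))

theorem exists_hom {F : Type*} [Group F] {L : Subgroup G} (h : Nonempty (L ≃* F)) :
    ∃ f : F →* G, Function.Injective f ∧ (⊤ : Subgroup F).map f = L := by
  obtain ⟨e⟩ := h
  refine ⟨L.subtype.comp e.symm.toMonoidHom, L.subtype_injective.comp e.symm.injective, ?_⟩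
  rw [← map_map, map_top_of_surjective _ e.symm.surjective, top_map_subtype]

/-- The original hypothesis in terms of generators. -/
structure Orig (p : ℕ) (F : Type*) [Group F] (Pt : G → Prop) : Prop where
  hp : p.Prime
  nc : ¬ IsMulCommutative G
  odd : Odd (Nat.card F)
  ord : ∀ x, Pt x → orderOf x = p
  conj : ∀ x g, Pt x → Pt (g * x * g⁻¹)
  gen : ∀ Y : Subgroup G, (∀ x, Pt x → x ∈ Y) → ⊤ ≤ Y
  iso : ∀ x y, Pt x → Pt y → y ∉ zpowers x → Nonempty (ln x y ≃* F)

namespace Orig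

variable [Finite G] {p : ℕ} {F : Type*} [Group F] [Finite F] {Pt : G → Prop} (o : Orig p F Pt)
include o

theorem not_all : ¬ ∀ x y, Pt x → Pt y → Commute x y := fun h => o.nc ⟨⟨fun s t => by
  refine (mem_centralizer_singleton_iff.mp (o.gen (centralizer {t}) (fun x hx => ?_) (mem_top s)))
  exact mem_centralizer_singleton_iff.mpr (mem_centralizer_singleton_iff.mp
    (o.gen (centralizer {x}) (fun y hy => mem_centralizer_singleton_iff.mpr (h y x hy hx))
      (mem_top t))).symm⟩⟩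

theorem not_commute {x y : G} (hx : Pt x) (hy : Pt y) (hn : y ∉ zpowers x) : ¬ Commute x y := by
  intro hc
  obtain ⟨f, hf, e⟩ := exists_hom (o.iso x y hx hy hn)
  have h1 : ∀ s ∈ ln x y, ∀ t ∈ ln x y, Commute s t := fun s hs t ht => by
    have h2 : ∀ w, Commute x w → Commute y w → Commute s w := fun w h3 h4 =>
      mem_centralizer_singleton_iff.mp (ln_le (T := centralizer {w})
        (mem_centralizer_singleton_iff.mpr h3) (mem_centralizer_singleton_iff.mpr h4) hs)
    exact (mem_centralizer_singleton_iff.mp (ln_le (T := centralizer {s})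
      (mem_centralizer_singleton_iff.mpr (h2 x (Commute.refl x) hc.symm).symm)
      (mem_centralizer_singleton_iff.mpr (h2 y hc (Commute.refl y)).symm) ht)).symm
  have h2 : ∀ s t : F, Commute s t := fun s t => hf (by
    rw [map_mul, map_mul]
    exact h1 _ (e ▸ mem_map_of_mem f (mem_top s)) _ (e ▸ mem_map_of_mem f (mem_top t)))
  refine o.not_all fun x' y' hx' hy' => ?_
  by_cases h : y' ∈ zpowers x'
  · exact commute_of_mem_zpowers (Commute.refl x') h
  obtain ⟨f', -, e'⟩ := exists_hom (o.iso x' y' hx' hy' h)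
  obtain ⟨s, -, hs⟩ := (e' ▸ left_mem_ln x' y' : x' ∈ (⊤ : Subgroup F).map f')
  obtain ⟨t, -, ht⟩ := (e' ▸ right_mem_ln x' y' : y' ∈ (⊤ : Subgroup F).map f')
  rw [← hs, ← ht]
  exact (h2 s t).map f'

theorem mem_of_pgroup {x y : G} {P : Subgroup G} (hx : Pt x) (hy : Pt y) (hP : IsPGroup p P)
    (hxP : x ∈ P) (hyP : y ∈ P) : y ∈ zpowers x := by
  haveI := Fact.mk o.hp
  have key : ∀ y, Pt y → y ∈ normalizer ((zpowers x : Subgroup G) : Set G) → y ∈ zpowers x :=
    fun y hy hn => by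
    by_contra h
    exact o.not_commute hx hy h (commute_of_norm_p (k := 1) o.hp (o.ord x hx)
      (by rw [pow_one, ← o.ord y hy, pow_orderOf_eq_one]) (conj_mem_of_norm hn (mem_zpowers x))).symm
  by_cases h : P ≤ normalizer ((zpowers x : Subgroup G) : Set G)
  · exact key y hy (h hyP)
  have h1 : P ⊓ normalizer ((zpowers x : Subgroup G) : Set G) < P :=
    lt_of_le_of_ne inf_le_left fun e => h (inf_eq_left.mp e)
  obtain ⟨g, hg, hg'⟩ := SetLike.exists_of_lt (H8.lt_inf_normalizer_of_pgroup hP h1)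
  have h2 := conj_mem_of_norm hg.2 ⟨hxP, le_normalizer (mem_zpowers x)⟩
  have h3 := key _ (o.conj x g hx) h2.2
  exact absurd ⟨hg.1, mem_norm_of fun w hw =>
    zpowers_le.mpr h3 (cj_zpowers g x ▸ H8.conj_mem_cj g hw)⟩ hg'

theorem line {x y : G} (hx : Pt x) (hy : Pt y) (hn : y ∉ zpowers x) :
    ∃ r : ℕ, r.Prime ∧ p ≠ r ∧ IsPGroup r ↥⁅ln x y, ln x y⁆ ∧
      ∃ m ∈ ln x y, y ∈ zpowers (m * x * m⁻¹) := by
  haveI := Fact.mk o.hp
  have hcard : ∀ x y, Pt x → Pt y → y ∉ zpowers x → Nat.card (ln x y) = Nat.card F :=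
    fun x y hx hy hn => Nat.card_congr (o.iso x y hx hy hn).some.toEquiv
  haveI : Group.IsSolvable (ln x y) := FT.odd_solvable (hcard x y hx hy hn ▸ o.odd)
  have hyp : y ^ p ^ 1 = 1 := by rw [pow_one, ← o.ord y hy, pow_orderOf_eq_one]
  have h1 : ∃ r : Nat.Primes, ∃ u ∈ (pCore r (ln x y)).map (ln x y).subtype, ¬ Commute u x := by
    by_contra h
    push Not at h
    have h2 : (fittingSubgroup (ln x y)).map (ln x y).subtype ≤ centralizer {x} := by
      rw [L0.map_fitting_eq_iSup]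
      exact iSup_le fun r u hu => mem_centralizer_singleton_iff.mpr (h r u hu)
    have h3 := L0.centralizer_map_fitting_inf_le (ln x y) ⟨mem_centralizer_iff.mpr fun u hu =>
      mem_centralizer_singleton_iff.mp (h2 hu), left_mem_ln x y⟩
    have h4 := mem_centralizer_singleton_iff.mp (h2 (conj_mem_of_norm
      (L0.le_normalizer_map_fitting _ (right_mem_ln x y)) h3))
    have h5 : y * x * y⁻¹ ∈ zpowers x := by
      by_contra h5
      exact o.not_commute hx (o.conj x y hx) h5 h4.symm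
    exact o.not_commute hx hy hn (commute_of_norm_p o.hp (o.ord x hx) hyp h5).symm
  obtain ⟨r, u, hu, hc⟩ := h1
  have hM := L0.map_pCore_isPGroup (p := r) (ln x y)
  have hML : (pCore r (ln x y)).map (ln x y).subtype ≤ ln x y := map_subtype_le _
  have hxM := L0.le_normalizer_map_pCore (p := r) (ln x y) (left_mem_ln x y)
  generalize (pCore r (ln x y)).map (ln x y).subtype = M at hu hM hML hxM
  have hu' : u * x * u⁻¹ ∈ M ⊔ zpowers x := mul_mem (mul_mem (mem_sup_left hu)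
    (mem_sup_right (mem_zpowers x))) (mem_sup_left (inv_mem hu))
  have hr : p ≠ r := by
    rintro rfl
    obtain ⟨k, hk⟩ := qe_of_mem hM hu
    exact hc (commute_of_norm_p o.hp (o.ord x hx) hk (o.mem_of_pgroup hx (o.conj x u hx)
      (hM.to_sup_of_normal_left' (pg_zpowers o.hp (o.ord x hx)) (zpowers_le.mpr hxM))
      (mem_sup_right (mem_zpowers x)) hu'))
  have hnd := not_dvd_card o.hp r.2 hr hM
  have h2 : u * x * u⁻¹ ∉ zpowers x := fun h => hc (by
    have h5 : u * x * u⁻¹ * x⁻¹ ∈ M := by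
      have := mul_mem hu (conj_mem_of_norm hxM (inv_mem hu))
      simpa [mul_assoc] using this
    exact mul_inv_eq_iff_eq_mul.mp (mul_inv_eq_one.mp (eq_one_of_mem o.hp hnd h5
      (pow_eq_one_of_mem_zpowers (o.ord x hx) (mul_mem h (inv_mem (mem_zpowers x)))))))
  have h3 : ln x (u * x * u⁻¹) = ln x y := eq_of_le_of_card_ge
    (ln_le (left_mem_ln x y) (conj_mem_of_norm (le_normalizer (hML hu)) (left_mem_ln x y)))
    (by rw [hcard x y hx hy hn, hcard x _ hx (o.conj x u hx) h2])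
  have h4 : ln x y ≤ M ⊔ zpowers x := h3 ▸ ln_le (mem_sup_right (mem_zpowers x)) hu'
  obtain ⟨m, hm, h5⟩ := sc o.hp hnd hxM (o.ord x hx) (by simpa using hyp) (h4 (right_mem_ln x y))
  exact ⟨r, r.2, hr, hM.to_le (comm_le hxM h4), m, hML hm, h5⟩

theorem exists_hy (hp2 : p ≠ 2) : ∃ (q : ℕ) (a : G), Hy p q a ∧ (Ab a ∨ NAb a) := by
  obtain ⟨a, b, ha, hb, hab⟩ : ∃ a b, Pt a ∧ Pt b ∧ b ∉ zpowers a := by
    by_contra h
    push Not at h
    exact o.not_all fun x y hx hy => commute_of_mem_zpowers (Commute.refl x) (h x y hx hy)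
  obtain ⟨q, hq, hpq, hQ, -⟩ := o.line ha hb hab
  haveI := Fact.mk hq
  have hF : IsPGroup q ↥⁅(⊤ : Subgroup F), (⊤ : Subgroup F)⁆ := by
    obtain ⟨f, hf, e⟩ := exists_hom (o.iso a b ha hb hab)
    refine (hQ.comap_of_injective f hf).to_le ?_
    rw [← map_le_iff_le_comap, map_commutator, e]
  have hqo : Odd q := by
    obtain ⟨f, hf, e⟩ := exists_hom (o.iso a b ha hb hab)
    have h1 : a * b * a⁻¹ * b⁻¹ ≠ 1 := fun h => o.not_commute ha hb hab
      (mul_inv_eq_iff_eq_mul.mp (mul_inv_eq_one.mp h))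
    have h2 := comm_mem_Q (left_mem_ln a b) (right_mem_ln a b)
    obtain ⟨k, hk⟩ := hQ.exists_card_eq
    have h3 : k ≠ 0 := by
      rintro rfl
      rw [pow_zero, card_eq_one] at hk
      exact h1 (mem_bot.mp (hk ▸ h2))
    refine o.odd.of_dvd_nat ?_
    rw [← Nat.card_congr (o.iso a b ha hb hab).some.toEquiv]
    exact ((dvd_pow_self q h3).trans hk.symm.dvd).trans (card_dvd_of_le (Q_le _))
  have hC : ∀ x, IsConj a x → Pt x := fun x hx => by
    obtain ⟨g, rfl⟩ := isConj_iff.mp hx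
    exact o.conj a g ha
  have hbot : ∀ x y : G, y ∈ zpowers x → ⁅ln x y, ln x y⁆ = ⊥ := fun x y h =>
    le_bot_iff.mp (comm_le (x := x) (mem_norm_of_commute fun w hw => by
      rw [mem_bot.mp hw]; exact Commute.one_right x)
      (ln_le (mem_sup_right (mem_zpowers x)) (mem_sup_right h)))
  refine ⟨q, a, ⟨⟨o.hp, hq, hpq, o.hp.odd_of_ne_two hp2, hqo⟩, o.ord a ha, o.gen _ fun y hy => ?_,
    fun x y hx hy => ?_, fun x y hx hy => ?_⟩, ?_⟩
  · by_cases h : y ∈ zpowers a
    · exact zpowers_le.mpr (mem_ds (IsConj.refl a) (mem_top a)) h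
    obtain ⟨r, -, -, -, m, -, h1⟩ := o.line ha hy h
    exact zpowers_le.mpr (mem_ds (isConj_cj (IsConj.refl a) m) (mem_top _)) h1
  · by_cases h : y ∈ zpowers x
    · rw [hbot x y h]; exact IsPGroup.of_bot
    obtain ⟨f, hf, e⟩ := exists_hom (o.iso x y (hC x hx) (hC y hy) h)
    rw [← e, ← map_commutator]
    exact hF.map f
  · by_cases h : y ∈ zpowers x
    · exact mem_sup_right h
    obtain ⟨r, -, -, -, m, hm, h1⟩ := o.line (hC x hx) (hC y hy) h
    refine zpowers_le.mpr ?_ h1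
    have := mul_mem (mem_sup_left (comm_mem_Q hm (left_mem_ln x y)) : _ ∈ _ ⊔ zpowers x)
      (mem_sup_right (mem_zpowers x))
    simpa using this
  by_cases hA : ∀ u ∈ ⁅(⊤ : Subgroup F), (⊤ : Subgroup F)⁆,
    ∀ v ∈ ⁅(⊤ : Subgroup F), (⊤ : Subgroup F)⁆, Commute u v
  · refine Or.inl fun x y hx hy => ?_
    by_cases h : y ∈ zpowers x
    · rw [hbot x y h]
      intro u hu v _
      rw [mem_bot.mp hu]; exact Commute.one_left v
    obtain ⟨f, hf, e⟩ := exists_hom (o.iso x y (hC x hx) (hC y hy) h)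
    rw [← e, ← map_commutator]
    rintro _ ⟨u, hu, rfl⟩ _ ⟨v, hv, rfl⟩
    exact (hA u hu v hv).map f
  · refine Or.inr fun x y hx hy h hc => hA fun u hu v hv => ?_
    obtain ⟨f, hf, e⟩ := exists_hom (o.iso x y (hC x hx) (hC y hy) h)
    rw [← e, ← map_commutator] at hc
    exact hf (by
      rw [map_mul, map_mul]
      exact hc _ (mem_map_of_mem f hu) _ (mem_map_of_mem f hv))

end Orig

open scoped Pointwise in
theorem Nice.final [Finite G] {p q : ℕ} {a : G} (n : Nice p q ⊤ a) (hG : ¬ IsMulCommutative G) :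
    Odd (Nat.card (G ⧸ center G)) ∧
      ∃ H : Subgroup (G ⧸ center G), Cfsg.IsFrobeniusComplement H := by
  have key : ¬ ∀ y ∈ ⁅(⊤ : Subgroup G), (⊤ : Subgroup G)⁆, Commute y a := fun h =>
    hG ⟨⟨fun s t => by
      obtain ⟨y, hy, i, rfl⟩ := n.dec (mem_top s)
      obtain ⟨z, hz, j, rfl⟩ := n.dec (mem_top t)
      exact ((n.cent y hy (h y hy) _ (mem_top _)).mul_left
        ((n.cent z hz (h z hz) _ (mem_top _)).symm.mul_right (Commute.zpow_zpow_self a i j))).eq⟩⟩
  have h1 : QuotientGroup.mk' (center G) a ≠ 1 := fun e => key fun y _ =>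
    mem_center_iff.mp ((QuotientGroup.eq_one_iff a).mp e) y
  have n' := n.map _ h1
  have hz : ∀ y ∈ ⁅(⊤ : Subgroup G), (⊤ : Subgroup G)⁆, Commute (QuotientGroup.mk' (center G) y)
      (QuotientGroup.mk' (center G) a) → y ∈ center G := fun y hy hc => by
    obtain ⟨z, hz, h2, h3⟩ := n.lift _ hy hc
    rw [← QuotientGroup.eq_one_iff, ← QuotientGroup.mk'_apply, ← h3, QuotientGroup.mk'_apply,
      QuotientGroup.eq_one_iff]
    exact mem_center_iff.mpr fun t => (n.cent z hz h2 t (mem_top t)).symm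
  refine ⟨?_, zpowers (QuotientGroup.mk' (center G) a), by simpa using h1, fun e => key fun y hy =>
    (mem_center_iff.mp (hz y hy (commute_of_mem_zpowers (Commute.refl _)
      (e ▸ mem_top _)).symm) a).symm, fun g hg => ?_⟩
  · have := n.odd
    rw [card_top] at this
    exact this.of_dvd_nat (card_quotient_dvd_card _)
  · by_contra h
    obtain ⟨⟨w, hw⟩, h2⟩ := ne_bot_iff_exists_ne_one.mp h
    have h3 : w ∈ zpowers (g * QuotientGroup.mk' (center G) a * g⁻¹) := cj_zpowers g _ ▸ hw.2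
    have h4 := zpowers_le.mpr hw.1 (mem_zpowers_symm n.pq.hp ((orderOf_cj _ _).trans n'.ord) h3
      fun e => h2 (Subtype.ext e))
    obtain ⟨g, rfl⟩ := QuotientGroup.mk'_surjective _ g
    obtain ⟨y, hy, i, rfl⟩ := n.dec (mem_top g)
    have h5 := hz y hy (n'.commute_of_norm (by
      rw [← map_commutator]; exact mem_map_of_mem _ hy) (by
      rw [map_mul, map_zpow] at h4
      convert h4 using 1
      group))
    refine hg ?_
    rw [map_mul, map_zpow, show QuotientGroup.mk' (center G) y = 1 from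
      (QuotientGroup.eq_one_iff y).mpr h5, one_mul]
    exact zpow_mem_zpowers _ i

end Cfsg.Agent.H9.Fs
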