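import Cfsg.Agent.GW.IMain
import Cfsg.Agent.H7.ZStar

/-! Groups with a maximal Sylow `2`-subgroup of order `128`, part 1. -/

set_option autoImplicit false

namespace Cfsg.Agent.H9.MS

open Subgroup H7 H8 GW
open scoped commutatorElement

variable {G : Type*} [Group G] [Finite G]

theorem two_mul_le {H K : Subgroup G} (h : H ≤ K) {x : G} (hx : x ∈ K) (hxH : x ∉ H) :
    2 * Nat.card H ≤ Nat.card K := by
  rw [← card_mul_relIndex h, mul_comm]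
  have h1 : H.relIndex K ≠ 0 := index_ne_zero_of_finite
  have h2 : H.relIndex K ≠ 1 := fun e => hxH (relIndex_eq_one.mp e hx)
  exact Nat.mul_le_mul_left _ (by omega)

theorem idx2 {H K : Subgroup G} (h : H ≤ K) (hc : Nat.card K ≤ 2 * Nat.card H) {x : G} (hx : x ∈ K)
    (hxH : x ∉ H) : H.relIndex K = 2 :=
  relIndex_eq_of_card h (by have := two_mul_le h hx hxH; omega)

theorem mul_mem2 {H K : Subgroup G} (h : H ≤ K) (hc : Nat.card K ≤ 2 * Nat.card H) {x y : G}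
    (hx : x ∈ K) (hy : y ∈ K) (hxH : x ∉ H) (hyH : y ∉ H) : x * y ∈ H :=
  mul_mem_of_relIndex_two (idx2 h hc hx hxH) hx hy hxH hyH

theorem card_le_of_mul_mem {H K : Subgroup G} (h : H ≤ K) {b : G} (hb : b ∈ K)
    (hm : ∀ s ∈ K, s ∉ H → s * b ∈ H) : Nat.card K ≤ 2 * Nat.card H := by
  by_cases e : b ∈ H
  · rw [le_antisymm h fun s hs => by_contra fun hs' => hs' ((H.mul_mem_cancel_right e).mp (hm s hs hs'))]
    omega
  · rw [← card_mul_relIndex h, relIndex_eq_two_of hb e hm]; omega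

theorem comm2 {H K : Subgroup G} (h : H ≤ K) (hc : Nat.card K ≤ 2 * Nat.card H)
    (hz : ∀ a ∈ H, ∀ x ∈ K, a * x = x * a) {x y : G} (hx : x ∈ K) (hy : y ∈ K) : x * y = y * x := by
  by_cases h1 : x ∈ H
  · exact hz x h1 y hy
  by_cases h2 : y ∈ H
  · exact (hz y h2 x hx).symm
  have := hz _ (mul_mem2 h hc hx hy h1 h2) y hy
  rw [← mul_assoc] at this
  exact mul_right_cancel this

theorem dih_quot {D : Subgroup G} {t t' : G} (ht : t ∈ normalizer (D : Set G))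
    (ht' : t' ∈ normalizer (D : Set G)) (h2 : t * t ∈ D) (h2' : t' * t' ∈ D) :
    (∃ y ∈ normalizer (D : Set G), (y * t * y⁻¹)⁻¹ * t' ∈ D) ∨
      ∃ n ∈ normalizer (D : Set G), n ∉ D ∧ (n * t * n⁻¹)⁻¹ * t ∈ D ∧ (n * t' * n⁻¹)⁻¹ * t' ∈ D := by
  let π := QuotientGroup.mk' (D.subgroupOf (normalizer (D : Set G)))
  have key : ∀ a b : normalizer (D : Set G), π a = π b ↔ (a : G)⁻¹ * b ∈ D := fun a b =>
    QuotientGroup.eq
  have k1 : ∀ a : normalizer (D : Set G), π a = 1 ↔ (a : G) ∈ D := fun a =>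
    QuotientGroup.eq_one_iff a
  by_cases h : IsConj (π ⟨t, ht⟩) (π ⟨t', ht'⟩)
  · obtain ⟨c, hc⟩ := isConj_iff.mp h
    obtain ⟨y, rfl⟩ := QuotientGroup.mk'_surjective _ c
    exact Or.inl ⟨y, y.2, (key (y * ⟨t, ht⟩ * y⁻¹) ⟨t', ht'⟩).mp (by rw [map_mul, map_mul, map_inv]; exact hc)⟩
  · obtain ⟨n, h1, h3, h4⟩ := exists_central_involution_of_not_isConj
      (by rw [← map_mul]; exact (k1 _).mpr h2) (by rw [← map_mul]; exact (k1 _).mpr h2') h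
    rw [← map_mul, ← map_pow] at h1 h3 h4
    generalize ((⟨t, ht⟩ : normalizer (D : Set G)) * ⟨t', ht'⟩) ^ n = u at *
    refine Or.inr ⟨u, u.2, fun e => ne_one_of_orderOf_two h1 ((k1 _).mpr e),
      (key (u * ⟨t, ht⟩ * u⁻¹) ⟨t, ht⟩).mp ?_, (key (u * ⟨t', ht'⟩ * u⁻¹) ⟨t', ht'⟩).mp ?_⟩
    · rw [map_mul, map_mul, h3.eq, map_inv, mul_inv_cancel_right]
    · rw [map_mul, map_mul, h4.eq, map_inv, mul_inv_cancel_right]

omit [Finite G] in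
theorem conj_mem_Cz {g x u : G} (h : x ∈ Cz u) : g * x * g⁻¹ ∈ Cz (g * u * g⁻¹) := by
  rw [mem_Cz] at *
  calc _ = g * (x * u) * g⁻¹ := by group
    _ = _ := by rw [h]; group

omit [Finite G] in
theorem Cz_symm {x u : G} (h : x ∈ Cz u) : u ∈ Cz x := mem_Cz.mpr (mem_Cz.mp h).symm

omit [Finite G] in
theorem conj_eq {x u : G} (h : x ∈ Cz u) : x * u * x⁻¹ = u := by
  rw [mem_Cz.mp h, mul_inv_cancel_right]

omit [Finite G] in
theorem mem_of_conj {x u : G} (h : x * u * x⁻¹ = u) : x ∈ Cz u :=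
  mem_Cz.mpr (mul_inv_eq_iff_eq_mul.mp h)

omit [Finite G] in
theorem self_mem (u : G) : u ∈ Cz u := mem_Cz.mpr rfl

omit [Finite G] in
theorem isConj_cj {z u : G} (h : IsConj z u) (g : G) : IsConj z (g * u * g⁻¹) :=
  h.trans (isConj_iff.mpr ⟨g, rfl⟩)

/-- The standing hypothesis. -/
structure Hy (z : G) : Prop where
  hz : orderOf z = 2
  card : Nat.card (Cz z) = 128
  odd : Odd (Cz z).index
  max : ∀ X : Subgroup G, X ≠ ⊥ → Cz z ≤ normalizer (X : Set G) → X ≤ Cz z →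
    normalizer (X : Set G) ≤ Cz z
  two : ∀ K : Subgroup G, K.index ≠ 2

/-- A pair of commuting conjugates with largest common centralizer. -/
structure MP (z w : G) : Prop extends Hy z where
  cw : IsConj z w
  ne : w ≠ z
  comm : w ∈ Cz z
  mx : ∀ u v, IsConj z u → IsConj z v → u ≠ v → u ∈ Cz v →
    Nat.card ↥(Cz u ⊓ Cz v) ≤ Nat.card ↥(Cz z ⊓ Cz w)

/-- The conjugates of `z` in the centre of `D`. -/
def Om (z w u : G) : Prop := IsConj z u ∧ Cz z ⊓ Cz w ≤ Cz u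

namespace Hy

variable {z : G} (h : Hy z)
include h

theorem card_Cz {u : G} (hu : IsConj z u) : Nat.card (Cz u) = 128 := by
  obtain ⟨g, rfl⟩ := isConj_iff.mp hu
  rw [← cj_Cz, card_cj, h.card]

theorem pg {u : G} (hu : IsConj z u) : IsPGroup 2 (Cz u) :=
  IsPGroup.of_card (n := 7) (h.card_Cz hu)

theorem ord {u : G} (hu : IsConj z u) : orderOf u = 2 := by
  obtain ⟨g, rfl⟩ := isConj_iff.mp hu
  rw [orderOf_conj, h.hz]

theorem sq {u : G} (hu : IsConj z u) : u * u = 1 := sq_of_two (h.ord hu)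

theorem not_le {u v : G} (hu : IsConj z u) (hv : IsConj z v) (hne : u ≠ v) : ¬ Cz u ≤ Cz v := by
  intro e
  obtain ⟨g, rfl⟩ := isConj_iff.mp hu
  obtain ⟨k, hk⟩ := isConj_iff.mp (isConj_cj hv g⁻¹)
  have h1 := cj_mono g⁻¹ e
  rw [cj_Cz, cj_Cz, ← hk, show g⁻¹ * (g * z * g⁻¹) * g⁻¹⁻¹ = z by group, ← cj_Cz] at h1
  have h2 := cj_eq_self_iff.mp (eq_of_le_of_card_ge h1 (card_cj _ _).le).symm
  have h3 := h.max _ (fun e => ne_one_of_orderOf_two h.hz (mem_bot.mp (e ▸ self_mem z)))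
    le_normalizer le_rfl h2
  rw [conj_eq h3] at hk
  exact hne (by rw [hk]; group)

theorem dvd {X : Subgroup G} (hX : X ≤ Cz z) : Nat.card X ∣ 128 := h.card ▸ card_dvd_of_le hX

theorem not_cent {c a : G} (hc : c ≠ 1) (h1 : Cz z ≤ Cz c) (ha : a ∈ Cz c) : a ∈ Cz z :=
  h.max _ (zpowers_ne_bot.mpr hc) (h1.trans (Cz_le_normalizer c))
    (zpowers_le.mpr (Cz_symm (h1 (self_mem z)))) (Cz_le_normalizer c ha)

end Hy

namespace MP

variable {z w : G} (h : MP z w)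
include h

theorem zD : z ∈ Cz z ⊓ Cz w := ⟨self_mem z, Cz_symm h.comm⟩

theorem wD : w ∈ Cz z ⊓ Cz w := ⟨h.comm, self_mem w⟩

theorem omz : Om z w z := ⟨IsConj.refl z, inf_le_left⟩

theorem omw : Om z w w := ⟨h.cw, inf_le_right⟩

theorem om_mem {u : G} (hu : Om z w u) : u ∈ Cz z ⊓ Cz w :=
  ⟨Cz_symm (hu.2 h.zD), Cz_symm (hu.2 h.wD)⟩

theorem fix {u v g : G} (hu : Om z w u) (hv : Om z w v) (h1 : g ∈ Cz u) (h2 : g ∈ Cz v)
    (hg : g ∉ Cz z ⊓ Cz w) : u = v := by_contra fun e =>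
  hg ((eq_of_le_of_card_ge (le_inf hu.2 hv.2) (h.mx u v hu.1 hv.1 e (hv.2 (h.om_mem hu)))).ge
    ⟨h1, h2⟩)

omit h [Finite G] in
theorem om_conj {u y : G} (hu : Om z w u) (hy : y ∈ normalizer ((Cz z ⊓ Cz w : Subgroup G) : Set G)) :
    Om z w (y * u * y⁻¹) := ⟨isConj_cj hu.1 y, fun x hx => by
      simpa [mul_assoc] using conj_mem_Cz (g := y) (hu.2 (conj_mem_of_mem_normalizer' hy hx))⟩

theorem exists_t {u : G} (hu : Om z w u) : ∃ t ∈ Cz u, t ∉ Cz z ⊓ Cz w ∧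
    t ∈ normalizer ((Cz z ⊓ Cz w : Subgroup G) : Set G) ∧ t * t ∈ Cz z ⊓ Cz w := by
  simpa only [pow_two] using exists_mem_normalizer_not_mem_pow_mem (h.pg hu.1) hu.2 fun e => by
    by_cases e1 : u = z
    · exact h.not_le hu.1 h.cw (e1 ▸ h.ne.symm) (e.trans inf_le_right)
    · exact h.not_le hu.1 (IsConj.refl z) e1 (e.trans inf_le_left)

theorem dih {u v t t' : G} (hu : Om z w u) (hv : Om z w v) (hne : u ≠ v) (h1 : t ∈ Cz u)
    (h1' : t' ∈ Cz v) (h2 : t ∉ Cz z ⊓ Cz w) (h2' : t' ∉ Cz z ⊓ Cz w)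
    (h3 : t ∈ normalizer ((Cz z ⊓ Cz w : Subgroup G) : Set G))
    (h3' : t' ∈ normalizer ((Cz z ⊓ Cz w : Subgroup G) : Set G)) (h4 : t * t ∈ Cz z ⊓ Cz w)
    (h4' : t' * t' ∈ Cz z ⊓ Cz w) : ∃ y ∈ normalizer ((Cz z ⊓ Cz w : Subgroup G) : Set G),
      (y * t * y⁻¹)⁻¹ * t' ∈ Cz z ⊓ Cz w ∧ y * u * y⁻¹ = v := by
  have key : ∀ {u v t t' y : G}, Om z w u → Om z w v → t ∈ Cz u → t' ∈ Cz v → t' ∉ Cz z ⊓ Cz w →
      y ∈ normalizer ((Cz z ⊓ Cz w : Subgroup G) : Set G) → (y * t * y⁻¹)⁻¹ * t' ∈ Cz z ⊓ Cz w →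
      y * u * y⁻¹ = v := fun {u v t t' y} hu hv h1 h1' h2' hy e =>
    h.fix (om_conj hu hy) hv (by
      simpa [mul_assoc] using mul_mem (conj_mem_Cz (g := y) h1) ((om_conj hu hy).2 e)) h1' h2'
  rcases dih_quot h3 h3' h4 h4' with ⟨y, hy, e⟩ | ⟨n, hn, e1, e2, e3⟩
  · exact ⟨y, hy, e, key hu hv h1 h1' h2' hy e⟩
  · exact absurd (h.fix hu hv (mem_of_conj (key hu hu h1 h1 h2 hn e2))
      (mem_of_conj (key hv hv h1' h1' h2' hn e3)) e1) hne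

theorem uniq {a b : G} (ha : a ∈ Cz z ⊓ normalizer ((Cz z ⊓ Cz w : Subgroup G) : Set G))
    (hb : b ∈ Cz z ⊓ normalizer ((Cz z ⊓ Cz w : Subgroup G) : Set G)) (a1 : a ∉ Cz z ⊓ Cz w)
    (b1 : b ∉ Cz z ⊓ Cz w) (a2 : a * a ∈ Cz z ⊓ Cz w) (b2 : b * b ∈ Cz z ⊓ Cz w) :
    a⁻¹ * b ∈ Cz z ⊓ Cz w := by
  obtain ⟨t, t1, t2, t3, t4⟩ := exists_not_mem_comm_mem_pow_mem
    ((h.pg (IsConj.refl z)).to_le (inf_le_left : Cz z ⊓ normalizer ((Cz z ⊓ Cz w : Subgroup G) :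
      Set G) ≤ _)) le_rfl le_normalizer inf_le_right (fun e => a1 (e ha))
  obtain ⟨t', s1, s2, s3, s4⟩ := h.exists_t h.omw
  obtain ⟨y, y1, y2, y3⟩ := h.dih h.omz h.omw h.ne.symm t1.1 s1 t2 s2 t1.2 s3 (by rwa [← pow_two]) s4
  suffices k : ∀ a ∈ Cz z ⊓ normalizer ((Cz z ⊓ Cz w : Subgroup G) : Set G), a ∉ Cz z ⊓ Cz w →
      a * a ∈ Cz z ⊓ Cz w → t⁻¹ * a ∈ Cz z ⊓ Cz w by
    simpa [mul_assoc] using mul_mem (inv_mem (k a ha a1 a2)) (k b hb b1 b2)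
  intro a ha a1 a2
  obtain ⟨x, x1, x2, x3⟩ := h.dih h.omz h.omw h.ne.symm ha.1 s1 a1 s2 ha.2 s3 a2 s4
  have k1 := t4 (x⁻¹ * y) ⟨mem_of_conj (by
    rw [show x⁻¹ * y * z * (x⁻¹ * y)⁻¹ = x⁻¹ * (y * z * y⁻¹) * x by group, y3, ← x3]; group),
    (normalizer _).mul_mem ((normalizer _).inv_mem x1) y1⟩
  have k2 := mul_mem (conj_mem_of_mem_normalizer' t1.2 k1)
    (conj_mem_of_mem_normalizer' x1 (mul_mem y2 (inv_mem x2)))
  convert k2 using 1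
  group

theorem conj {r : G} (hr : r ∈ Cz z) : MP z (r * w * r⁻¹) := by
  have e : Cz z ⊓ Cz (r * w * r⁻¹) = cj r (Cz z ⊓ Cz w) := by rw [cj_inf, cj_Cz, cj_Cz, conj_eq hr]
  refine ⟨h.toHy, isConj_cj h.cw r, fun e => h.ne ?_, conj_eq hr ▸ conj_mem_Cz h.comm,
    fun u v hu hv e1 e2 => ?_⟩
  · rw [← conj_eq hr] at e
    simpa using e
  · rw [e, card_cj]; exact h.mx u v hu hv e1 e2

end MP

end Cfsg.Agent.H9.MS
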