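import Cfsg.Agent.H9.D8
import Cfsg.Agent.H9.FourGroup

/-! Computations in `Z₂ × S₄` and small counting lemmas. -/

set_option autoImplicit false

namespace Cfsg.Agent.H9

open Subgroup Equiv

variable {G : Type*} [Group G]

theorem card_dvd_ncard_of_conj_free [Finite G] (V : Subgroup G) (S : Set G)
    (hS : ∀ v ∈ V, ∀ x ∈ S, v * x * v⁻¹ ∈ S) (hf : ∀ v ∈ V, ∀ x ∈ S, v * x = x * v → v = 1) :
    Nat.card V ∣ S.ncard := by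
  let _ : MulAction V G := MulAction.compHom G (MulAut.conj.comp V.subtype)
  refine H6.dvd_ncard_of_orbits (G := V) S (fun g x hx => hS g g.2 x hx) fun x hx => ?_
  rw [show MulAction.stabilizer V x = ⊥ from eq_bot_iff.mpr fun v hv => Subtype.ext
    (hf v v.2 x hx (mul_inv_eq_iff_eq_mul.mp (show (v : G) * x * (v : G)⁻¹ = x from hv))), index_bot]

theorem card_of_four [Finite G] {a b : G} (ha : orderOf a = 2) (hb : IsConj a b)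
    (hab : IsConj a (a * b)) (hC : ∀ c, c * a = a * c → c = 1 ∨ c = a ∨ c = b ∨ c = a * b) :
    ∃ j, Nat.card G = 4 * j ∧ (j ≤ 11 ∨ j = 15) := by
  have hb2 : orderOf b = 2 := H6.orderOf_eq_of_isConj hb ▸ ha
  have hab2 : orderOf (a * b) = 2 := H6.orderOf_eq_of_isConj hab ▸ ha
  have haa := mul_self_of_orderOf_two ha
  have hc : b * a = a * b := by
    rw [← inv_eq_of_orderOf_two hab2, mul_inv_rev, inv_eq_of_orderOf_two ha,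
      inv_eq_of_orderOf_two hb2]
  have he : ∀ v ∈ centralizer ({a} : Set G), v * v = 1 := fun v hv => by
    rcases hC v (mem_centralizer_singleton_iff.mp hv) with rfl | rfl | rfl | rfl
    exacts [mul_one _, haa, mul_self_of_orderOf_two hb2, mul_self_of_orderOf_two hab2]
  have h4 : Nat.card (centralizer ({a} : Set G)) = 4 := by
    rw [← H6.ncard_subgroup, Set.ncard_eq_four]
    refine ⟨1, a, b, a * b, (ne_one_of_orderOf_two ha).symm, (ne_one_of_orderOf_two hb2).symm,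
      (ne_one_of_orderOf_two hab2).symm, fun h => ne_one_of_orderOf_two hab2 (h ▸ haa),
      fun h => ne_one_of_orderOf_two hb2 (mul_eq_left.mp h.symm),
      fun h => ne_one_of_orderOf_two ha (mul_eq_right.mp h.symm), Set.ext fun c => ⟨fun hc =>
        hC c (mem_centralizer_singleton_iff.mp hc), ?_⟩⟩
    rintro (rfl | rfl | rfl | rfl) <;> refine mem_centralizer_singleton_iff.mpr ?_
    exacts [by simp, rfl, hc, by rw [mul_assoc, hc]]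
  refine ⟨_, h4 ▸ (card_mul_index _).symm, four_group_index h4 he ha
    (mem_centralizer_singleton_iff.mpr rfl) (by simp) (fun c hc v hv => comm_of_sq_eq_one
      (fun x hx => by rw [pow_two, he x hx]) (mem_centralizer_singleton_iff.mpr hc) hv)
    fun v hv hv1 => ?_⟩
  rcases hC v (mem_centralizer_singleton_iff.mp hv) with rfl | rfl | rfl | rfl
  exacts [absurd rfl hv1, IsConj.refl _, hb, hab]

theorem exists_conj_of_index_six [Finite G] {H H' : Subgroup G} (hG : Nat.card G = 360)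
    (hH : Nat.card H = 60) (hH' : Nat.card H' = 60) (h : 12 ∣ Nat.card (H ⊓ H' : Subgroup G)) :
    ∃ k : G, ∀ a ∈ H', k⁻¹ * a * k ∈ H := by
  have h1 := card_inf_mul_relIndex H H'
  have h2 : (MulAction.orbit H' ((1 : G) : G ⧸ H)).ncard = H.relIndex H' := by
    rw [← MulAction.index_stabilizer, relIndex]
    congr 1
    ext a
    rw [MulAction.mem_stabilizer_iff, mem_subgroupOf]
    show (((a : G) * 1 : G) : G ⧸ H) = ((1 : G) : G ⧸ H) ↔ _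
    rw [eq_comm, QuotientGroup.eq]
    simp
  obtain ⟨m, hm⟩ := h
  rw [hm, hH'] at h1
  have h3 : H.relIndex H' ∣ 5 := ⟨m, by linarith⟩
  rcases (Nat.dvd_prime Nat.prime_five).mp h3 with h4 | h4
  · exact ⟨1, fun a ha => by simpa using relIndex_eq_one.mp h4 ha⟩
  have h5 := H.card_mul_index
  have h6 := Set.ncard_add_ncard_compl (MulAction.orbit H' ((1 : G) : G ⧸ H))
  rw [h2, h4, ← index_eq_card] at h6
  obtain ⟨ω, hω⟩ := Set.ncard_eq_one.mp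
    (show (MulAction.orbit H' ((1 : G) : G ⧸ H))ᶜ.ncard = 1 by rw [hG, hH] at h5; omega)
  obtain ⟨k, rfl⟩ := QuotientGroup.mk_surjective ω
  refine ⟨k, fun a ha => ?_⟩
  have h7 : (⟨a, ha⟩ : H') • (k : G ⧸ H) ∈ (MulAction.orbit H' ((1 : G) : G ⧸ H))ᶜ := fun h8 =>
    (hω ▸ Set.mem_singleton _ : (k : G ⧸ H) ∈ (MulAction.orbit H' ((1 : G) : G ⧸ H))ᶜ)
      (by simpa using MulAction.mem_orbit_of_mem_orbit (⟨a, ha⟩ : H')⁻¹ h8)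
  rw [hω, Set.mem_singleton_iff] at h7
  have h8 : ((k : G) : G ⧸ H) = (a * k : G) := h7.symm
  simpa [mul_assoc] using QuotientGroup.eq.mp h8

namespace ZS

abbrev Gam := Multiplicative (ZMod 2) × Perm (Fin 4)
def τ : Gam := (Multiplicative.ofAdd 1, 1)
def ζ0 : Perm (Fin 4) := swap 0 1 * swap 2 3
def ζ1 : Perm (Fin 4) := swap 0 2 * swap 1 3
def ζ : Gam := (1, ζ0)
def σ : Gam := (1, swap 0 1)
def ω0 : Perm (Fin 4) := swap 0 1 * swap 0 2 * swap 1 3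
def ξ0 : Perm (Fin 4) := swap 0 1 * swap 1 2

theorem F1 : ∀ γ : Gam, γ * γ = 1 → γ = 1 ∨ γ = τ ∨ ∃ δ : Gam, δ * γ * δ⁻¹ = ζ ∨
    δ * γ * δ⁻¹ = τ * ζ ∨ δ * γ * δ⁻¹ = σ ∨ δ * γ * δ⁻¹ = τ * σ := by decide +kernel
theorem F2 : ∀ γ : Gam, γ * ζ = ζ * γ → γ * γ = 1 ∨ γ * γ = ζ := by decide +kernel
theorem F3 : ∀ γ : Gam, γ * γ ≠ 1 → γ * γ * (γ * γ) = 1 → ∃ δ : Gam, δ * (γ * γ) * δ⁻¹ = ζ := by
  decide +kernel
theorem F4 : ∀ γ : Gam, (∀ π, (1, π) * γ = γ * (1, π)) → γ = 1 ∨ γ = τ := by decide +kernel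
theorem F5 : Fintype.card {γ : Gam // γ * ζ = ζ * γ} = 16 := by decide +kernel
theorem F6 : ∀ a b : Gam, a * ζ = ζ * a → b * ζ = ζ * b →
    a * b * a⁻¹ * b⁻¹ = 1 ∨ a * b * a⁻¹ * b⁻¹ = ζ := by decide +kernel
theorem F7 : ∀ π : Perm (Fin 4), ∃ ρ : Perm (Fin 4), π = ρ * ρ ∨ π = ρ * ρ * swap 0 1 := by
  decide +kernel

/-- The twisting automorphism. -/
def θ : Gam →* Gam where
  toFun γ := (γ.1 * if Perm.sign γ.2 = 1 then 1 else Multiplicative.ofAdd 1, γ.2)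
  map_one' := by decide +kernel
  map_mul' := by decide +kernel

theorem F8 : (∀ γ, θ (θ γ) = γ) ∧ θ τ = τ ∧ θ ζ = ζ ∧ θ σ = τ * σ := by decide +kernel
theorem F9 : (Finset.univ.filter fun γ : Gam => γ = τ ∨ ∃ δ, δ * (τ * σ) * δ⁻¹ = γ).card = 7 := by
  decide +kernel
theorem F10 : (∀ γ : Gam, γ * τ = τ * γ) ∧ τ * τ = 1 ∧ τ ≠ 1 ∧ ζ * ζ = 1 ∧ ζ ≠ 1 ∧ σ ≠ τ ∧
    ζ * σ = σ * ζ ∧ (1, ω0) * (1, ω0) = ζ ∧ ∀ γ : Gam, γ = (1, γ.2) ∨ γ * τ = (1, γ.2) := by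
  refine ⟨?_, ?_, ?_, ?_, ?_, ?_, ?_, ?_, ?_⟩ <;> decide +kernel
theorem F11 : ξ0 ^ 3 = 1 ∧ ξ0 ≠ 1 ∧ (ξ0 * ζ0) ^ 3 = 1 ∧ ω0 * ω0 = ζ0 ∧ ω0 ^ 4 = 1 ∧ ζ0 ≠ 1 ∧
    swap 0 1 * ω0 * (swap 0 1)⁻¹ = ω0⁻¹ ∧ swap 0 1 * ω0 ≠ ω0 * swap 0 1 ∧ ζ0 * ζ0 = 1 ∧
    ξ0 * ξ0 * (ξ0 * ξ0) = ξ0 := by
  decide +kernel
theorem F12 : ∀ π : Perm (Fin 4), π * ζ0 = ζ0 * π →
    ∃ k : Fin 4, π = ω0 ^ (k : ℕ) ∨ π * swap 0 1 = ω0 ^ (k : ℕ) := by decide +kernel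
theorem F13 : (∀ π : Perm (Fin 4), π * ζ0 = ζ0 * π → (π = 1 ∨ π = ζ0 ∨ π = ζ1 ∨ π = ζ0 * ζ1) ∨
    ∀ ρ, ∃ a : Perm (Fin 4), ρ = a * a ∨ ρ = a * a * π) ∧
    (∃ a : Perm (Fin 4), a * a * ζ0 * (a * a)⁻¹ = ζ1) ∧
    (∃ a : Perm (Fin 4), a * a * ζ0 * (a * a)⁻¹ = ζ0 * ζ1) := by decide +kernel
theorem F14 : Fintype.card {π : Perm (Fin 4) // π * ζ0 = ζ0 * π ∧ π * ζ1 = ζ1 * π} = 4 ∧
    (∀ π : Perm (Fin 4), π * ζ0 = ζ0 * π → π * ζ1 = ζ1 * π →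
      π = 1 ∨ (ξ0 * π ≠ π * ξ0 ∧ ∃ ρ, ρ * π * ρ⁻¹ = ζ0)) ∧
    (∀ π : Perm (Fin 4), π * ζ0 = ζ0 * π → π * ζ1 = ζ1 * π →
      ξ0 * π * ξ0⁻¹ * ζ0 = ζ0 * (ξ0 * π * ξ0⁻¹) ∧ ξ0 * π * ξ0⁻¹ * ζ1 = ζ1 * (ξ0 * π * ξ0⁻¹)) ∧
    ∃ δ : Gam, δ * (τ * σ) * δ⁻¹ * (τ * σ) ≠ τ * σ * (δ * (τ * σ) * δ⁻¹) := by
  refine ⟨?_, ?_, ?_, ?_⟩ <;> decide +kernel

end ZS

end Cfsg.Agent.H9
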